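import Mathlib
import Cfsg.Prelude.Def_TwoFusion
import Cfsg.Prelude.Def_Exceptional
import Cfsg.Prelude.Def_Classical
import Cfsg.Prelude.Def_Sz
import Cfsg.Agent.ClosedTwo.Row

/-!
# Foote's theorem (S1252): the vocabulary of the reduction to simple groups

* `Exc X` : `X` is `PSU(3, 2^n)`, `n ≥ 2`, or a Suzuki group;
* `Row X` : every strongly closed subgroup of a Sylow 2-subgroup `T` of `X` is `1` or `T`, or `X` is exceptional and
  it may also be `Z(T)`;
* `E2`, `E3` : the facts on the exceptional groups used by the reduction;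
* `Concl` : the conclusion of S1252.
-/

set_option autoImplicit false

namespace Cfsg.Agent.ClosedRed

open Subgroup
open Cfsg.Agent.ClosedTwo

universe u v

/-- The exceptional groups: `PSU(3, 2^n)`, `n ≥ 2`, and the Suzuki groups. -/
def Exc (X : Type u) [Group X] : Prop :=
  (∃ (F : Type) (_ : Field F) (_ : Fintype F) (q : ℕ), Fintype.card F = q ^ 2 ∧ Even q ∧ 4 ≤ q ∧
    Nonempty (X ≃* Cfsg.PSU 3 F q)) ∨ Cfsg.Lie.IsoSuzuki X

/-- The rows: the strongly closed subgroups of the simple groups. -/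
def Row (X : Type u) [Group X] : Prop := ClosedRow X ∨ (ClosedRowZ X ∧ Exc X)

/-- The covers of the exceptional groups. -/
def E2 : Prop :=
  ∀ (L : Type u) [Group L] [Finite L], Group.IsPerfect L → Exc (L ⧸ center L) → ClosedRowZ (L ⧸ center L) →
    IsPGroup 2 (center L) →
    ∀ (T : Sylow 2 L) (B : Subgroup L), Cfsg.IsStronglyClosed B (T : Subgroup L) → B ⊓ center L = ⊥ → B ≠ ⊥ →
      ¬ (T : Subgroup L) ≤ B ⊔ center L → center L = ⊥

/-- The action of a strongly closed subgroup on an exceptional group. -/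
def E3 : Prop :=
  ∀ (G : Type u) [Group G] [Finite G] (S : Sylow 2 G) (A L : Subgroup G),
    Cfsg.IsStronglyClosed A (S : Subgroup G) → A ≤ normalizer (L : Set G) → Exc L →
      ∀ T : Sylow 2 L, (T : Subgroup L).map L.subtype = (S : Subgroup G) ⊓ L →
        A ⊓ L = ((center (T : Subgroup L)).map (T : Subgroup L).subtype).map L.subtype →
          ∀ a ∈ A, ∃ z ∈ A ⊓ L, ∀ x ∈ L, a * x * a⁻¹ = z * x * z⁻¹

/-- The conclusion of S1252. -/
def Concl {G : Type u} [Group G] (A : Subgroup G) : Prop :=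
  ∃ (r : ℕ) (L : Fin r → Subgroup G),
    (∀ i j, i ≠ j → ∀ a ∈ L i, ∀ b ∈ L j, a * b = b * a) ∧
    (∀ i, L i ⊓ (⨆ j ∈ {j | j ≠ i}, L j) = ⊥) ∧
    (⨆ i, L i) = Subgroup.normalClosure (A : Set G) ∧
    (∀ i, IsSimpleGroup ↥(L i) ∧
      ((∃ (F : Type) (_ : Field F) (_ : Fintype F) (q : ℕ), Fintype.card F = q ^ 2 ∧ Even q ∧ 4 ≤ q ∧
        Nonempty (↥(L i) ≃* Cfsg.PSU 3 F q)) ∨ Cfsg.IsSuzuki ↥(L i))) ∧
    (∀ i, ∃ P : Sylow 2 ↥(L i),
      (A ⊓ L i) = ((Subgroup.center (P : Subgroup ↥(L i))).map (P : Subgroup ↥(L i)).subtype).map (L i).subtype)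

/-- The orders of the Suzuki groups. -/
def Sz : Prop := ∀ (X : Type u) [Group X] [Finite X] [IsSimpleGroup X], Cfsg.Lie.IsoSuzuki X → Cfsg.IsSuzuki X

/-- `Exc` is invariant under isomorphisms. -/
theorem Exc.congr {X : Type u} {Y : Type v} [Group X] [Group Y] (e : X ≃* Y) (h : Exc X) : Exc Y := by
  rcases h with ⟨F, iF, iFt, q, h1, h2, h3, ⟨f⟩⟩ | h
  · exact Or.inl ⟨F, iF, iFt, q, h1, h2, h3, ⟨e.symm.trans f⟩⟩
  · obtain ⟨F, iF, iFt, m, hm, hF, ⟨f⟩⟩ := h
    exact Or.inr ⟨F, iF, iFt, m, hm, hF, ⟨e.symm.trans f⟩⟩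

theorem Row.congr {X : Type u} {Y : Type v} [Group X] [Group Y] [Finite X] (e : X ≃* Y) (h : Row X) : Row Y := by
  rcases h with h | ⟨h1, h2⟩
  · exact Or.inl (h.congr e)
  · exact Or.inr ⟨h1.congr e, h2.congr e⟩

end Cfsg.Agent.ClosedRed
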