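import Mathlib
import Cfsg.Agent.ClosedRed.Defs

/-!
# Foote's theorem (S1252): the normaliser of a Sylow 2-subgroup of an exceptional group

`Borel T Z`: the facts on `N_L(T)`, `T` a Sylow 2-subgroup of `L = PSU(3, 2^n), Sz(2^n)` and `Z = Z(T)`, used by
`ClosedRed/Inner.lean` (`E3`).
-/

set_option autoImplicit false

namespace Cfsg.Agent.ClosedRed

open Subgroup

universe u v

/-- The facts on the normaliser of `T`. -/
structure Borel {L : Type u} [Group L] (T Z : Subgroup L) : Prop where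
  le : Z ≤ T
  cen : ∀ z ∈ Z, ∀ t ∈ T, z * t = t * z
  two : ∀ z ∈ Z, z * z = 1
  norm : ∀ n ∈ normalizer (T : Set L), ∀ z ∈ Z, n * z * n⁻¹ ∈ Z
  der : Z ≤ ⁅T, T⁆
  faith : ∀ n ∈ normalizer (T : Set L), (∀ t ∈ T, n * t * n⁻¹ * t⁻¹ ∈ Z) → n ∈ T
  hom : ∀ φ : L → L, (∀ t ∈ T, φ t ∈ Z) → (∀ t ∈ T, ∀ u ∈ T, φ (t * u) = φ t * φ u) → (∀ z ∈ Z, φ z = 1) →
    (∀ n ∈ normalizer (T : Set L), ∀ t ∈ T, φ (n * t * n⁻¹) = n * φ t * n⁻¹) → ∀ t ∈ T, φ t = 1
  fix : ∀ z ∈ Z, (∀ n ∈ normalizer (T : Set L), n * z = z * n) → z = 1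

/-- Transport. -/
theorem Borel.map {L : Type u} {L' : Type v} [Group L] [Group L'] (e : L ≃* L') {T Z : Subgroup L} (h : Borel T Z) :
    Borel (T.map e.toMonoidHom) (Z.map e.toMonoidHom) := by
  have hT : ∀ x, e x ∈ T.map e.toMonoidHom ↔ x ∈ T := fun x =>
    ⟨fun ⟨y, hy, he⟩ => e.injective he ▸ hy, fun hx => ⟨x, hx, rfl⟩⟩
  have hZ : ∀ x, e x ∈ Z.map e.toMonoidHom ↔ x ∈ Z := fun x =>
    ⟨fun ⟨y, hy, he⟩ => e.injective he ▸ hy, fun hx => ⟨x, hx, rfl⟩⟩
  have hN : ∀ n, e n ∈ normalizer ((T.map e.toMonoidHom : Subgroup L') : Set L') ↔ n ∈ normalizer (T : Set L) := by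
    intro n
    rw [mem_normalizer_iff, mem_normalizer_iff]
    constructor
    · intro h1 x
      have h2 := h1 (e x)
      rwa [← map_inv, ← map_mul, ← map_mul, hT, hT] at h2
    · intro h1 y
      obtain ⟨x, rfl⟩ := e.surjective y
      rw [← map_inv, ← map_mul, ← map_mul, hT, hT]
      exact h1 x
  constructor
  · exact Subgroup.map_mono h.le
  · rintro _ ⟨z, hz, rfl⟩ _ ⟨t, ht, rfl⟩
    have := congrArg e (h.cen z hz t ht)
    rw [map_mul, map_mul] at this
    exact this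
  · rintro _ ⟨z, hz, rfl⟩
    have := congrArg e (h.two z hz)
    rw [map_mul, map_one] at this
    exact this
  · intro n hn
    obtain ⟨n, rfl⟩ := e.surjective n
    rintro _ ⟨z, hz, rfl⟩
    exact ⟨n * z * n⁻¹, h.norm n ((hN n).1 hn) z hz, by simp⟩
  · rw [← Subgroup.map_commutator]
    exact Subgroup.map_mono h.der
  · intro n hn hc
    obtain ⟨n, rfl⟩ := e.surjective n
    rw [hT]
    refine h.faith n ((hN n).1 hn) fun t ht => ?_
    have := hc (e t) ((hT t).2 ht)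
    rw [← map_inv, ← map_inv, ← map_mul, ← map_mul, ← map_mul, hZ] at this
    exact this
  · intro φ h1 h2 h3 h4
    rintro _ ⟨t, ht, rfl⟩
    have h5 := h.hom (fun x => e.symm (φ (e x))) ?_ ?_ ?_ ?_ t ht
    · have h6 := congrArg e h5
      rw [e.apply_symm_apply, map_one] at h6
      exact h6
    · intro t ht
      obtain ⟨z, hz, he⟩ := h1 (e t) ((hT t).2 ht)
      have he' : e z = φ (e t) := he
      rw [← he', e.symm_apply_apply]
      exact hz
    · intro t ht u hu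
      show e.symm (φ (e (t * u))) = e.symm (φ (e t)) * e.symm (φ (e u))
      rw [map_mul, h2 _ ((hT t).2 ht) _ ((hT u).2 hu), map_mul]
    · intro z hz
      show e.symm (φ (e z)) = 1
      rw [h3 _ ((hZ z).2 hz), map_one]
    · intro n hn t ht
      show e.symm (φ (e (n * t * n⁻¹))) = n * e.symm (φ (e t)) * n⁻¹
      rw [map_mul, map_mul, map_inv, h4 _ ((hN n).2 hn) _ ((hT t).2 ht), map_mul, map_mul, map_inv,
        e.symm_apply_apply]
  · rintro _ ⟨z, hz, rfl⟩ hc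
    have h5 := h.fix z hz fun n hn => ?_
    · rw [h5]
      exact map_one e
    · apply e.injective
      rw [map_mul, map_mul]
      exact hc (e n) ((hN n).2 hn)

end Cfsg.Agent.ClosedRed
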