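import Cfsg.Prelude.Def_Classification2
import Cfsg.Prelude.Def_LieTypeChar
import Cfsg.Agent.ClosedRed.Defs
import Cfsg.Agent.ClosedTwo.Alt
import Cfsg.Agent.Foote.Ind
import Cfsg.Agent.Foote.Bridge
import Cfsg.Agent.S0280
import Cfsg.Agent.S1163

-- merged: Cfsg.Agent.ClosedRed.Assembly
section

/-!
# Foote's theorem (S1252): the list (helper86)

* `LieRows r G` : the rows of the groups of Lie type in odd characteristic `r`;
* `Rows G` : all rows (except the alternating groups, which are done in `ClosedTwo.Alt`);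
* `Rows.row` : a known simple group satisfies `Row G`.
-/

set_option autoImplicit false

namespace Cfsg.Agent.ClosedRed

open Subgroup Cfsg Cfsg.Agent.ClosedTwo

universe u

/-- The rows of the groups of Lie type in odd characteristic `r`. -/
structure LieRows (r : ℕ) (G : Type u) [Group G] : Prop where
  psl : IsPSLChar r G → ClosedRow G
  psp : IsPSpChar r G → ClosedRow G
  psu : IsPSUChar r G → ClosedRow G
  omegaOdd : IsPOmegaOddChar r G → ClosedRow G
  omegaPlus : IsPOmegaPlusChar r G → ClosedRow G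
  omegaMinus : IsPOmegaMinusChar r G → ClosedRow G
  g2 : ∀ (F : Type) [Field F] [Fintype F] [CharP F r], 3 ≤ Fintype.card F → Nonempty (G ≃* Lie.chevG2.group F) →
    ClosedRow G
  f4 : ∀ (F : Type) [Field F] [Fintype F] [CharP F r], Nonempty (G ≃* Lie.chevF4.group F) → ClosedRow G
  e6 : ∀ (F : Type) [Field F] [Fintype F] [CharP F r], Nonempty (G ≃* Lie.chevE6.group F) → ClosedRow G
  e7 : ∀ (F : Type) [Field F] [Fintype F] [CharP F r], Nonempty (G ≃* Lie.chevE7.group F) → ClosedRow G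
  e8 : ∀ (F : Type) [Field F] [Fintype F] [CharP F r], Nonempty (G ≃* Lie.chevE8.group F) → ClosedRow G
  twE6 : ∀ (K : Type) [Field K] [Fintype K] [CharP K r] (q : ℕ), IsPrimePow q → Fintype.card K = q ^ 2 →
    Nonempty (G ≃* Lie.twistedE6 K q) → ClosedRow G
  twD4 : ∀ (K : Type) [Field K] [Fintype K] [CharP K r] (q : ℕ), IsPrimePow q → Fintype.card K = q ^ 3 →
    Nonempty (G ≃* Lie.twistedD4 K q) → ClosedRow G

/-- All rows. -/
structure Rows (G : Type u) [Group G] : Prop where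
  /-- Lie type in characteristic `2` -/
  char : IsLieTypeChar 2 G → Row G
  /-- Lie type in odd characteristic -/
  odd : ∀ r : ℕ, r.Prime → r ≠ 2 → LieRows r G
  ree : Lie.IsoRee G → ClosedRow G
  tits : Lie.IsoTits G → ClosedRow G
  m11 : Spor.IsoM11 G → ClosedRow G
  m12 : Spor.IsoM12 G → ClosedRow G
  m22 : Spor.IsoM22 G → ClosedRow G
  m23 : Spor.IsoM23 G → ClosedRow G
  m24 : Spor.IsoM24 G → ClosedRow G
  j1 : Spor.IsoJ1 G → ClosedRow G
  j2 : Spor.IsoJ2 G → ClosedRow G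
  j3 : Spor.IsoJ3 G → ClosedRow G
  j4 : Spor.IsoJ4 G → ClosedRow G
  co1 : Spor.IsoCo1 G → ClosedRow G
  co2 : Spor.IsoCo2 G → ClosedRow G
  co3 : Spor.IsoCo3 G → ClosedRow G
  mcl : Spor.IsoMcL G → ClosedRow G
  hs : Spor.IsoHS G → ClosedRow G
  suz : Spor.IsoSuz G → ClosedRow G
  he : Spor.IsoHe G → ClosedRow G
  ru : Spor.IsoRu G → ClosedRow G
  on : Spor.IsoON G → ClosedRow G
  ly : Spor.IsoLy G → ClosedRow G
  fi22 : Spor.IsoFi22 G → ClosedRow G
  fi23 : Spor.IsoFi23 G → ClosedRow G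
  fi24 : Spor.IsoFi24' G → ClosedRow G
  hn : Spor.IsoHN G → ClosedRow G
  th : Spor.IsoTh G → ClosedRow G
  b : Spor.IsoB G → ClosedRow G
  m : Spor.IsoM G → ClosedRow G

theorem exists_char (F : Type) [Field F] [Fintype F] : ∃ r : ℕ, r.Prime ∧ CharP F r := by
  obtain ⟨r, hr⟩ := CharP.exists F
  exact ⟨r, CharP.char_is_prime F r, hr⟩

variable {G : Type u} [Group G]

theorem Rows.spor (R : Rows G) (h : IsSporadicGroup G) : Row G := by
  left
  rcases h with h | h | h | h | h | h | h | h | h | h | h | h | h | h | h | h | h | h | h | h | h | h | h | h | h | h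
  · exact R.m11 h
  · exact R.m12 h
  · exact R.m22 h
  · exact R.m23 h
  · exact R.m24 h
  · exact R.j1 h
  · exact R.j2 h
  · exact R.j3 h
  · exact R.j4 h
  · exact R.co1 h
  · exact R.co2 h
  · exact R.co3 h
  · exact R.mcl h
  · exact R.hs h
  · exact R.suz h
  · exact R.he h
  · exact R.ru h
  · exact R.on h
  · exact R.ly h
  · exact R.fi22 h
  · exact R.fi23 h
  · exact R.fi24 h
  · exact R.hn h
  · exact R.th h
  · exact R.b h
  · exact R.m h

theorem Rows.exc (R : Rows G) (h : IsExceptionalLieType G) : Row G := by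
  rcases h with h | h | h | h | h | h | h | h | h | h | h
  · obtain ⟨F, iF, iT, h3, e⟩ := h
    obtain ⟨r, hr, hF⟩ := exists_char F
    by_cases hrp : r = 2
    · subst hrp
      exact R.char (Or.inr (Or.inr (Or.inr (Or.inr (Or.inr (Or.inr (Or.inl ⟨F, iF, iT, hF, Or.inl ⟨h3, e⟩⟩)))))))
    · exact Or.inl ((R.odd r hr hrp).g2 F h3 e)
  · obtain ⟨F, iF, iT, e⟩ := h
    obtain ⟨r, hr, hF⟩ := exists_char F
    by_cases hrp : r = 2
    · subst hrp
      exact R.char (Or.inr (Or.inr (Or.inr (Or.inr (Or.inr (Or.inr (Or.inl ⟨F, iF, iT, hF, Or.inr (Or.inl e)⟩)))))))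
    · exact Or.inl ((R.odd r hr hrp).f4 F e)
  · obtain ⟨F, iF, iT, e⟩ := h
    obtain ⟨r, hr, hF⟩ := exists_char F
    by_cases hrp : r = 2
    · subst hrp
      exact R.char (Or.inr (Or.inr (Or.inr (Or.inr (Or.inr (Or.inr (Or.inl ⟨F, iF, iT, hF, Or.inr (Or.inr (Or.inl e))⟩)))))))
    · exact Or.inl ((R.odd r hr hrp).e6 F e)
  · obtain ⟨F, iF, iT, e⟩ := h
    obtain ⟨r, hr, hF⟩ := exists_char F
    by_cases hrp : r = 2
    · subst hrp
      exact R.char (Or.inr (Or.inr (Or.inr (Or.inr (Or.inr (Or.inr (Or.inl ⟨F, iF, iT, hF,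
        Or.inr (Or.inr (Or.inr (Or.inl e)))⟩)))))))
    · exact Or.inl ((R.odd r hr hrp).e7 F e)
  · obtain ⟨F, iF, iT, e⟩ := h
    obtain ⟨r, hr, hF⟩ := exists_char F
    by_cases hrp : r = 2
    · subst hrp
      exact R.char (Or.inr (Or.inr (Or.inr (Or.inr (Or.inr (Or.inr (Or.inl ⟨F, iF, iT, hF,
        Or.inr (Or.inr (Or.inr (Or.inr e)))⟩)))))))
    · exact Or.inl ((R.odd r hr hrp).e8 F e)
  · obtain ⟨F, iF, iT, q, hq, hc, e⟩ := h
    obtain ⟨r, hr, hF⟩ := exists_char F
    by_cases hrp : r = 2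
    · subst hrp
      exact R.char (Or.inr (Or.inr (Or.inr (Or.inr (Or.inr (Or.inr (Or.inr (Or.inl ⟨F, iF, iT, hF, q, hq,
        Or.inl ⟨hc, e⟩⟩))))))))
    · exact Or.inl ((R.odd r hr hrp).twE6 F q hq hc e)
  · obtain ⟨F, iF, iT, q, hq, hc, e⟩ := h
    obtain ⟨r, hr, hF⟩ := exists_char F
    by_cases hrp : r = 2
    · subst hrp
      exact R.char (Or.inr (Or.inr (Or.inr (Or.inr (Or.inr (Or.inr (Or.inr (Or.inl ⟨F, iF, iT, hF, q, hq,
        Or.inr ⟨hc, e⟩⟩))))))))
    · exact Or.inl ((R.odd r hr hrp).twD4 F q hq hc e)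
  · exact R.char (Or.inr (Or.inr (Or.inr (Or.inr (Or.inr (Or.inr (Or.inr (Or.inr (Or.inl ⟨rfl, h⟩)))))))))
  · exact Or.inl (R.ree h)
  · exact R.char (Or.inr (Or.inr (Or.inr (Or.inr (Or.inr (Or.inr (Or.inr (Or.inr (Or.inr (Or.inl ⟨rfl, h⟩))))))))))
  · exact Or.inl (R.tits h)

theorem comm_of_primeCyclic {G : Type*} [Group G] (h : IsPrimeCyclic G) : IsMulCommutative G := by
  have : Fact (Nat.card G).Prime := ⟨h⟩
  have := isCyclic_of_prime_card (α := G) rfl
  exact ⟨⟨fun a b => (IsCyclic.commGroup (α := G)).mul_comm a b⟩⟩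

theorem row_alt (h : IsAlternating G) : Row G := by
  obtain ⟨n, hn, ⟨e⟩⟩ := h
  have h1 : ClosedRow (alternatingGroup (Fin n)) := Cfsg.Agent.ClosedTwo.Alt.closedRow
  exact Or.inl (h1.congr e.symm)

/-- **The list**: a known simple group satisfies `Row G`. -/
theorem Rows.row (R : Rows G) (hna : ¬ IsMulCommutative G) (h : IsKnownSimple' G) : Row G := by
  rcases h with h | h | h | h | h | h | h | h | h | h
  · exact absurd (comm_of_primeCyclic h) hna
  · exact row_alt h
  · obtain ⟨F, iF, iT, n, h1, h2, e⟩ := h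
    obtain ⟨r, hr, hF⟩ := exists_char F
    have key : IsPSLChar r G := ⟨F, iF, iT, hF, n, h1, h2, e⟩
    by_cases hrp : r = 2
    · subst hrp
      exact R.char (Or.inl key)
    · exact Or.inl ((R.odd r hr hrp).psl key)
  · obtain ⟨F, iF, iT, n, h1, h2, e⟩ := h
    obtain ⟨r, hr, hF⟩ := exists_char F
    have key : IsPSpChar r G := ⟨F, iF, iT, hF, n, h1, h2, e⟩
    by_cases hrp : r = 2
    · subst hrp
      exact R.char (Or.inr (Or.inl key))
    · exact Or.inl ((R.odd r hr hrp).psp key)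
  · obtain ⟨F, iF, iT, n, q, h1, h2, h3, e⟩ := h
    obtain ⟨r, hr, hF⟩ := exists_char F
    have key : IsPSUChar r G := ⟨F, iF, iT, hF, n, q, h1, h2, h3, e⟩
    by_cases hrp : r = 2
    · subst hrp
      exact R.char (Or.inr (Or.inr (Or.inl key)))
    · exact Or.inl ((R.odd r hr hrp).psu key)
  · obtain ⟨F, iF, iT, n, h1, h2, e⟩ := h
    obtain ⟨r, hr, hF⟩ := exists_char F
    have key : IsPOmegaOddChar r G := ⟨F, iF, iT, hF, n, h1, h2, e⟩
    by_cases hrp : r = 2
    · subst hrp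
      exact R.char (Or.inr (Or.inr (Or.inr (Or.inl key))))
    · exact Or.inl ((R.odd r hr hrp).omegaOdd key)
  · obtain ⟨F, iF, iT, n, h1, e⟩ := h
    obtain ⟨r, hr, hF⟩ := exists_char F
    have key : IsPOmegaPlusChar r G := ⟨F, iF, iT, hF, n, h1, e⟩
    by_cases hrp : r = 2
    · subst hrp
      exact R.char (Or.inr (Or.inr (Or.inr (Or.inr (Or.inl key)))))
    · exact Or.inl ((R.odd r hr hrp).omegaPlus key)
  · obtain ⟨F, iF, iT, n, a, b, h1, h2, e⟩ := h
    obtain ⟨r, hr, hF⟩ := exists_char F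
    have key : IsPOmegaMinusChar r G := ⟨F, iF, iT, hF, n, a, b, h1, h2, e⟩
    by_cases hrp : r = 2
    · subst hrp
      exact R.char (Or.inr (Or.inr (Or.inr (Or.inr (Or.inr (Or.inl key))))))
    · exact Or.inl ((R.odd r hr hrp).omegaMinus key)
  · exact R.exc h
  · exact R.spor h

end Cfsg.Agent.ClosedRed

end

-- merged: Cfsg.Agent.ClosedRed.IndCR
section

/-!
# Foote's theorem (S1252): the induction hypothesis of the sporadic rows (helper86)

* `exc_order` : the orders of the exceptional groups;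
* `indCR_of_row` : `IndCR n` from the rows of the smaller simple groups;
* `of_cr`, `of_closedRow` : rows of explicit models give rows of the isomorphic groups.
-/

set_option autoImplicit false

namespace Cfsg.Agent.ClosedRed

open Subgroup Cfsg Cfsg.Agent.ClosedTwo

universe u

theorem exc_order {G : Type*} [Group G] [Finite G] (h : Exc G) : Cfsg.Agent.Foote.Exc (Nat.card G) := by
  rcases h with ⟨F, i1, i2, q, hF, hq, hq4, ⟨e⟩⟩ | ⟨F, i1, i2, m, hm, hF, ⟨e⟩⟩
  · left
    obtain ⟨p, hp⟩ := CharP.exists F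
    have hpp : p.Prime := (CharP.char_is_prime_or_zero F p).resolve_right (CharP.char_ne_zero_of_finite F p)
    obtain ⟨k, _, hk⟩ := FiniteField.card F p
    have h2 : 2 ∣ p ^ (k : ℕ) := by
      rw [← hk, hF]
      exact dvd_pow (even_iff_two_dvd.1 hq) two_ne_zero
    have hp2 : p = 2 := ((Nat.prime_dvd_prime_iff_eq Nat.prime_two hpp).1 (Nat.prime_two.dvd_of_dvd_pow h2)).symm
    subst hp2
    rw [hF] at hk
    obtain ⟨n, hn, rfl⟩ : ∃ n, n ≤ (k : ℕ) ∧ q = 2 ^ n :=
      (Nat.dvd_prime_pow Nat.prime_two).1 (hk ▸ dvd_pow_self q two_ne_zero)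
    have hn2 : 2 ≤ n := by
      by_contra h
      have : n = 0 ∨ n = 1 := by omega
      rcases this with rfl | rfl <;> norm_num at hq4
    have hcard := Cfsg.Agent.S0280.result hF 3 (by norm_num)
    rw [← Nat.card_congr e.toEquiv] at hcard
    have h3 : (∏ i ∈ Finset.range 3, (if Even i then (2 ^ n) ^ (i + 1) + 1 else (2 ^ n) ^ (i + 1) - 1)) =
        (2 ^ n + 1) * (((2 ^ n) ^ 2 - 1) * ((2 ^ n) ^ 3 + 1)) := by
      rw [Finset.prod_range_succ, Finset.prod_range_succ, Finset.prod_range_one]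
      have e0 : Even 0 := ⟨0, rfl⟩
      have e1 : ¬ Even 1 := by decide
      have e2 : Even 2 := ⟨1, rfl⟩
      rw [if_pos e0, if_neg e1, if_pos e2, zero_add, pow_one, mul_assoc]
    rw [h3, show 3 * (3 - 1) / 2 = 3 by norm_num] at hcard
    refine ⟨n, hn2, ?_⟩
    have hpos : 0 < 2 ^ n + 1 := by positivity
    refine Nat.eq_of_mul_eq_mul_left hpos ?_
    calc (2 ^ n + 1) * (Nat.card G * Nat.gcd 3 (2 ^ n + 1))
        = Nat.gcd 3 (2 ^ n + 1) * ((2 ^ n + 1) * Nat.card G) := by ring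
      _ = (2 ^ n) ^ 3 * ((2 ^ n + 1) * (((2 ^ n) ^ 2 - 1) * ((2 ^ n) ^ 3 + 1))) := hcard
      _ = (2 ^ n + 1) * (2 ^ (3 * n) * ((2 ^ (2 * n) - 1) * (2 ^ (3 * n) + 1))) := by
        rw [← pow_mul, ← pow_mul, mul_comm n 3, mul_comm n 2]; ring
  · right
    have h1 := (Cfsg.Agent.S1163.result hm hF).1
    rw [← Nat.card_congr e.toEquiv] at h1
    refine ⟨m, hm, ?_⟩
    rw [h1, ← pow_mul, mul_comm (2 * m + 1) 2]
    ring

/-- `IndCR n` from the rows of the smaller simple groups. -/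
theorem indCR_of_row {n : ℕ} (h : ∀ (L : Type u) [Group L] [Finite L] [IsSimpleGroup L],
    ¬ IsMulCommutative L → Nat.card L < n → Row L) : Cfsg.Agent.Foote.IndCR.{u} n := by
  intro L _ _ _ hna hL
  have h1 : ¬ IsMulCommutative L := by
    intro hc
    obtain ⟨a, b, hab⟩ := hna
    exact hab (hc.is_comm.comm a b)
  rcases h L h1 hL with h2 | ⟨-, h2⟩
  · exact Or.inr (Cfsg.Agent.Foote.cr_of_closedRow h2)
  · exact Or.inl (exc_order h2)

variable {G : Type u} [Group G]

/-- a row of an explicit model -/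
theorem of_closedRow {M : Type*} [Group M] [Finite G] (e : Nonempty (G ≃* M)) (h : ClosedRow M) : ClosedRow G := by
  obtain ⟨e⟩ := e
  have : Finite M := Finite.of_equiv G e.toEquiv
  exact h.congr e.symm

/-- a row of an explicit model with the induction hypothesis -/
theorem of_cr {M : Type} [Group M] [Finite G] [IsSimpleGroup G] (hna : ¬ IsMulCommutative G)
    (ih : Cfsg.Agent.Foote.IndCR.{0} (Nat.card G)) (e : Nonempty (G ≃* M))
    (h : commutator M = ⊤ → Cfsg.Agent.Foote.IndCR.{0} (Nat.card M) → Cfsg.Agent.Foote.CR M) : ClosedRow G := by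
  refine of_closedRow e ?_
  obtain ⟨e⟩ := e
  have hf : Finite M := Finite.of_equiv G e.toEquiv
  have hnt : Nontrivial M := e.toEquiv.nontrivial_congr.1 inferInstance
  have hs : IsSimpleGroup M := IsSimpleGroup.isSimpleGroup_of_surjective e.toMonoidHom e.surjective
  rw [Nat.card_congr e.toEquiv] at ih
  refine Cfsg.Agent.Foote.CR.closedRow (h (Cfsg.Agent.Foote.perfect_of_simple ?_) ih)
  intro hc
  exact hna ⟨⟨fun a b => e.injective (by rw [map_mul, map_mul]; exact hc _ _)⟩⟩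

end Cfsg.Agent.ClosedRed

end
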