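import Mathlib
import Cfsg.Agent.ClosedRed.Borel
import Cfsg.Agent.ClosedTwo.Over
import Cfsg.Agent.Lib.CoprimeAbelian

/-!
# Foote's theorem (S1252): a strongly closed subgroup acts on the exceptional components as inner automorphisms

`inner`: `A` strongly closed in `S`, `A ≤ N(L)`, `S ∩ L = T` a Sylow 2-subgroup of the simple group `L`,
`A ∩ L = Z`, `Borel T Z` ⟹ every `a ∈ A` acts on `L` as an element of `A ∩ L`.
-/

set_option autoImplicit false
set_option linter.unusedSectionVars false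

namespace Cfsg.Agent.ClosedRed

open Subgroup Cfsg
open scoped commutatorElement
open Cfsg.Agent.ClosedTwo
open Cfsg.Agent.SignalizersComponents Cfsg.Agent.SignalizersComponents.Components
open Cfsg.Agent.SylowL.CompFacts

universe u

/-- A complement of a Sylow subgroup in its normaliser. -/
theorem exists_compl {L : Type u} [Group L] [Finite L] (T : Sylow 2 L) :
    ∃ H : Subgroup L, H ≤ normalizer ((T : Subgroup L) : Set L) ∧ (Nat.card H).Coprime 2 ∧
      ∀ n ∈ normalizer ((T : Subgroup L) : Set L), ∃ t ∈ (T : Subgroup L), ∃ k ∈ H, n = t * k := by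
  have h2 : Fact (Nat.Prime 2) := ⟨Nat.prime_two⟩
  set N : Subgroup L := normalizer ((T : Subgroup L) : Set L) with hN
  have hTN : (T : Subgroup L) ≤ N := le_normalizer
  have hn : ((T : Subgroup L).subgroupOf N).Normal := by
    rw [normal_subgroupOf_iff_le_normalizer hTN]
  let T' : Sylow 2 N := T.subtype hTN
  have hT' : (T' : Subgroup N) = (T : Subgroup L).subgroupOf N := rfl
  have hidx : ¬ 2 ∣ ((T : Subgroup L).subgroupOf N).index := by
    rw [← hT']
    exact T'.not_dvd_index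
  have hcop : Nat.Coprime (Nat.card ((T : Subgroup L).subgroupOf N)) ((T : Subgroup L).subgroupOf N).index := by
    obtain ⟨k, hk⟩ := (IsPGroup.iff_card).1 T'.2
    rw [← hT', hk]
    exact ((Nat.Prime.coprime_iff_not_dvd Nat.prime_two).2 T'.not_dvd_index).pow_left k
  obtain ⟨K, hK⟩ := Subgroup.exists_right_complement'_of_coprime hcop
  refine ⟨K.map N.subtype, ?_, ?_, ?_⟩
  · rintro _ ⟨k, -, rfl⟩
    exact k.2
  · rw [Subgroup.card_map_of_injective N.subtype_injective, ← hK.symm.index_eq_card]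
    rw [Nat.coprime_comm]
    exact (Nat.Prime.coprime_iff_not_dvd Nat.prime_two).2 hidx
  · intro n hn'
    obtain ⟨⟨t, k⟩, htk⟩ := hK.2 ⟨n, hn'⟩
    refine ⟨t, t.2, k, ⟨k, k.2, rfl⟩, ?_⟩
    exact (congrArg Subtype.val htk).symm

variable {G : Type u} [Group G] [Finite G] {S : Sylow 2 G} {A L : Subgroup G}

/-- **E3** from `Borel`. -/
theorem inner (hcc : Comm.{u}) (hA : IsStronglyClosed A (S : Subgroup G)) (hAL : A ≤ normalizer (L : Set G))
    (hs : IsSimpleGroup L) (hna : ¬ IsMulCommutative L) (T : Sylow 2 L)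
    (hT : (T : Subgroup L).map L.subtype = (S : Subgroup G) ⊓ L) {Z : Subgroup L} (hZ : A ⊓ L = Z.map L.subtype)
    (hB : Borel (T : Subgroup L) Z) : ∀ a ∈ A, ∃ z ∈ A ⊓ L, ∀ x ∈ L, a * x * a⁻¹ = z * x * z⁻¹ := by
  have h2 : Fact (Nat.Prime 2) := ⟨Nat.prime_two⟩
  -- membership
  have mT : ∀ x : L, x ∈ (T : Subgroup L) ↔ (x : G) ∈ (S : Subgroup G) := by
    intro x
    constructor
    · intro hx
      have : (x : G) ∈ (T : Subgroup L).map L.subtype := ⟨x, hx, rfl⟩
      rw [hT] at this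
      exact (mem_inf.1 this).1
    · intro hx
      have : (x : G) ∈ (S : Subgroup G) ⊓ L := mem_inf.2 ⟨hx, x.2⟩
      rw [← hT] at this
      obtain ⟨y, hy, he⟩ := this
      rwa [← Subtype.ext he]
  have mZ : ∀ x : L, x ∈ Z ↔ (x : G) ∈ A := by
    intro x
    constructor
    · intro hx
      have : (x : G) ∈ Z.map L.subtype := ⟨x, hx, rfl⟩
      rw [← hZ] at this
      exact (mem_inf.1 this).1
    · intro hx
      have : (x : G) ∈ A ⊓ L := mem_inf.2 ⟨hx, x.2⟩
      rw [hZ] at this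
      obtain ⟨y, hy, he⟩ := this
      rwa [← Subtype.ext he]
  have hcL : ∀ a ∈ A, ∀ x ∈ L, a * x * a⁻¹ ∈ L := fun a ha x hx => (mem_normalizer_iff.1 (hAL ha) x).1 hx
  have hAS := hA.1
  -- Step 1
  have s1 : ∀ a ∈ A, ∀ t : L, t ∈ (T : Subgroup L) → ∀ h : a * t * a⁻¹ * (t : G)⁻¹ ∈ L,
      (⟨a * t * a⁻¹ * (t : G)⁻¹, h⟩ : L) ∈ Z := by
    intro a ha t ht h
    rw [mZ]
    show a * t * a⁻¹ * (t : G)⁻¹ ∈ A
    rw [show a * (t : G) * a⁻¹ * (t : G)⁻¹ = a * (t * a⁻¹ * (t : G)⁻¹) by group]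
    exact mul_mem ha (closed_conj hA (inv_mem ha) ((mT t).1 ht))
  have hin : ∀ a ∈ A, ∀ t : L, a * t * a⁻¹ * (t : G)⁻¹ ∈ L := fun a ha t =>
    mul_mem (hcL a ha t t.2) (inv_mem t.2)
  -- Step 2: `[a, n] ∈ T`
  have s2 : ∀ a (ha : a ∈ A), ∀ n : L, n ∈ normalizer ((T : Subgroup L) : Set L) →
      (⟨a * n * a⁻¹ * (n : G)⁻¹, hin a ha n⟩ : L) ∈ (T : Subgroup L) := by
    intro a ha n hn
    obtain ⟨α, hα⟩ : ∃ α : L → L, ∀ x : L, ((α x : L) : G) = a * x * a⁻¹ :=
      ⟨fun x => ⟨a * x * a⁻¹, hcL a ha x x.2⟩, fun x => rfl⟩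
    obtain ⟨β, hβ⟩ : ∃ β : L → L, ∀ x : L, ((β x : L) : G) = a⁻¹ * x * a :=
      ⟨fun x => ⟨a⁻¹ * x * a, by simpa using hcL a⁻¹ (inv_mem ha) x x.2⟩, fun x => rfl⟩
    have hαT : ∀ x : L, x ∈ (T : Subgroup L) → α x ∈ (T : Subgroup L) := by
      intro x hx
      rw [mT, hα]
      exact mul_mem (mul_mem (hAS ha) ((mT x).1 hx)) (inv_mem (hAS ha))
    have hβT : ∀ x : L, x ∈ (T : Subgroup L) → β x ∈ (T : Subgroup L) := by
      intro x hx
      rw [mT, hβ]
      exact mul_mem (mul_mem (inv_mem (hAS ha)) ((mT x).1 hx)) (hAS ha)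
    have hαβ : ∀ x, α (β x) = x := fun x => Subtype.ext (by rw [hα, hβ]; group)
    have hβα : ∀ x, β (α x) = x := fun x => Subtype.ext (by rw [hβ, hα]; group)
    have hαm : ∀ x y, α (x * y) = α x * α y := fun x y => Subtype.ext (by
      rw [hα, Subgroup.coe_mul, Subgroup.coe_mul, hα, hα]; group)
    have hαi : ∀ x, α x⁻¹ = (α x)⁻¹ := fun x => Subtype.ext (by
      rw [hα, Subgroup.coe_inv, Subgroup.coe_inv, hα]; group)
    have hβm : ∀ x y, β (x * y) = β x * β y := fun x y => Subtype.ext (by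
      rw [hβ, Subgroup.coe_mul, Subgroup.coe_mul, hβ, hβ]; group)
    have hβi : ∀ x, β x⁻¹ = (β x)⁻¹ := fun x => Subtype.ext (by
      rw [hβ, Subgroup.coe_inv, Subgroup.coe_inv, hβ]; group)
    -- modulo `Z`
    have hαZ : ∀ x ∈ Z, α x ∈ Z := by
      intro x hx
      rw [mZ, hα]
      exact mul_mem (mul_mem ha ((mZ x).1 hx)) (inv_mem ha)
    have hα1 : ∀ x ∈ (T : Subgroup L), α x * x⁻¹ ∈ Z := by
      intro x hx
      have := s1 a ha x hx (hin a ha x)
      convert this using 1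
      apply Subtype.ext
      rw [Subgroup.coe_mul, hα, Subgroup.coe_inv]
    have hβ1 : ∀ x ∈ (T : Subgroup L), β x * x⁻¹ ∈ Z := by
      intro x hx
      have h3 := hα1 _ (hβT x hx)
      rw [hαβ] at h3
      have h4 := inv_mem h3
      rwa [mul_inv_rev, inv_inv] at h4
    have e1 : (⟨a * n * a⁻¹ * (n : G)⁻¹, hin a ha n⟩ : L) = α n * n⁻¹ := by
      apply Subtype.ext
      rw [Subgroup.coe_mul, hα, Subgroup.coe_inv]
    rw [e1]
    have hnT := mem_normalizer_iff.1 hn
    have hniT := mem_normalizer_iff.1 (inv_mem hn)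
    -- `α n` normalises `T`
    have hαn : α n ∈ normalizer ((T : Subgroup L) : Set L) := by
      rw [mem_normalizer_iff]
      intro x
      constructor
      · intro hx
        have h3 : n * β x * n⁻¹ ∈ (T : Subgroup L) := (hnT _).1 (hβT x hx)
        have h4 := hαT _ h3
        rwa [hαm, hαm, hαβ, hαi] at h4
      · intro hx
        have h3 := hβT _ hx
        rw [hβm, hβm, hβi, hβα] at h3
        have h4 : β x ∈ (T : Subgroup L) := (hnT _).2 h3
        have h5 := hαT _ h4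
        rwa [hαβ] at h5
    refine hB.faith _ (mul_mem hαn (inv_mem hn)) fun t ht => ?_
    -- `t₁ = n⁻¹ t n`
    obtain ⟨t1, ht1⟩ : ∃ t1, t1 = n⁻¹ * t * n := ⟨_, rfl⟩
    have ht1T : t1 ∈ (T : Subgroup L) := by
      rw [ht1]
      have := (hniT t).1 ht
      rwa [inv_inv] at this
    have hb := hβ1 t1 ht1T
    obtain ⟨z1, hz1, hb1⟩ : ∃ z1 ∈ Z, β t1 = z1 * t1 := ⟨_, hb, by group⟩
    have hz2 := hB.norm n hn z1 hz1
    have hz3 := hαZ _ hz2
    have hz4 := hα1 t ht
    have e2 : α n * n⁻¹ * t * (α n * n⁻¹)⁻¹ = α (n * z1 * n⁻¹) * (α t) := by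
      have e3 : α n * n⁻¹ * t * (α n * n⁻¹)⁻¹ = α n * t1 * (α n)⁻¹ := by rw [ht1]; group
      have e4 : t1 = α (β t1) := (hαβ t1).symm
      rw [e3]
      conv_lhs => rw [e4]
      rw [hb1, ← hαi, ← hαm, ← hαm, ← hαm]
      congr 1
      rw [ht1]; group
    rw [e2, mul_assoc]
    exact mul_mem hz3 hz4
  -- Step 3: `A` is normalised by `N_L(T)`, `[A, N_L(T)] ≤ Z`
  have s3 : ∀ a ∈ A, ∀ n : L, n ∈ normalizer ((T : Subgroup L) : Set L) → (n : G) * a * (n : G)⁻¹ ∈ A := by
    intro a ha n hn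
    have h3 := s2 a ha n hn
    rw [mT] at h3
    have h4 : a * n * a⁻¹ * (n : G)⁻¹ ∈ (S : Subgroup G) := h3
    apply hA.2 a ha
    have e : (n : G) * a * (n : G)⁻¹ = (a * n * a⁻¹ * (n : G)⁻¹)⁻¹ * a := by group
    rw [e]
    exact mul_mem (inv_mem h4) (hAS ha)
  have s3' : ∀ a (ha : a ∈ A), ∀ n : L, n ∈ normalizer ((T : Subgroup L) : Set L) →
      (⟨a * n * a⁻¹ * (n : G)⁻¹, hin a ha n⟩ : L) ∈ Z := by
    intro a ha n hn
    rw [mZ]
    show a * n * a⁻¹ * (n : G)⁻¹ ∈ A
    rw [show a * (n : G) * a⁻¹ * (n : G)⁻¹ = a * (n * a⁻¹ * (n : G)⁻¹) by group]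
    exact mul_mem ha (s3 _ (inv_mem ha) n hn)
  have hTN : (T : Subgroup L) ≤ normalizer ((T : Subgroup L) : Set L) := le_normalizer
  -- Step 4: `A` centralises `T`
  have s4 : ∀ a ∈ A, ∀ t : L, t ∈ (T : Subgroup L) → a * t = t * a := by
    intro a ha
    obtain ⟨φ, hφ⟩ : ∃ φ : L → L, ∀ x : L, ((φ x : L) : G) = a * x * a⁻¹ * (x : G)⁻¹ :=
      ⟨fun x => ⟨a * x * a⁻¹ * (x : G)⁻¹, hin a ha x⟩, fun x => rfl⟩
    have hφZ : ∀ n : L, n ∈ normalizer ((T : Subgroup L) : Set L) → φ n ∈ Z := by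
      intro n hn
      have := s3' a ha n hn
      convert this using 1
      apply Subtype.ext
      rw [hφ]
    have hmul : ∀ t ∈ (T : Subgroup L), ∀ u ∈ (T : Subgroup L), φ (t * u) = φ t * φ u := by
      intro t ht u hu
      have h3 := hB.cen _ (hφZ u (hTN hu)) t ht
      have h4 : φ t * φ u = φ t * (t * φ u * t⁻¹) := by rw [← h3]; group
      rw [h4]
      apply Subtype.ext
      rw [hφ, Subgroup.coe_mul, Subgroup.coe_mul, Subgroup.coe_mul, Subgroup.coe_mul, hφ, hφ, Subgroup.coe_inv]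
      group
    have hφ1 : φ 1 = 1 := Subtype.ext (by rw [hφ]; simp)
    have hinv : ∀ t ∈ (T : Subgroup L), φ t⁻¹ = (φ t)⁻¹ := by
      intro t ht
      apply eq_inv_of_mul_eq_one_left
      rw [← hmul _ (inv_mem ht) t ht, inv_mul_cancel, hφ1]
    have hder : ∀ z ∈ Z, φ z = 1 := by
      let K : Subgroup L :=
        { carrier := {x | x ∈ (T : Subgroup L) ∧ φ x = 1}
          mul_mem' := by
            rintro x y ⟨hx, hx1⟩ ⟨hy, hy1⟩
            exact ⟨mul_mem hx hy, by rw [hmul x hx y hy, hx1, hy1, one_mul]⟩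
          one_mem' := ⟨one_mem _, hφ1⟩
          inv_mem' := by
            rintro x ⟨hx, hx1⟩
            exact ⟨inv_mem hx, by rw [hinv x hx, hx1, inv_one]⟩ }
      have h3 : ⁅(T : Subgroup L), (T : Subgroup L)⁆ ≤ K := by
        rw [commutator_le]
        intro x hx y hy
        refine ⟨mul_mem (mul_mem (mul_mem hx hy) (inv_mem hx)) (inv_mem hy), ?_⟩
        have hxy := mul_mem hx hy
        rw [commutatorElement_def, hmul _ (mul_mem hxy (inv_mem hx)) _ (inv_mem hy),
          hmul _ hxy _ (inv_mem hx), hmul x hx y hy, hinv x hx, hinv y hy]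
        have h4 := hB.cen _ (hφZ x (hTN hx)) _ (hB.le (hφZ y (hTN hy)))
        rw [h4]; group
      intro z hz
      exact (h3 (hB.der hz)).2
    have heq : ∀ n ∈ normalizer ((T : Subgroup L) : Set L), ∀ t ∈ (T : Subgroup L),
        φ (n * t * n⁻¹) = n * φ t * n⁻¹ := by
      intro n hn t ht
      -- `w = n⁻¹ a n a⁻¹ ∈ Z`
      obtain ⟨w, hw⟩ : ∃ w : L, (w : G) = (n : G)⁻¹ * a * n * a⁻¹ :=
        ⟨⟨(n : G)⁻¹ * a * n * a⁻¹, by
          have := mul_mem (inv_mem n.2) (hcL a ha n n.2)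
          rwa [← mul_assoc, ← mul_assoc] at this⟩, rfl⟩
      have hwZ : w ∈ Z := by
        rw [mZ, hw]
        have := s3 a ha n⁻¹ (inv_mem hn)
        rw [Subgroup.coe_inv, inv_inv] at this
        exact mul_mem this (inv_mem ha)
      have hT1 : (φ t * t : L) ∈ (T : Subgroup L) := mul_mem (hB.le (hφZ t (hTN ht))) ht
      have h3 : w * (φ t * t) * w⁻¹ * t⁻¹ = φ t := by rw [hB.cen w hwZ _ hT1]; group
      have h4 := congrArg (fun x : L => n * x * n⁻¹) h3
      have h4' : n * (w * (φ t * t) * w⁻¹ * t⁻¹) * n⁻¹ = n * φ t * n⁻¹ := h4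
      rw [← h4']
      apply Subtype.ext
      simp only [Subgroup.coe_mul, Subgroup.coe_inv, hφ, hw]
      group
    intro t ht
    have h5 := hB.hom φ (fun t ht => hφZ t (hTN ht)) hmul hder heq t ht
    have h6 : a * t * a⁻¹ * (t : G)⁻¹ = 1 := by rw [← hφ, h5]; rfl
    exact mul_inv_eq_iff_eq_mul.1 (mul_inv_eq_one.1 h6)
  -- Step 5: a complement
  obtain ⟨H, hHN, hHc, hHT⟩ := exists_compl T
  obtain ⟨A0, hA0⟩ : ∃ A0 : Subgroup G, ∀ x, x ∈ A0 ↔ x ∈ A ∧
      ∀ n : L, n ∈ normalizer ((T : Subgroup L) : Set L) → (n : G) * x = x * n := by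
    refine ⟨A ⊓ centralizer ((normalizer ((T : Subgroup L) : Set L)).map L.subtype : Set G), fun x => ?_⟩
    rw [mem_inf, mem_centralizer_iff]
    constructor
    · rintro ⟨h3, h4⟩
      exact ⟨h3, fun n hn => h4 n ⟨n, hn, rfl⟩⟩
    · rintro ⟨h3, h4⟩
      refine ⟨h3, ?_⟩
      rintro _ ⟨n, hn, rfl⟩
      exact h4 n hn
  have s5 : ∀ a ∈ A, ∃ z : L, z ∈ Z ∧ (z : G)⁻¹ * a ∈ A0 := by
    intro a ha
    -- the abelian group `V = Z ⟨a⟩`
    have hZa : ∀ z ∈ Z.map L.subtype, a * z = z * a := by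
      rintro _ ⟨z, hz, rfl⟩
      exact s4 a ha z (hB.le hz)
    have hZaA : Z.map L.subtype ≤ A := by rw [← hZ]; exact inf_le_left
    set V : Subgroup G := Z.map L.subtype ⊔ zpowers a with hV
    have hVA : V ≤ A := sup_le hZaA (by rw [zpowers_le]; exact ha)
    have hVc : ∀ x ∈ V, ∀ y ∈ V, x * y = y * x := by
      have h3 : V ≤ centralizer (V : Set G) := by
        have hz1 : Z.map L.subtype ≤ centralizer (Z.map L.subtype : Set G) := by
          rintro _ ⟨z, hz, rfl⟩
          rw [mem_centralizer_iff]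
          rintro _ ⟨w, hw, rfl⟩
          exact congrArg Subtype.val (hB.cen w hw z (hB.le hz))
        have hz2 : Z.map L.subtype ≤ centralizer (zpowers a : Set G) := by
          intro z hz
          rw [mem_centralizer_iff]
          intro y hy
          obtain ⟨k, rfl⟩ := mem_zpowers_iff.1 hy
          exact (Commute.zpow_left (h := (hZa z hz : Commute a z)) k).eq
        have hz3 : zpowers a ≤ centralizer (zpowers a : Set G) := by
          intro z hz
          rw [mem_centralizer_iff]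
          intro y hy
          obtain ⟨k, rfl⟩ := mem_zpowers_iff.1 hy
          obtain ⟨l, rfl⟩ := mem_zpowers_iff.1 hz
          exact (zpow_mul_comm a k l)
        have hz4 : zpowers a ≤ centralizer (Z.map L.subtype : Set G) := by
          rw [le_centralizer_iff]
          exact hz2
        have e : centralizer (V : Set G) = centralizer (Z.map L.subtype : Set G) ⊓ centralizer (zpowers a : Set G) := by
          rw [hV, ← Subgroup.closure_eq (Z.map L.subtype), ← Subgroup.closure_eq (zpowers a), ← Subgroup.closure_union,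
            Subgroup.centralizer_closure, Subgroup.closure_eq, Subgroup.closure_eq]
          ext x
          simp only [mem_inf, mem_centralizer_iff, Set.mem_union]
          constructor
          · intro h; exact ⟨fun y hy => h y (Or.inl hy), fun y hy => h y (Or.inr hy)⟩
          · rintro ⟨h3, h4⟩ y (hy | hy)
            · exact h3 y hy
            · exact h4 y hy
        rw [e]
        exact le_inf (sup_le hz1 hz4) (sup_le hz2 hz3)
      intro x hx y hy
      exact (mem_centralizer_iff.1 (h3 hx) y hy).symm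
    have hcomm : ∀ x ∈ A, ∀ k ∈ H.map L.subtype, x * k * x⁻¹ * k⁻¹ ∈ Z.map L.subtype := by
      rintro x hx _ ⟨k, hk, rfl⟩
      exact ⟨_, s3' x hx k (hHN hk), rfl⟩
    have hHV : H.map L.subtype ≤ normalizer (V : Set G) := by
      have h3 : ∀ k ∈ H.map L.subtype, ∀ x ∈ V, k * x * k⁻¹ ∈ V := by
        intro k hk x hx
        have h4 := hcomm x (hVA hx) k hk
        have h5 : k * x * k⁻¹ = (x * k * x⁻¹ * k⁻¹)⁻¹ * x := by group
        rw [h5]
        exact mul_mem (inv_mem (mem_sup_left h4)) hx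
      intro k hk
      rw [mem_normalizer_iff]
      intro x
      refine ⟨fun hx => h3 k hk x hx, fun hx => ?_⟩
      have h4 := h3 k⁻¹ (inv_mem hk) _ hx
      have e : k⁻¹ * (k * x * k⁻¹) * k⁻¹⁻¹ = x := by group
      rwa [e] at h4
    have hcop : (Nat.card (H.map L.subtype)).Coprime (Nat.card V) := by
      rw [Subgroup.card_map_of_injective L.subtype_injective]
      obtain ⟨k, hk⟩ := (IsPGroup.iff_card).1 (S.2.to_le (hVA.trans hAS))
      rw [hk]
      exact hHc.pow_right k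
    have h3 := Cfsg.Agent.Lib.CoprimeAbelian.sup_commutator_eq (H.map L.subtype) V hVc hHV hcop
    have h4 : a ∈ V := mem_sup_right (mem_zpowers a)
    rw [← h3, sup_comm] at h4
    have h5 : ⁅V, H.map L.subtype⁆ ≤ Z.map L.subtype := by
      rw [commutator_le]
      intro x hx k hk
      exact hcomm x (hVA hx) k hk
    have h6 : a ∈ Z.map L.subtype ⊔ (V ⊓ centralizer (H.map L.subtype : Set G)) :=
      (sup_le_sup_right h5 _) h4
    have hZn : (V ⊓ centralizer (H.map L.subtype : Set G)) ≤ normalizer (Z.map L.subtype : Set G) := by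
      intro x hx
      have hxV := (mem_inf.1 hx).1
      rw [mem_normalizer_iff]
      intro y
      constructor
      · intro hy
        rw [hVc x hxV y (mem_sup_left hy), mul_inv_cancel_right]
        exact hy
      · intro hy
        have h7 : y ∈ V := by
          have h8 := mul_mem (mul_mem (inv_mem hxV) (mem_sup_left (T := zpowers a) hy)) hxV
          have e : x⁻¹ * (x * y * x⁻¹) * x = y := by group
          rwa [e] at h8
        rwa [hVc x hxV y h7, mul_inv_cancel_right] at hy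
    have h7 : a ∈ (((Z.map L.subtype ⊔ (V ⊓ centralizer (H.map L.subtype : Set G))) : Subgroup G) : Set G) := h6
    rw [Subgroup.coe_mul_of_right_le_normalizer_left _ _ hZn, Set.mem_mul] at h7
    obtain ⟨_, ⟨z, hz, rfl⟩, c, hc, hzc⟩ := h7
    refine ⟨z, hz, ?_⟩
    obtain ⟨hcV, hcH⟩ := mem_inf.1 hc
    have e : ((z : L) : G)⁻¹ * a = c := by
      rw [← hzc]
      show (z : G)⁻¹ * ((z : G) * c) = c
      group
    rw [e, hA0]
    refine ⟨hVA hcV, fun n hn => ?_⟩
    obtain ⟨t, ht, k, hk, rfl⟩ := hHT n hn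
    have h8 : (k : G) * c = c * k := mem_centralizer_iff.1 hcH k ⟨k, hk, rfl⟩
    have h9 : c * t = t * c := s4 c (hVA hcV) t ht
    rw [Subgroup.coe_mul, mul_assoc, h8, ← mul_assoc, ← h9, mul_assoc]
  -- Step 6: fusion of the elements of `A0`
  have hTA : ∀ x ∈ A, ∀ t ∈ (T : Subgroup L), x * t = t * x := fun x hx t ht => s4 x hx t ht
  have s6 : ∀ x ∈ A0, ∀ l ∈ L, l * x * l⁻¹ ∈ (S : Subgroup G) → l * x * l⁻¹ = x := by
    intro x hx l hl hlx
    obtain ⟨hxA, hxN⟩ := (hA0 x).1 hx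
    have hyA := hA.2 x hxA l hlx
    obtain ⟨y, hy⟩ : ∃ y, y = l * x * l⁻¹ := ⟨_, rfl⟩
    rw [← hy] at hyA ⊢
    -- the centralizer of `y` in `L`
    set C : Subgroup L := (centralizer ({y} : Set G)).subgroupOf L with hC
    have mC : ∀ c : L, c ∈ C ↔ (c : G) * y = y * c := by
      intro c
      rw [hC, mem_subgroupOf, mem_centralizer_singleton_iff]
    have hTC : (T : Subgroup L) ≤ C := fun t ht => (mC t).2 (s4 y hyA t ht).symm
    have hTC' : ((MulAut.conj (⟨l, hl⟩ : L)) • T : Sylow 2 L) ≤ C := by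
      rintro _ ⟨t, ht, rfl⟩
      rw [mC]
      have h3 := s4 x hxA t ht
      show l * t * l⁻¹ * y = y * (l * t * l⁻¹)
      rw [hy]
      calc l * (t : G) * l⁻¹ * (l * x * l⁻¹) = l * (t * x) * l⁻¹ := by group
        _ = l * (x * t) * l⁻¹ := by rw [h3]
        _ = _ := by group
    obtain ⟨c, hc⟩ := MulAction.exists_smul_eq C (((MulAut.conj (⟨l, hl⟩ : L)) • T : Sylow 2 L).subtype hTC')
      (T.subtype hTC)
    -- `n = c l` normalises `T`
    have hn : (c : L) * ⟨l, hl⟩ ∈ normalizer ((T : Subgroup L) : Set L) := by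
      have h3 : ∀ t : L, t ∈ (T : Subgroup L) →
          ((c : L) * ⟨l, hl⟩) * t * ((c : L) * ⟨l, hl⟩)⁻¹ ∈ (T : Subgroup L) := by
        intro t ht
        have h4 : (⟨⟨l, hl⟩ * t * (⟨l, hl⟩ : L)⁻¹, hTC' ⟨t, ht, rfl⟩⟩ : C) ∈
            ((((MulAut.conj (⟨l, hl⟩ : L)) • T : Sylow 2 L).subtype hTC' : Sylow 2 C) : Subgroup C) := ⟨t, ht, rfl⟩
        have h5 : c * (⟨⟨l, hl⟩ * t * (⟨l, hl⟩ : L)⁻¹, hTC' ⟨t, ht, rfl⟩⟩ : C) * c⁻¹ ∈
            ((T.subtype hTC : Sylow 2 C) : Subgroup C) := by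
          rw [← hc]
          exact ⟨_, h4, rfl⟩
        have h6 : ((c * (⟨⟨l, hl⟩ * t * (⟨l, hl⟩ : L)⁻¹, hTC' ⟨t, ht, rfl⟩⟩ : C) * c⁻¹ : C) : L) ∈
            (T : Subgroup L) := h5
        have e : ((c : L) * ⟨l, hl⟩) * t * ((c : L) * ⟨l, hl⟩)⁻¹ =
            ((c * (⟨⟨l, hl⟩ * t * (⟨l, hl⟩ : L)⁻¹, hTC' ⟨t, ht, rfl⟩⟩ : C) * c⁻¹ : C) : L) := by
          show ((c : L) * ⟨l, hl⟩) * t * ((c : L) * ⟨l, hl⟩)⁻¹ =
            (c : L) * (⟨l, hl⟩ * t * (⟨l, hl⟩ : L)⁻¹) * (c : L)⁻¹
          group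
        rw [e]
        exact h6
      have h4 : (T : Subgroup L).map (MulAut.conj ((c : L) * ⟨l, hl⟩)).toMonoidHom = (T : Subgroup L) := by
        apply Subgroup.eq_of_le_of_card_ge
        · rintro _ ⟨t, ht, rfl⟩
          exact h3 t ht
        · rw [Subgroup.card_map_of_injective (MulAut.conj _).injective]
      rw [mem_normalizer_iff]
      intro t
      refine ⟨fun ht => h3 t ht, fun ht => ?_⟩
      rw [← h4] at ht
      obtain ⟨s, hs, he⟩ := ht
      have he' : ((c : L) * ⟨l, hl⟩) * s * ((c : L) * ⟨l, hl⟩)⁻¹ =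
          ((c : L) * ⟨l, hl⟩) * t * ((c : L) * ⟨l, hl⟩)⁻¹ := he
      have : s = t := mul_left_cancel (mul_right_cancel he')
      rwa [← this]
    have h3 := hxN _ hn
    have h4 : ((c : L) : G) * y = y * (c : L) := (mC (c : L)).1 c.2
    have h5 : ((c : L) : G) * l * x = x * (((c : L) : G) * l) := h3
    -- `x = n x n⁻¹ = c y c⁻¹ = y`
    have h6 : x = ((c : L) : G) * l * x * (((c : L) : G) * l)⁻¹ := by rw [h5]; group
    have h7 : ((c : L) : G) * l * x * (((c : L) : G) * l)⁻¹ = ((c : L) : G) * y * ((c : L) : G)⁻¹ := by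
      rw [hy]; group
    rw [h6, h7, h4]; group
  -- Step 7
  have hLe : IsSimpleGroup L := hs
  have hA0n : ∀ a ∈ A, ∀ x ∈ A0, a * x * a⁻¹ ∈ A0 := by
    intro a ha x hx
    obtain ⟨hxA, hxN⟩ := (hA0 x).1 hx
    rw [hA0]
    refine ⟨mul_mem (mul_mem ha hxA) (inv_mem ha), fun n hn => ?_⟩
    -- `a⁻¹ n a ∈ N_L(T)`
    have h3 : (⟨a⁻¹ * n * a⁻¹⁻¹, hcL a⁻¹ (inv_mem ha) n n.2⟩ : L) ∈ normalizer ((T : Subgroup L) : Set L) := by
      have h4 := s2 a⁻¹ (inv_mem ha) n hn
      have h5 := mul_mem (hTN h4) hn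
      have e : (⟨a⁻¹ * n * a⁻¹⁻¹ * (n : G)⁻¹, hin a⁻¹ (inv_mem ha) n⟩ : L) * n =
          ⟨a⁻¹ * n * a⁻¹⁻¹, hcL a⁻¹ (inv_mem ha) n n.2⟩ := by
        apply Subtype.ext
        rw [Subgroup.coe_mul]
        show a⁻¹ * (n : G) * a⁻¹⁻¹ * (n : G)⁻¹ * n = a⁻¹ * n * a⁻¹⁻¹
        group
      rwa [e] at h5
    have h4 : a⁻¹ * n * a⁻¹⁻¹ * x = x * (a⁻¹ * n * a⁻¹⁻¹) := hxN _ h3
    calc (n : G) * (a * x * a⁻¹) = a * (a⁻¹ * n * a⁻¹⁻¹ * x) * a⁻¹ := by group
      _ = a * (x * (a⁻¹ * n * a⁻¹⁻¹)) * a⁻¹ := by rw [h4]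
      _ = a * x * a⁻¹ * n := by group
  have s7 : ∀ x ∈ A0, ∀ l ∈ L, x * l = l * x := by
    set X : Subgroup G := A ⊔ L with hX
    have hLX : L ≤ X := le_sup_right
    have hAX : A ≤ X := le_sup_left
    have hA0A : A0 ≤ A := fun x hx => ((hA0 x).1 hx).1
    have hLn : (L.subgroupOf X).Normal := by
      rw [normal_subgroupOf_iff_le_normalizer hLX]
      exact sup_le hAL le_normalizer
    have hpS : IsPGroup 2 ((S : Subgroup G).subgroupOf X) := S.2.comap_subtype
    obtain ⟨P, hPle⟩ := hpS.exists_le_sylow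
    have hP : (P : Subgroup X) = (S : Subgroup G).subgroupOf X := by
      apply le_antisymm _ hPle
      intro x hx
      have hxX : (x : G) ∈ ((A ⊔ L : Subgroup G) : Set G) := x.2
      rw [Subgroup.coe_mul_of_left_le_normalizer_right _ _ hAL, Set.mem_mul] at hxX
      obtain ⟨a, ha, k, hk, e⟩ := hxX
      have haP : (⟨a, hAX ha⟩ : X) ∈ (P : Subgroup X) := hPle (hAS ha)
      have hkP : (⟨k, hLX hk⟩ : X) ∈ (P : Subgroup X) := by
        have h1 := mul_mem (inv_mem haP) hx
        have h2 : (⟨a, hAX ha⟩ : X)⁻¹ * x = ⟨k, hLX hk⟩ := by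
          apply Subtype.ext
          change a⁻¹ * (x : G) = k
          rw [← e]; group
        rwa [h2] at h1
      have h3 : IsPGroup 2 (((P : Subgroup X).map X.subtype).subgroupOf L) := (P.2.map _).comap_subtype
      have h4 : (T : Subgroup L) ≤ ((P : Subgroup X).map X.subtype).subgroupOf L := by
        intro y hy
        exact ⟨⟨y, hLX y.2⟩, hPle ((mT y).1 hy), rfl⟩
      have h5 := T.3 h3 h4
      have h6 : (⟨k, hk⟩ : L) ∈ ((P : Subgroup X).map X.subtype).subgroupOf L :=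
        ⟨⟨k, hLX hk⟩, hkP, rfl⟩
      rw [h5, mT] at h6
      change (x : G) ∈ (S : Subgroup G)
      rw [← e]
      exact mul_mem (hAS ha) h6
    -- `A0` is strongly closed in `P`
    have hsc : IsStronglyClosed (A0.subgroupOf X) (P : Subgroup X) := by
      refine ⟨?_, ?_⟩
      · rw [hP]
        intro x hx
        exact hAS (hA0A hx)
      · intro x hx g hg
        rw [hP] at hg
        have hx' : (x : G) ∈ A0 := hx
        have hgX : (g : G) ∈ ((A ⊔ L : Subgroup G) : Set G) := g.2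
        rw [sup_comm, Subgroup.coe_mul_of_right_le_normalizer_left _ _ hAL, Set.mem_mul] at hgX
        obtain ⟨l, hl, a, ha, e⟩ := hgX
        have h3 := hA0n a ha x hx'
        have h4 : l * (a * x * a⁻¹) * l⁻¹ = g * x * (g : G)⁻¹ := by rw [← e]; group
        have h5 : l * (a * x * a⁻¹) * l⁻¹ ∈ (S : Subgroup G) := by rw [h4]; exact hg
        have h6 := s6 _ h3 l hl h5
        show (g : G) * x * (g : G)⁻¹ ∈ A0
        rw [← h4, h6]
        exact h3
    have hperf : Group.IsPerfect L := by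
      rw [Group.isPerfect_def]
      rcases (inferInstance : (commutator L).Normal).eq_bot_or_eq_top with h3 | h3
      · exfalso
        apply hna
        constructor
        constructor
        intro x y
        have h4 : ⁅x, y⁆ ∈ commutator L := commutator_mem_commutator (mem_top x) (mem_top y)
        rw [h3, mem_bot] at h4
        exact commutatorElement_eq_one_iff_mul_comm.1 h4
      · exact h3
    have hcen : center L = ⊥ := ClosedTwo.center_eq_bot hna
    have hcompL : IsComponent (L.subgroupOf X) := by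
      refine ⟨hLn.isSubnormal, ?_⟩
      refine isQuasisimple_of_mulEquiv (Subgroup.subgroupOfEquivOfLe hLX).symm ⟨hperf, ?_⟩
      have hinj : Function.Injective (QuotientGroup.mk' (center L)) := by
        rw [← MonoidHom.ker_eq_bot_iff, QuotientGroup.ker_mk', hcen]
      let e : L ≃* L ⧸ center L := MulEquiv.ofBijective (QuotientGroup.mk' (center L))
        ⟨hinj, QuotientGroup.mk'_surjective _⟩
      have h3 : Nontrivial (L ⧸ center L) := e.symm.toEquiv.nontrivial
      exact IsSimpleGroup.isSimpleGroup_of_surjective e.toMonoidHom e.surjective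
    have hdisj : ∀ a ∈ A0.subgroupOf X ⊓ L.subgroupOf X, a ∈ centralizer (L.subgroupOf X : Set X) := by
      rintro a ⟨ha1, ha2⟩
      have ha1' : (a : G) ∈ A0 := ha1
      have ha2' : (a : G) ∈ L := ha2
      obtain ⟨h3, h4⟩ := (hA0 _).1 ha1'
      have h5 : (⟨a, ha2'⟩ : L) ∈ Z := (mZ _).2 h3
      have h6 := hB.fix _ h5 fun n hn => Subtype.ext (h4 n hn)
      have h7 : (a : G) = 1 := congrArg Subtype.val h6
      have h8 : a = 1 := Subtype.ext h7
      rw [h8]
      exact one_mem _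
    have hZne : ∃ x0 : X, x0 ∈ (P : Subgroup X) ⊓ L.subgroupOf X ∧ x0 ∉ centralizer (L.subgroupOf X : Set X) := by
      by_contra hcon
      push Not at hcon
      -- `T` is central, so trivial
      have h3 : ∀ t : L, t ∈ (T : Subgroup L) → t = 1 := by
        intro t ht
        have h4 := hcon ⟨t, hLX t.2⟩ (mem_inf.2 ⟨by rw [hP]; exact (mT t).1 ht, t.2⟩)
        have h5 : t ∈ center L := by
          rw [mem_center_iff]
          intro l
          have h6 := mem_centralizer_iff.1 h4 ⟨l, hLX l.2⟩ l.2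
          have h7 : (l : G) * t = t * l := congrArg Subtype.val h6
          exact Subtype.ext h7
        rw [hcen] at h5
        exact mem_bot.1 h5
      -- then `L = N_L(T)` is centralised by ... : `faith`
      have h4 : ∀ l : L, l ∈ (T : Subgroup L) := by
        intro l
        have hTb : (T : Subgroup L) = ⊥ := by
          rw [eq_bot_iff]
          intro t ht
          exact mem_bot.2 (h3 t ht)
        have hl : l ∈ normalizer ((T : Subgroup L) : Set L) := by
          rw [hTb, mem_normalizer_iff]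
          intro y
          rw [mem_bot, mem_bot]
          constructor
          · rintro rfl; group
          · intro h
            have := congrArg (fun w => l⁻¹ * w * l) h
            simpa [mul_assoc] using this
        refine hB.faith l hl fun t ht => ?_
        rw [h3 t ht]
        have : l * 1 * l⁻¹ * 1⁻¹ = 1 := by group
        rw [this]
        exact one_mem _
      apply hna
      constructor
      constructor
      intro x y
      rw [h3 x (h4 x), h3 y (h4 y)]
    obtain ⟨x0, hx0, hx0'⟩ := hZne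
    have hnX : A0.subgroupOf X ≤ normalizer (L.subgroupOf X : Set X) := by
      rw [normalizer_eq_top_iff.2 hLn]
      exact le_top
    have hfin := cent_of_norm hcc hsc hcompL hdisj hx0 hx0' hnX
    intro x hx l hl
    have h3 := mem_centralizer_iff.1 (hfin (show (⟨l, hLX hl⟩ : X) ∈ L.subgroupOf X from hl))
      ⟨x, hAX (hA0A hx)⟩ hx
    exact congrArg Subtype.val h3
  -- conclusion
  intro a ha
  obtain ⟨z, hz, hza⟩ := s5 a ha
  refine ⟨z, mem_inf.2 ⟨(mZ z).1 hz, z.2⟩, fun x hx => ?_⟩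
  have h3 := s7 _ hza x hx
  calc a * x * a⁻¹ = z * ((z : G)⁻¹ * a * x) * a⁻¹ := by group
    _ = z * (x * ((z : G)⁻¹ * a)) * a⁻¹ := by rw [h3]
    _ = z * x * (z : G)⁻¹ := by group

end Cfsg.Agent.ClosedRed
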