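import Mathlib
import Cfsg.Agent.ClosedRed.Defs
import Cfsg.Agent.ClosedTwo.Over
import Cfsg.Agent.SignalizersComponents.BalanceAux
import Cfsg.Agent.SignalizersComponents.OddFixed
import Cfsg.Agent.S1163
import Cfsg.Agent.FooteExc.ModelPSU
import Cfsg.Agent.TwoFusion.GoldJCentre
import Cfsg.Agent.ClosedRed.IndCR
import Cfsg.Agent.ClosedTwo.PspEnd
import Cfsg.Agent.ClosedTwo.Row
import Cfsg.Agent.FooteOdd.PSU
import Cfsg.Prelude.Def_LieTypeChar
import Cfsg.Agent.FooteOrth.Rows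
import Cfsg.Agent.ClosedExc.Rows
import Cfsg.Agent.Nodes.RGDTwE6
import Cfsg.Agent.ClosedTw.Links
import Cfsg.Agent.ChevalleyStructure.TwE6Card
import Cfsg.Agent.ChevalleyStructure.FixedCard
import Cfsg.Agent.S1066
import Cfsg.Agent.S1102
import Cfsg.Agent.Foote.Inv
import Cfsg.Agent.OddHalf.D8.RowM11
import Cfsg.Agent.QTUnique.MTwelve
import Cfsg.Agent.KFacts.MM.Main
import Cfsg.Agent.Foote.Bridge
import Cfsg.Agent.ClosedTwo.Alt
import Cfsg.Agent.KFacts.M24Two.Syl
import Cfsg.Agent.SporadicA.OctadFix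
import Cfsg.Agent.S1554
import Cfsg.Agent.S0360
import Cfsg.Prelude.Def_Spor_Mathieu
import Cfsg.Agent.UGT.EndJ1.Data
import Cfsg.Agent.SporadicB.J1.Main
import Cfsg.Agent.Foote.Ind
import Cfsg.Agent.KFacts.J4.SheetMJ4
import Cfsg.Agent.KFacts.SuzSheetE
import Cfsg.Agent.KFacts.SuzSheetM
import Cfsg.Agent.KFacts.Co1.CaseM
import Cfsg.Agent.CoOneType.Identify
import Cfsg.Agent.Foote.Row.BabyModel
import Cfsg.Agent.KFacts.CoTwo.QuotInst
import Cfsg.Agent.Co2Type.CardCo2
import Cfsg.Agent.Foote.HeType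
import Cfsg.Agent.KFacts.He.Hyp
import Cfsg.Agent.KFacts.FiTF.SheetF
import Cfsg.Agent.KFacts.FiTF.QuasiBInst
import Cfsg.Agent.KFacts.FiTF.SubOrb
import Cfsg.Agent.FooteRow.Ru
import Cfsg.Agent.KFacts.FiTT.Final
import Cfsg.Agent.KFacts.FiTT.AllPairs
import Cfsg.Agent.R08.AutT
import Cfsg.Agent.ClosedTwo.LieTwo
import Cfsg.Agent.StrongEmb.Strong
import Cfsg.Agent.S0280
import Cfsg.Agent.S0283
import Cfsg.Agent.ClosedSpor.Cen
import Cfsg.Agent.TypeM.FactsMcL
import Cfsg.Agent.TypeM.FactsLy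
import Cfsg.Agent.KFacts.ON.OneClass
import Cfsg.Agent.KFacts.Co3D4.Model
import Cfsg.Agent.KFacts.Co3.Syl
import Cfsg.Agent.R08.FiTwentyThree
import Cfsg.Agent.Fischer.Fi23Simple
import Cfsg.Agent.Foote.Row.JThree
import Cfsg.Agent.Foote.Row.MonsterModel
import Cfsg.Agent.Foote.Row.HN
import Cfsg.Agent.Foote.Row.HS
import Cfsg.Agent.KFacts.Baby.RowB
import Cfsg.Agent.MonsterU.Uncond
import Cfsg.Agent.MonsterP.Equiv
import Cfsg.Agent.TwoFusion.ClosedCommutator
import Cfsg.Agent.S1173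
import Cfsg.Agent.S1152
import Cfsg.Agent.S1157
import Cfsg.Agent.S1116
import Cfsg.Agent.LieRecognition.ReeInv
import Cfsg.Agent.LieRecognition.ReePSL
import Cfsg.Agent.ClosedTwo.Elem
import Cfsg.Agent.TitsK.Inst

-- merged: Cfsg.Agent.ClosedRed.Comp
section

/-!
# Foote's theorem (S1252): the components

* `sylow_le_of_not_normalizer`, `cases` : a strongly closed subgroup `A` and a component `L` with `L/Z(L)` a row;
* `Hyp S A` : the hypothesis of S1252; `Hyp.oddCore`, `Hyp.inf_pCore`, `Hyp.not_sylow_le`;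
* `Hyp.exc` : if `A` does not centralise the component `L` then `Z(L) = 1`, `L` is exceptional and `A ∩ L = Z(S ∩ L)`.
-/

set_option autoImplicit false
set_option linter.unusedSectionVars false

namespace Cfsg.Agent.ClosedRed

open Subgroup Cfsg
open scoped commutatorElement
open Cfsg.Agent.ClosedTwo
open Cfsg.Agent.SignalizersComponents Cfsg.Agent.SignalizersComponents.Components
open Cfsg.Agent.SylowL.CompFacts

universe u

section Gen

variable {X : Type u} [Group X] [Finite X] {S : Sylow 2 X} {A K : Subgroup X}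

/-- If `A` does not normalise the component `K` then `S ∩ K ≤ A`. -/
theorem sylow_le_of_not_normalizer (hA : IsStronglyClosed A (S : Subgroup X)) (hK : IsComponent K)
    (hn : ¬ A ≤ normalizer (K : Set X)) : (S : Subgroup X) ⊓ K ≤ A := by
  have hperf : Group.IsPerfect K := hK.2.1
  obtain ⟨P, hP⟩ := exists_sylow S hK.1
  obtain ⟨a, ha, hno⟩ := SetLike.not_le_iff_exists.1 hn
  have haS := hA.1 ha
  have hcomp : IsComponent (K.map (MulAut.conj a).toMonoidHom) := isComponent_conj a hK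
  have hne : K ≠ K.map (MulAut.conj a).toMonoidHom := by
    intro h0
    apply hno
    rw [mem_normalizer_iff]
    intro k
    constructor
    · intro hk
      rw [h0]
      exact ⟨k, hk, rfl⟩
    · intro hk
      rw [h0] at hk
      obtain ⟨l, hl, he⟩ := hk
      have : l = k := by
        have h1 : a * l * a⁻¹ = a * k * a⁻¹ := he
        simpa using h1
      exact this ▸ hl
  have hcomm := component_commutator_eq_bot_of_ne hK hcomp hne
  have hcm : ∀ k ∈ K, ∀ x ∈ K, k * (a * x * a⁻¹) = (a * x * a⁻¹) * k := by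
    intro k hk x hx
    rw [← commutatorElement_eq_one_iff_mul_comm, ← mem_bot, ← hcomm]
    exact commutator_mem_commutator hk ⟨x, hx, rfl⟩
  refine le_of_focal (D := A) P hP ?_
  intro x hx g hg hgx
  obtain ⟨hxS, hxK⟩ := mem_inf.1 hx
  have h1 : a * x * a⁻¹ * x⁻¹ ∈ A := by
    rw [show a * x * a⁻¹ * x⁻¹ = a * (x * a⁻¹ * x⁻¹) by group]
    exact mul_mem ha (closed_conj hA (inv_mem ha) hxS)
  have h2 : g * (a * x * a⁻¹ * x⁻¹) * g⁻¹ = a * x * a⁻¹ * (g * x⁻¹ * g⁻¹) := by
    rw [show g * (a * x * a⁻¹ * x⁻¹) * g⁻¹ = g * (a * x * a⁻¹) * (x⁻¹ * g⁻¹) by group, hcm g hg x hxK]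
    group
  have h3 : g * (a * x * a⁻¹ * x⁻¹) * g⁻¹ ∈ A := by
    refine hA.2 _ h1 g ?_
    rw [h2]
    exact mul_mem (mul_mem (mul_mem haS hxS) (inv_mem haS)) hgx
  rw [h2] at h3
  have := mul_mem (inv_mem h1) h3
  rwa [show (a * x * a⁻¹ * x⁻¹)⁻¹ * (a * x * a⁻¹ * (g * x⁻¹ * g⁻¹)) = x * (g * x⁻¹ * g⁻¹) by group] at this

/-- the case where the image of `A ∩ K` in `K/Z(K)` is a Sylow subgroup -/
theorem le_of_image_eq (hA : IsStronglyClosed A (S : Subgroup X)) (hK : IsComponent K)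
    (h1 : (A.subgroupOf K).map (QuotientGroup.mk' (center K)) =
      ((S : Subgroup X).subgroupOf K).map (QuotientGroup.mk' (center K))) : (S : Subgroup X) ⊓ K ≤ A := by
  have hperf : Group.IsPerfect K := hK.2.1
  obtain ⟨P0, hP0⟩ := exists_sylow S hK.1
  refine le_of_focal P0 hP0 ?_
  intro x hx g hg hgx
  obtain ⟨hxS, hxK⟩ := mem_inf.1 hx
  have h2 : QuotientGroup.mk' (center K) ⟨x, hxK⟩ ∈ (A.subgroupOf K).map (QuotientGroup.mk' (center K)) := by
    rw [h1]
    exact ⟨⟨x, hxK⟩, hxS, rfl⟩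
  obtain ⟨b, hb, he⟩ := h2
  have hz : b⁻¹ * ⟨x, hxK⟩ ∈ center K := QuotientGroup.eq.1 he
  have hz' : (b : X)⁻¹ * x ∈ centralizer (K : Set X) := mem_center_iff_mem_centralizer.1 hz
  have hbA : (b : X) ∈ A := hb
  obtain ⟨z, hzd⟩ : ∃ z, z = (b : X)⁻¹ * x := ⟨_, rfl⟩
  rw [← hzd] at hz'
  have hxbz : x = b * z := by rw [hzd]; group
  have hgz : g * z⁻¹ = z⁻¹ * g := mem_centralizer_iff.1 (inv_mem hz') g hg
  have hzS : z ∈ (S : Subgroup X) := by
    rw [hzd]
    exact mul_mem (inv_mem (hA.1 hbA)) hxS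
  have h3 : g * x⁻¹ * g⁻¹ = z⁻¹ * (g * (b : X)⁻¹ * g⁻¹) := by
    rw [hxbz, mul_inv_rev, ← mul_assoc g, hgz]
    group
  have h4 : g * (b : X)⁻¹ * g⁻¹ ∈ (S : Subgroup X) := by
    have := mul_mem hzS hgx
    rwa [h3, mul_inv_cancel_left] at this
  have h5 := hA.2 _ (inv_mem hbA) g h4
  have h6 : x * (g * x⁻¹ * g⁻¹) = b * (g * (b : X)⁻¹ * g⁻¹) := by
    rw [h3, hxbz]; group
  rw [h6]
  exact mul_mem hbA h5

/-- the case where the image of `A ∩ K` in `K/Z(K)` is trivial -/
theorem cent_of_image_bot (hcc : Comm.{u}) (hA : IsStronglyClosed A (S : Subgroup X)) (hK : IsComponent K)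
    (h1 : (A.subgroupOf K).map (QuotientGroup.mk' (center K)) = ⊥) (hno : ¬ (S : Subgroup X) ⊓ K ≤ A) :
    K ≤ centralizer (A : Set X) := by
  have hperf : Group.IsPerfect K := hK.2.1
  obtain ⟨P0, hP0⟩ := exists_sylow S hK.1
  have hc : ∀ a ∈ A ⊓ K, a ∈ centralizer (K : Set X) := by
    intro a ha
    obtain ⟨ha1, ha2⟩ := mem_inf.1 ha
    have h2 : QuotientGroup.mk' (center K) ⟨a, ha2⟩ ∈ (A.subgroupOf K).map (QuotientGroup.mk' (center K)) :=
      ⟨⟨a, ha2⟩, ha1, rfl⟩
    rw [h1, mem_bot, QuotientGroup.mk'_apply, QuotientGroup.eq_one_iff] at h2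
    exact mem_center_iff_mem_centralizer.1 h2
  by_cases hT : (S : Subgroup X) ⊓ K ≤ centralizer (K : Set X)
  · exfalso
    apply hno
    refine le_of_focal P0 hP0 ?_
    intro x hx g hg _
    have h2 := mem_centralizer_iff.1 (hT hx) g hg
    have h3 : x * (g * x⁻¹ * g⁻¹) = 1 := by
      calc x * (g * x⁻¹ * g⁻¹) = x * g * x⁻¹ * g⁻¹ := by group
        _ = 1 := by rw [← h2]; group
    rw [h3]
    exact one_mem _
  · obtain ⟨x0, hx0, hx0'⟩ := SetLike.not_le_iff_exists.1 hT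
    exact cent_of_norm hcc hA hK hc hx0 hx0' (norm_of_central hA hK hc hx0 hx0')

/-- The elements of 2-power order of a subnormal subgroup `K` are `K`-conjugate into `S`. -/
theorem exists_conj_mem (S : Sylow 2 X) (hK : K.IsSubnormal) {y : X} (hy : y ∈ K) {m : ℕ} (hm : y ^ 2 ^ m = 1) :
    ∃ k ∈ K, k * y * k⁻¹ ∈ (S : Subgroup X) := by
  have h2 : Fact (Nat.Prime 2) := ⟨Nat.prime_two⟩
  obtain ⟨P, hP⟩ := exists_sylow S hK
  have h1 : IsPGroup 2 (zpowers (⟨y, hy⟩ : K)) := by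
    apply IsPGroup.of_card (n := (Nat.factorization (orderOf (⟨y, hy⟩ : K))) 2)
    rw [Nat.card_zpowers]
    have h3 : orderOf (⟨y, hy⟩ : K) ∣ 2 ^ m := by
      apply orderOf_dvd_of_pow_eq_one
      exact Subtype.ext hm
    obtain ⟨j, -, hj⟩ := (Nat.dvd_prime_pow Nat.prime_two).1 h3
    rw [hj, Nat.Prime.factorization_pow Nat.prime_two, Finsupp.single_eq_same]
  obtain ⟨Q, hQ⟩ := h1.exists_le_sylow
  obtain ⟨k, hk⟩ := MulAction.exists_smul_eq K Q P
  refine ⟨k, k.2, ?_⟩
  have h3 : k * ⟨y, hy⟩ * k⁻¹ ∈ (P : Subgroup K) := by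
    rw [← hk]
    exact ⟨⟨y, hy⟩, hQ (mem_zpowers _), rfl⟩
  rw [hP] at h3
  exact h3

theorem exists_pow_eq_one (hA : A ≤ (S : Subgroup X)) {a : X} (ha : a ∈ A) : ∃ m : ℕ, a ^ 2 ^ m = 1 := by
  obtain ⟨m, hm⟩ := S.2 ⟨a, hA ha⟩
  exact ⟨m, congrArg Subtype.val hm⟩

/-- If `S ∩ K ≤ A` then the same holds for the conjugates of `K`. -/
theorem sylow_le_conj (hA : IsStronglyClosed A (S : Subgroup X)) (hK : K.IsSubnormal)
    (h : (S : Subgroup X) ⊓ K ≤ A) (g : X) :
    (S : Subgroup X) ⊓ K.map (MulAut.conj g).toMonoidHom ≤ A := by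
  rintro x ⟨hxS, y, hy, he⟩
  have hx : x = g * y * g⁻¹ := he.symm
  obtain ⟨m, hm⟩ := S.2 ⟨x, hxS⟩
  have hm' : x ^ 2 ^ m = 1 := congrArg Subtype.val hm
  have hym : y ^ 2 ^ m = 1 := by
    rw [hx, conj_pow] at hm'
    have h1 := congrArg (fun t => g⁻¹ * t * g) hm'
    simpa [mul_assoc] using h1
  obtain ⟨k, hk, hkS⟩ := exists_conj_mem S hK hy hym
  have h1 : k * y * k⁻¹ ∈ A := h (mem_inf.2 ⟨hkS, mul_mem (mul_mem hk hy) (inv_mem hk)⟩)
  have h2 := hA.2 _ h1 (g * k⁻¹)
  have e : g * k⁻¹ * (k * y * k⁻¹) * (g * k⁻¹)⁻¹ = x := by rw [hx]; group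
  rw [e] at h2
  exact h2 hxS

/-- The index of `A` in a product of commuting subgroups. -/
theorem odd_relIndex_sup {H M : Subgroup X} (hc : ∀ x ∈ H, ∀ y ∈ M, x * y = y * x) (h1 : Odd (A.relIndex H))
    (h2 : Odd (A.relIndex M)) : Odd (A.relIndex (H ⊔ M)) := by
  let f : H × M →* X := MonoidHom.noncommCoprod H.subtype M.subtype (fun x y => hc x x.2 y y.2)
  have hf : f.range = H ⊔ M := by
    apply le_antisymm
    · rintro _ ⟨⟨x, y⟩, rfl⟩
      exact mul_mem (mem_sup_left x.2) (mem_sup_right y.2)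
    · apply sup_le
      · intro x hx
        exact ⟨(⟨x, hx⟩, 1), mul_one x⟩
      · intro y hy
        exact ⟨(1, ⟨y, hy⟩), one_mul y⟩
  have h3 : (A.comap f).index = A.relIndex (H ⊔ M) := by
    rw [index_comap, hf]
  have h4 : (A.subgroupOf H).prod (A.subgroupOf M) ≤ A.comap f := by
    rintro ⟨x, y⟩ ⟨hx, hy⟩
    exact mul_mem (mem_subgroupOf.1 hx) (mem_subgroupOf.1 hy)
  have h5 := Subgroup.index_dvd_of_le h4
  rw [Subgroup.index_prod, h3] at h5
  exact (h1.mul h2).of_dvd_nat h5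

end Gen

/-- The hypothesis of S1252. -/
structure Hyp {G : Type u} [Group G] [Finite G] (S : Sylow 2 G) (A : Subgroup G) : Prop where
  sc : IsStronglyClosed A (S : Subgroup G)
  ev : ∀ N : Subgroup G, N.Normal → N ≠ ⊥ → Even ((A ⊓ N).relIndex N)

namespace Hyp

variable {G : Type u} [Group G] [Finite G] {S : Sylow 2 G} {A L : Subgroup G} (h : Hyp S A)

include h

theorem oddCore : Cfsg.oddCore G = ⊥ := by
  by_contra hne
  have h1 := h.ev (Cfsg.oddCore G) inferInstance hne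
  have h2 : Odd (Nat.card (Cfsg.oddCore G)) :=
    Nat.coprime_two_right.1 (Cfsg.Agent.Lib.Cores.pPrimeCore_coprime (G := G) 2)
  have h3 : Odd ((A ⊓ Cfsg.oddCore G).relIndex (Cfsg.oddCore G)) :=
    h2.of_dvd_nat (by
      rw [relIndex]
      exact Subgroup.index_dvd_card _)
  exact (Nat.not_even_iff_odd.2 h3) h1

theorem inf_pCore : A ⊓ pCore 2 G = ⊥ := by
  have hp := Cfsg.Agent.Lib.Cores.pCore_normal (G := G) 2
  have hn : (A ⊓ pCore 2 G).Normal := by
    refine ⟨fun x hx g => ?_⟩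
    obtain ⟨hx1, hx2⟩ := mem_inf.1 hx
    have h1 := hp.conj_mem x hx2 g
    exact mem_inf.2 ⟨h.sc.2 x hx1 g (Cfsg.Agent.Lib.Cores.pCore_le_sylow S h1), h1⟩
  by_contra hne
  have h1 := h.ev _ hn hne
  rw [← inf_assoc, inf_idem, relIndex_self] at h1
  exact absurd h1 (by decide)

theorem eq_one_of_pCore {a : G} (ha : a ∈ A) (h2 : a ∈ pCore 2 G) : a = 1 := by
  have : a ∈ A ⊓ pCore 2 G := mem_inf.2 ⟨ha, h2⟩
  rw [h.inf_pCore] at this
  exact mem_bot.1 this

theorem comm_pCore {a u : G} (ha : a ∈ A) (hu : u ∈ pCore 2 G) : a * u = u * a := by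
  have hp := Cfsg.Agent.Lib.Cores.pCore_normal (G := G) 2
  have huS := Cfsg.Agent.Lib.Cores.pCore_le_sylow S hu
  have h1 : a * u * a⁻¹ * u⁻¹ ∈ A := by
    rw [show a * u * a⁻¹ * u⁻¹ = a * (u * a⁻¹ * u⁻¹) by group]
    exact mul_mem ha (closed_conj h.sc (inv_mem ha) huS)
  have h2 : a * u * a⁻¹ * u⁻¹ ∈ pCore 2 G := mul_mem (hp.conj_mem u hu a) (inv_mem hu)
  have h3 := h.eq_one_of_pCore h1 h2
  have h4 := mul_inv_eq_one.1 h3
  exact mul_inv_eq_iff_eq_mul.1 h4

theorem center_le (hL : IsComponent L) {x : G} (hx : x ∈ L) (hc : x ∈ centralizer (L : Set G)) :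
    x ∈ pCore 2 G := by
  have : Fact (Nat.Prime 2) := ⟨Nat.prime_two⟩
  exact BalanceAux.center_component_le_pCore 2 h.oddCore hL ⟨hx, hc⟩

theorem eq_one_of_center (hL : IsComponent L) {a : G} (ha : a ∈ A) (hx : a ∈ L)
    (hc : a ∈ centralizer (L : Set G)) : a = 1 := h.eq_one_of_pCore ha (h.center_le hL hx hc)

/-- `A` does not contain a Sylow 2-subgroup of a component. -/
theorem not_sylow_le (hL : IsComponent L) : ¬ (S : Subgroup G) ⊓ L ≤ A := by
  classical
  intro hle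
  have h2 : Fact (Nat.Prime 2) := ⟨Nat.prime_two⟩
  have hfin : Fintype (Subgroup G) := Fintype.ofFinite _
  -- the conjugates of `L`
  let C : Finset (Subgroup G) := Finset.univ.filter fun K => ∃ g : G, K = L.map (MulAut.conj g).toMonoidHom
  have hC : ∀ K, K ∈ C ↔ ∃ g : G, K = L.map (MulAut.conj g).toMonoidHom := fun K => by
    simp only [C, Finset.mem_filter, Finset.mem_univ, true_and]
  have hcomp : ∀ K ∈ C, IsComponent K := by
    intro K hK
    obtain ⟨g, rfl⟩ := (hC K).1 hK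
    exact isComponent_conj g hL
  have hodd : ∀ K ∈ C, Odd (A.relIndex K) := by
    intro K hK
    have hK1 := hcomp K hK
    obtain ⟨g, rfl⟩ := (hC K).1 hK
    obtain ⟨P, hP⟩ := exists_sylow S hK1.1
    have h3 : (P : Subgroup ↥(L.map (MulAut.conj g).toMonoidHom)) ≤
        A.subgroupOf (L.map (MulAut.conj g).toMonoidHom) := by
      rw [hP]
      intro x hx
      exact sylow_le_conj h.sc hL.1 hle g (mem_inf.2 ⟨hx, x.2⟩)
    have h4 := Subgroup.index_dvd_of_le h3
    rw [← Nat.not_even_iff_odd, even_iff_two_dvd]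
    intro h5
    exact P.not_dvd_index (h5.trans h4)
  have key : ∀ s : Finset (Subgroup G), s ⊆ C → Odd (A.relIndex (⨆ K ∈ s, K)) := by
    intro s
    induction s using Finset.induction_on with
    | empty =>
      intro _
      have : (⨆ K ∈ (∅ : Finset (Subgroup G)), K) = ⊥ := by simp
      rw [this, relIndex_bot_right]
      exact odd_one
    | insert K s hK ih =>
      intro hs
      rw [Finset.iSup_insert]
      have hKC := hs (Finset.mem_insert_self K s)
      have hsC : s ⊆ C := fun K' hK' => hs (Finset.mem_insert_of_mem hK')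
      refine odd_relIndex_sup ?_ (hodd K hKC) (ih hsC)
      intro x hx y hy
      have h3 : (⨆ K' ∈ s, K') ≤ centralizer (K : Set G) := by
        refine iSup₂_le fun K' hK' => ?_
        refine component_le_centralizer_of_ne (hcomp K' (hsC hK')) (hcomp K hKC) ?_
        rintro rfl
        exact hK hK'
      exact mem_centralizer_iff.1 (h3 hy) x hx
  have hN := key C (Finset.Subset.refl C)
  -- the normal closure
  have hnorm : (⨆ K ∈ C, K).Normal := by
    refine ⟨fun x hx g => ?_⟩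
    have h3 : (⨆ K ∈ C, K) ≤ (⨆ K ∈ C, K).comap (MulAut.conj g).toMonoidHom := by
      refine iSup₂_le fun K hK => ?_
      rw [← map_le_iff_le_comap]
      obtain ⟨g', rfl⟩ := (hC K).1 hK
      have h4 : (L.map (MulAut.conj g').toMonoidHom).map (MulAut.conj g).toMonoidHom =
          L.map (MulAut.conj (g * g')).toMonoidHom := by
        rw [map_map]
        congr 1
        ext y
        simp [mul_assoc]
      rw [h4]
      exact le_iSup₂_of_le (L.map (MulAut.conj (g * g')).toMonoidHom) ((hC _).2 ⟨g * g', rfl⟩) le_rfl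
    exact h3 hx
  have hne : (⨆ K ∈ C, K) ≠ ⊥ := by
    intro h3
    have hLC : L ∈ C := (hC L).2 ⟨1, by
      have : (MulAut.conj (1 : G)).toMonoidHom = MonoidHom.id G := by ext y; simp
      rw [this, map_id]⟩
    have h4 : L ≤ ⨆ K ∈ C, K := le_iSup₂_of_le L hLC le_rfl
    rw [h3, le_bot_iff] at h4
    exact component_ne_bot hL h4
  have h5 := h.ev _ hnorm hne
  rw [inf_relIndex_right] at h5
  exact (Nat.not_even_iff_odd.2 hN) h5

/-- `A` normalises the components. -/
theorem le_normalizer (hL : IsComponent L) : A ≤ normalizer (L : Set G) := by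
  by_contra hn
  exact h.not_sylow_le hL (sylow_le_of_not_normalizer h.sc hL hn)

/-- The components which are not centralised by `A`. -/
theorem exc (hcc : Comm.{u}) (hE2 : E2.{u}) (hL : IsComponent L) (hrow : Row (↥L ⧸ center ↥L))
    (hact : ¬ L ≤ centralizer (A : Set G)) :
    IsSimpleGroup L ∧ center L = ⊥ ∧ A ⊓ L ≠ ⊥ ∧ Exc L ∧ ∃ T : Sylow 2 L, (T : Subgroup L).map L.subtype =
      (S : Subgroup G) ⊓ L ∧ A ⊓ L = ((center (T : Subgroup L)).map (T : Subgroup L).subtype).map L.subtype := by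
  have hno := h.not_sylow_le hL
  obtain ⟨P, hP, hsc⟩ := exists_quot S hL.1
  obtain ⟨T, hT⟩ := exists_sylow S hL.1
  have hsc1 := hsc A h.sc
  have hb : (A.subgroupOf L).map (QuotientGroup.mk' (center L)) ≠ ⊥ := fun h0 =>
    hact (cent_of_image_bot hcc h.sc hL h0 hno)
  have hs : (A.subgroupOf L).map (QuotientGroup.mk' (center L)) ≠ (P : Subgroup (L ⧸ center L)) := by
    intro h0
    rw [hP] at h0
    exact hno (le_of_image_eq h.sc hL h0)
  -- the row
  obtain ⟨hz, hrz, hex⟩ : (A.subgroupOf L).map (QuotientGroup.mk' (center L)) =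
      (center (P : Subgroup (L ⧸ center L))).map (P : Subgroup (L ⧸ center L)).subtype ∧
        ClosedRowZ (L ⧸ center L) ∧ Exc (L ⧸ center L) := by
    rcases hrow with hr | ⟨hr, hex⟩
    · rcases hr P _ hsc1 with h1 | h1
      · exact absurd h1 hb
      · exact absurd h1 hs
    · rcases hr P _ hsc1 with h1 | h1 | h1
      · exact absurd h1 hb
      · exact absurd h1 hs
      · exact ⟨h1, hr, hex⟩
  -- the centre of `L` is a 2-group
  have hZ2 : IsPGroup 2 (center L) := by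
    intro z
    have h1 : ((z : L) : G) ∈ pCore 2 G := h.center_le hL (z : L).2 (mem_center_iff_mem_centralizer.1 z.2)
    obtain ⟨m, hm⟩ := Cfsg.Agent.Lib.Cores.pCore_isPGroup (G := G) 2 ⟨_, h1⟩
    have hm' : ((z : L) : G) ^ 2 ^ m = 1 := congrArg Subtype.val hm
    refine ⟨m, ?_⟩
    apply Subtype.ext
    apply Subtype.ext
    exact hm'
  have hBsc : IsStronglyClosed (A.subgroupOf L) (T : Subgroup L) := by
    rw [hT]
    exact sc_subgroupOf L h.sc
  have hBZ : A.subgroupOf L ⊓ center L = ⊥ := by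
    rw [eq_bot_iff]
    rintro x ⟨hx1, hx2⟩
    rw [mem_bot]
    apply Subtype.ext
    exact h.eq_one_of_center hL hx1 x.2 (mem_center_iff_mem_centralizer.1 hx2)
  have hB1 : A.subgroupOf L ≠ ⊥ := by
    intro h0
    apply hb
    rw [h0, Subgroup.map_bot]
  have hBT : ¬ (T : Subgroup L) ≤ A.subgroupOf L ⊔ center L := by
    intro h0
    apply hs
    apply le_antisymm hsc1.1
    rw [hP, ← hT]
    have h1 := Subgroup.map_mono (f := QuotientGroup.mk' (center L)) h0
    rw [Subgroup.map_sup] at h1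
    have h2 : (center L).map (QuotientGroup.mk' (center L)) = ⊥ := by
      rw [Subgroup.map_eq_bot_iff, QuotientGroup.ker_mk']
    rwa [h2, sup_bot_eq] at h1
  have hc1 : center L = ⊥ := hE2 L hL.2.1 hex hrz hZ2 T (A.subgroupOf L) hBsc hBZ hB1 hBT
  -- the isomorphism `L ≃* L / Z(L)`
  have hinj : Function.Injective (QuotientGroup.mk' (center L)) := by
    rw [← MonoidHom.ker_eq_bot_iff, QuotientGroup.ker_mk', hc1]
  let e : L ≃* L ⧸ center L := MulEquiv.ofBijective (QuotientGroup.mk' (center L))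
    ⟨hinj, QuotientGroup.mk'_surjective _⟩
  have he : e.toMonoidHom = QuotientGroup.mk' (center L) := rfl
  have hsimp : IsSimpleGroup L := by
    have h1 : IsSimpleGroup (L ⧸ center L) := hL.2.2
    have h2 : Nontrivial L := e.toEquiv.nontrivial
    exact IsSimpleGroup.isSimpleGroup_of_surjective e.symm.toMonoidHom e.symm.surjective
  have hexL : Exc L := hex.congr e.symm
  have hPT : (P : Subgroup (L ⧸ center L)) = (T : Subgroup L).map e.toMonoidHom := by rw [he, hP, hT]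
  have hzT : A.subgroupOf L = (center (T : Subgroup L)).map (T : Subgroup L).subtype := by
    have h1 := map_center e hPT
    rw [← hz, ← he] at h1
    exact (Subgroup.map_injective e.injective h1).symm
  refine ⟨hsimp, hc1, ?_, hexL, T, ?_, ?_⟩
  · intro h0
    apply hB1
    rw [← Subgroup.inf_subgroupOf_right, h0, Subgroup.bot_subgroupOf]
  · rw [hT, Subgroup.subgroupOf_map_subtype]
  · rw [← hzT, Subgroup.subgroupOf_map_subtype]

end Hyp

end Cfsg.Agent.ClosedRed

end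

-- merged: Cfsg.Agent.ClosedRed.Main
section

/-!
# Foote's theorem (S1252): the reduction to simple groups

`main`: S1252 from the rows (`Row X` for all nonabelian finite simple groups `X`), the facts `E2`, `E3` on the
exceptional groups, and `Comm` (disjoint strongly closed subgroups commute modulo the core).
-/

set_option autoImplicit false
set_option linter.unusedSectionVars false

namespace Cfsg.Agent.ClosedRed

open Subgroup Cfsg
open scoped commutatorElement
open Cfsg.Agent.ClosedTwo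
open Cfsg.Agent.SignalizersComponents Cfsg.Agent.SignalizersComponents.Components
open Cfsg.Agent.SylowL.CompFacts

universe u

section

variable {G : Type u} [Group G] [Finite G] {S : Sylow 2 G} {A : Subgroup G}

/-- The components which are not centralised by `A`. -/
def Active (A : Subgroup G) (L : Subgroup G) : Prop := IsComponent L ∧ ¬ L ≤ centralizer (A : Set G)

/-- The product of the active components. -/
def act (A : Subgroup G) : Subgroup G := sSup {L | Active A L}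

theorem le_act {L : Subgroup G} (hL : Active A L) : L ≤ act A := le_sSup hL

theorem act_le_iff {H : Subgroup G} : act A ≤ H ↔ ∀ L : Subgroup G, Active A L → L ≤ H := sSup_le_iff

end

/-- The context: the hypothesis of S1252, the rows for the components, `E2`, `E3`, `Comm`. -/
structure Ctx {G : Type u} [Group G] [Finite G] (S : Sylow 2 G) (A : Subgroup G) : Prop where
  hyp : Hyp S A
  comm : Comm.{u}
  e2 : E2.{u}
  e3 : E3.{u}
  sz : Sz.{u}
  row : ∀ L : Subgroup G, IsComponent L → Row (↥L ⧸ center ↥L)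

namespace Ctx

variable {G : Type u} [Group G] [Finite G] {S : Sylow 2 G} {A L : Subgroup G} (h : Ctx S A)

include h

theorem exc (hL : Active A L) :
    IsSimpleGroup L ∧ center L = ⊥ ∧ A ⊓ L ≠ ⊥ ∧ Exc L ∧ ∃ T : Sylow 2 L, (T : Subgroup L).map L.subtype =
      (S : Subgroup G) ⊓ L ∧ A ⊓ L = ((center (T : Subgroup L)).map (T : Subgroup L).subtype).map L.subtype :=
  h.hyp.exc h.comm h.e2 hL.1 (h.row L hL.1) hL.2

theorem inner (hL : Active A L) : ∀ a ∈ A, ∃ z ∈ A ⊓ L, ∀ x ∈ L, a * x * a⁻¹ = z * x * z⁻¹ := by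
  obtain ⟨-, -, -, he, T, hT, hz⟩ := h.exc hL
  exact h.e3 G S A L h.hyp.sc (h.hyp.le_normalizer hL.1) he T hT hz

/-- Conjugates of active components are active. -/
theorem active_conj (hL : Active A L) (g : G) : Active A (L.map (MulAut.conj g).toMonoidHom) := by
  refine ⟨isComponent_conj g hL.1, fun hc => ?_⟩
  obtain ⟨-, -, hne, -⟩ := h.exc hL
  apply hne
  rw [eq_bot_iff]
  rintro a ⟨haA, haL⟩
  rw [mem_bot]
  obtain ⟨m, hm⟩ := exists_pow_eq_one h.hyp.sc.1 haA
  have hy : g * a * g⁻¹ ∈ L.map (MulAut.conj g).toMonoidHom := ⟨a, haL, rfl⟩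
  have hym : (g * a * g⁻¹) ^ 2 ^ m = 1 := by rw [conj_pow, hm]; group
  obtain ⟨k, hk, hkS⟩ := exists_conj_mem S (isComponent_conj g hL.1).1 hy hym
  have h1 : k * (g * a * g⁻¹) * k⁻¹ ∈ A := by
    have h2 := h.hyp.sc.2 a haA (k * g)
    have e : k * g * a * (k * g)⁻¹ = k * (g * a * g⁻¹) * k⁻¹ := by group
    rw [e] at h2
    exact h2 hkS
  have h2 : k * (g * a * g⁻¹) * k⁻¹ ∈ L.map (MulAut.conj g).toMonoidHom :=
    mul_mem (mul_mem hk hy) (inv_mem hk)
  have h3 : k * (g * a * g⁻¹) * k⁻¹ ∈ centralizer ((L.map (MulAut.conj g).toMonoidHom : Subgroup G) : Set G) := by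
    rw [mem_centralizer_iff]
    intro y hy'
    exact (mem_centralizer_iff.1 (hc hy') _ h1).symm
  have h4 := h.hyp.eq_one_of_center (isComponent_conj g hL.1) h1 h2 h3
  have e : a = (k * g)⁻¹ * (k * (g * a * g⁻¹) * k⁻¹) * (k * g) := by group
  rw [e, h4]
  group

theorem act_normal : (act A).Normal := by
  refine ⟨fun x hx g => ?_⟩
  have h1 : act A ≤ (act A).comap (MulAut.conj g).toMonoidHom := by
    rw [act_le_iff]
    intro L hL
    rw [← map_le_iff_le_comap]
    exact le_act (h.active_conj hL g)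
  exact h1 hx

/-- Every element of `A` acts on the active components as an element of `A` in their product. -/
theorem exists_mul {a : G} (ha : a ∈ A) :
    ∃ c ∈ A, c ∈ act A ∧ ∀ L : Subgroup G, IsComponent L → ∀ l ∈ L, (c⁻¹ * a) * l = l * (c⁻¹ * a) := by
  classical
  have hfin : Fintype (Subgroup G) := Fintype.ofFinite _
  have key : ∀ s : Finset (Subgroup G), (∀ L ∈ s, Active A L) →
      ∃ c ∈ A, c ∈ act A ∧ (∀ L ∈ s, ∀ l ∈ L, a * l * a⁻¹ = c * l * c⁻¹) ∧
        ∀ L : Subgroup G, IsComponent L → L ∉ s → ∀ l ∈ L, c * l = l * c := by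
    intro s
    induction s using Finset.induction_on with
    | empty =>
      intro _
      refine ⟨1, one_mem _, one_mem _, ?_, ?_⟩
      · intro L hL; exact absurd hL (Finset.notMem_empty L)
      · intro L _ _ l _; rw [one_mul, mul_one]
    | insert L₀ s hL₀ ih =>
      intro hs
      obtain ⟨c, hcA, hcE, hc1, hc2⟩ := ih fun L hL => hs L (Finset.mem_insert_of_mem hL)
      have hact := hs L₀ (Finset.mem_insert_self _ _)
      obtain ⟨b, hb, hbl⟩ := h.inner hact a ha
      obtain ⟨hbA, hbL⟩ := mem_inf.1 hb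
      have hbc : ∀ L : Subgroup G, IsComponent L → L ≠ L₀ → ∀ l ∈ L, b * l = l * b := by
        intro L hL hne l hl
        exact mem_centralizer_iff.1 (component_le_centralizer_of_ne hL hact.1 hne hl) b hbL
      refine ⟨c * b, mul_mem hcA hbA, mul_mem hcE (le_act hact hbL), ?_, ?_⟩
      · intro L hL l hl
        rcases Finset.mem_insert.1 hL with rfl | hL
        · have h1 : b * l * b⁻¹ ∈ L := mul_mem (mul_mem hbL hl) (inv_mem hbL)
          have h2 := hc2 L hact.1 hL₀ _ h1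
          calc a * l * a⁻¹ = b * l * b⁻¹ := hbl l hl
            _ = (b * l * b⁻¹) * c * c⁻¹ := by group
            _ = c * (b * l * b⁻¹) * c⁻¹ := by rw [h2]
            _ = c * b * l * (c * b)⁻¹ := by group
        · have hne : L ≠ L₀ := fun he => hL₀ (he ▸ hL)
          have h1 := hbc L (hs L (Finset.mem_insert_of_mem hL)).1 hne l hl
          calc a * l * a⁻¹ = c * l * c⁻¹ := hc1 L hL l hl
            _ = c * (l * b) * b⁻¹ * c⁻¹ := by group
            _ = c * (b * l) * b⁻¹ * c⁻¹ := by rw [h1]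
            _ = c * b * l * (c * b)⁻¹ := by group
      · intro L hL hLs l hl
        rw [Finset.mem_insert, not_or] at hLs
        have h1 := hbc L hL hLs.1 l hl
        have h2 := hc2 L hL hLs.2 l hl
        calc c * b * l = c * (b * l) := by group
          _ = (c * l) * b := by rw [h1]; group
          _ = l * (c * b) := by rw [h2]; group
  obtain ⟨c, hcA, hcE, hc1, hc2⟩ := key (Finset.univ.filter fun L => Active A L)
    (fun L hL => (Finset.mem_filter.1 hL).2)
  refine ⟨c, hcA, hcE, ?_⟩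
  intro L hL l hl
  by_cases hact : Active A L
  · have h3 := hc1 L (Finset.mem_filter.2 ⟨Finset.mem_univ _, hact⟩) l hl
    calc c⁻¹ * a * l = c⁻¹ * (a * l * a⁻¹) * a := by group
      _ = c⁻¹ * (c * l * c⁻¹) * a := by rw [h3]
      _ = l * (c⁻¹ * a) := by group
  · have h3 : L ∉ Finset.univ.filter fun L => Active A L := fun h4 => hact (Finset.mem_filter.1 h4).2
    have h4 := hc2 L hL h3 l hl
    have h5 : L ≤ centralizer (A : Set G) := by
      by_contra h6
      exact hact ⟨hL, h6⟩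
    have h6 : a * l = l * a := mem_centralizer_iff.1 (h5 hl) a ha
    have h7 : c⁻¹ * l = l * c⁻¹ := by
      calc c⁻¹ * l = c⁻¹ * (l * c) * c⁻¹ := by group
        _ = c⁻¹ * (c * l) * c⁻¹ := by rw [h4]
        _ = l * c⁻¹ := by group
    calc c⁻¹ * a * l = c⁻¹ * (a * l) := by group
      _ = (c⁻¹ * l) * a := by rw [h6]; group
      _ = l * (c⁻¹ * a) := by rw [h7]; group

/-- An element of `A` which centralises all components is trivial. -/
theorem eq_one_of_comm {d : G} (hd : d ∈ A) (hc : ∀ L : Subgroup G, IsComponent L → ∀ l ∈ L, d * l = l * d) :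
    d = 1 := by
  have h2 : Fact (Nat.Prime 2) := ⟨Nat.prime_two⟩
  apply h.hyp.eq_one_of_pCore hd
  -- the centralizer of `F*(G)`
  have hpn := Cfsg.Agent.Lib.Cores.pCore_normal (G := G) 2
  have hln := layer_normal (G := G)
  have hn : (centralizer ((pCore 2 G ⊔ layer G : Subgroup G) : Set G)).Normal := by
    have : (pCore 2 G ⊔ layer G).Normal := inferInstance
    infer_instance
  have hmem : ∀ y : G, y ∈ centralizer ((pCore 2 G ⊔ layer G : Subgroup G) : Set G) →
      (∀ u ∈ pCore 2 G, Commute y u) ∧ ∀ L : Subgroup G, IsComponent L → ∀ e ∈ L, Commute y e := by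
    intro y hy
    refine ⟨fun u hu => ?_, fun L hL e he => ?_⟩
    · exact (mem_centralizer_iff.1 hy u (mem_sup_left hu)).symm
    · exact (mem_centralizer_iff.1 hy e (mem_sup_right (component_le_layer hL he))).symm
  have hP : IsPGroup 2 (centralizer ((pCore 2 G ⊔ layer G : Subgroup G) : Set G)) := by
    rw [IsPGroup.iff_card]
    obtain ⟨k, m, hm, hkm⟩ := Nat.exists_eq_two_pow_mul_odd
      (n := Nat.card (centralizer ((pCore 2 G ⊔ layer G : Subgroup G) : Set G))) Nat.card_pos.ne'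
    refine ⟨k, ?_⟩
    suffices hm1 : m = 1 by rw [hkm, hm1, mul_one]
    by_contra hm1
    obtain ⟨p, hp, hpm⟩ := Nat.exists_prime_and_dvd hm1
    have : Fact p.Prime := ⟨hp⟩
    have hpodd : Odd p := hm.of_dvd_nat hpm
    obtain ⟨x, hx⟩ := exists_prime_orderOf_dvd_card' p (hpm.trans ⟨2 ^ k, by rw [hkm, mul_comm]⟩ :
      p ∣ Nat.card (centralizer ((pCore 2 G ⊔ layer G : Subgroup G) : Set G)))
    have h1 : orderOf (x : G) = p := by rw [Subgroup.orderOf_coe]; exact hx
    obtain ⟨h3, h4⟩ := hmem x x.2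
    have h5 : zpowers (x : G) = ⊥ := by
      refine Cfsg.Agent.SignalizersComponents.OddFixed.eq_bot_of_centralizes h.hyp.oddCore ?_ ?_ ?_
      · rw [Nat.card_zpowers, h1]
        exact Nat.coprime_two_right.2 hpodd
      · intro y hy u hu
        obtain ⟨n, rfl⟩ := mem_zpowers_iff.1 hy
        exact (h3 u hu).zpow_left n
      · intro L hL y hy e he
        obtain ⟨n, rfl⟩ := mem_zpowers_iff.1 hy
        exact (h4 L hL e he).zpow_left n
    have h6 : (x : G) ∈ zpowers (x : G) := mem_zpowers _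
    rw [h5, mem_bot] at h6
    rw [h6, orderOf_one] at h1
    exact hp.one_lt.ne h1
  refine Cfsg.Agent.Lib.Cores.le_pCore hn hP ?_
  have h3 : pCore 2 G ⊔ layer G ≤ centralizer ({d} : Set G) := by
    refine sup_le ?_ ?_
    · intro u hu
      rw [mem_centralizer_singleton_iff]
      exact (h.hyp.comm_pCore hd hu).symm
    · rw [layer_le_iff]
      intro L hL l hl
      rw [mem_centralizer_singleton_iff]
      exact (hc L hL l hl).symm
  rw [mem_centralizer_iff]
  intro y hy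
  have := h3 hy
  rw [mem_centralizer_singleton_iff] at this
  exact this

/-- `A ≤ E`. -/
theorem le_act_self : A ≤ act A := by
  intro a ha
  obtain ⟨c, hcA, hcE, hc⟩ := h.exists_mul ha
  have h1 := h.eq_one_of_comm (mul_mem (inv_mem hcA) ha) hc
  rw [inv_mul_eq_one] at h1
  rw [← h1]
  exact hcE

/-- `⟨A^G⟩` is the product of the active components. -/
theorem normalClosure_eq : normalClosure (A : Set G) = act A := by
  have hn := h.act_normal
  apply le_antisymm
  · exact normalClosure_le_normal h.le_act_self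
  · rw [act_le_iff]
    intro L hL
    obtain ⟨hs, -, hne, -⟩ := h.exc hL
    have h1 : ((normalClosure (A : Set G)).subgroupOf L).Normal := inferInstance
    rcases h1.eq_bot_or_eq_top with h2 | h2
    · exfalso
      apply hne
      rw [eq_bot_iff]
      rintro a ⟨haA, haL⟩
      have h3 : (⟨a, haL⟩ : L) ∈ (normalClosure (A : Set G)).subgroupOf L := subset_normalClosure haA
      rw [h2, mem_bot] at h3
      exact mem_bot.2 (congrArg Subtype.val h3)
    · rwa [subgroupOf_eq_top] at h2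

/-- **The reduction.** -/
theorem concl : Concl A := by
  classical
  have hfin : Fintype (Subgroup G) := Fintype.ofFinite _
  let C : Finset (Subgroup G) := Finset.univ.filter fun L => Active A L
  have hC : ∀ K, K ∈ C ↔ Active A K := fun K => by
    simp only [C, Finset.mem_filter, Finset.mem_univ, true_and]
  let e : {x // x ∈ C} ≃ Fin C.card := C.equivFin
  let L : Fin C.card → Subgroup G := fun i => ((e.symm i : {x // x ∈ C}) : Subgroup G)
  have hL : ∀ i, Active A (L i) := fun i => (hC _).1 (e.symm i).2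
  have hinj : ∀ i j, L i = L j → i = j := fun i j hij => e.symm.injective (Subtype.ext hij)
  have hcomm : ∀ i j, i ≠ j → ∀ a ∈ L i, ∀ b ∈ L j, a * b = b * a := by
    intro i j hij a ha b hb
    have h1 : L i ≠ L j := fun h2 => hij (hinj i j h2)
    exact (mem_centralizer_iff.1 (component_le_centralizer_of_ne (hL i).1 (hL j).1 h1 ha) b hb).symm
  refine ⟨C.card, L, hcomm, ?_, ?_, ?_, ?_⟩
  · intro i
    rw [eq_bot_iff]
    rintro x ⟨hx1, hx2⟩
    have h1 : (⨆ j ∈ {j | j ≠ i}, L j) ≤ centralizer (L i : Set G) := by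
      refine iSup₂_le fun j hj y hy => ?_
      rw [mem_centralizer_iff]
      intro z hz
      exact hcomm i j (fun hij => hj hij.symm) z hz y hy
    have h2 : (⟨x, hx1⟩ : L i) ∈ center (L i) := mem_center_iff_mem_centralizer.2 (h1 hx2)
    obtain ⟨-, h3, -⟩ := h.exc (hL i)
    rw [h3, mem_bot] at h2
    exact mem_bot.2 (congrArg Subtype.val h2)
  · rw [h.normalClosure_eq]
    apply le_antisymm
    · exact iSup_le fun i => le_act (hL i)
    · rw [act_le_iff]
      intro K hK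
      have h1 : L (e ⟨K, (hC K).2 hK⟩) = K := by simp [L]
      calc K = L (e ⟨K, (hC K).2 hK⟩) := h1.symm
        _ ≤ _ := le_iSup L _
  · intro i
    obtain ⟨h1, -, -, h2, -⟩ := h.exc (hL i)
    exact ⟨h1, h2.imp id fun h3 => h.sz _ h3⟩
  · intro i
    obtain ⟨-, -, -, -, T, -, h2⟩ := h.exc (hL i)
    exact ⟨T, h2⟩

end Ctx

/-- **S1252** from the rows, `E2`, `E3` and `Comm`. -/
theorem main (hcc : Comm.{u}) (hE2 : E2.{u}) (hE3 : E3.{u}) (hSz : Sz.{u})
    (hrow : ∀ (X : Type u) [Group X] [Finite X] [IsSimpleGroup X], (¬ IsMulCommutative X) → Row X)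
    {G : Type u} [Group G] [Finite G] (S : Sylow 2 G) (A : Subgroup G)
    (hA : Cfsg.IsStronglyClosed A (S : Subgroup G))
    (hns : Even (A.relIndex (Subgroup.normalClosure (A : Set G))))
    (hO : ∀ N : Subgroup G, N.Normal → N ≠ ⊥ → Even ((A ⊓ N).relIndex N)) : A ≠ ⊥ ∧ Concl A := by
  have hctx : Ctx S A := by
    refine ⟨⟨hA, hO⟩, hcc, hE2, hE3, hSz, fun L hL => ?_⟩
    have h1 : IsSimpleGroup (L ⧸ center L) := hL.2.2
    refine hrow _ ?_
    intro h2
    -- `L / Z(L)` is not commutative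
    have h3 : commutator L ≤ center L := by
      rw [commutator_def, commutator_le]
      intro a _ b _
      have h4 : QuotientGroup.mk' (center L) ⁅a, b⁆ = 1 := by
        rw [map_commutatorElement, commutatorElement_eq_one_iff_mul_comm]
        exact h2.is_comm.comm _ _
      rwa [QuotientGroup.mk'_apply, QuotientGroup.eq_one_iff] at h4
    have hperf : Group.IsPerfect L := hL.2.1
    rw [hperf.commutator_eq_top, top_le_iff] at h3
    exact quasisimple_center_ne_top hL.2 h3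
  refine ⟨?_, hctx.concl⟩
  rintro rfl
  have h1 : normalClosure ((⊥ : Subgroup G) : Set G) = ⊥ := by
    rw [eq_bot_iff]
    exact normalClosure_le_normal (le_refl _)
  rw [h1, relIndex_self] at hns
  exact absurd hns (by decide)

end Cfsg.Agent.ClosedRed

end

-- merged: Cfsg.Agent.ClosedRed.Sz
section

/-!
# Foote's theorem (S1252): the orders of the Suzuki groups
-/

set_option autoImplicit false

namespace Cfsg.Agent.ClosedRed

universe u

theorem sz : Sz.{u} := by
  intro X _ _ _ h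
  obtain ⟨F, hF1, hF2, m, hm, hF, ⟨e⟩⟩ := h
  refine ⟨inferInstance, m, hm, ?_⟩
  rw [Nat.card_congr e.toEquiv, (Cfsg.Agent.S1163.result hm hF).1]
  ring

end Cfsg.Agent.ClosedRed

end

-- merged: Cfsg.Agent.FooteExc.Cover
section

/-!
# The exceptional groups of S1252: central extensions and actions (helper86)

* `center_eq_bot_of_pack` : a perfect central extension `L` of an exceptional group by a `2`-group with a strongly
  closed `2`-subgroup `B` with `B ∩ Z(L) = 1` and image `Z(S)` has trivial centre;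
* `acts_inner_of_pack`.
-/

set_option autoImplicit false
set_option linter.style.haveILetI false

namespace Cfsg.Agent.FooteExc

open Subgroup Cfsg.Agent.LieRecognition.RankOneAbstract

variable {L Y : Type*} [Group L] [Group Y] {H S : Subgroup Y} {w : Y}

/-- **(E2)** -/
theorem center_eq_bot_of_pack [Finite L] (h : Pack H S w) (hJ : commutator L = ⊤) (f : L →* Y)
    (hf : Function.Surjective f) (hker : f.ker = center L) (hZ : IsPGroup 2 (center L)) (T : Sylow 2 L)
    (hT : (T : Subgroup L).map f = S) {B : Subgroup L} (hB : IsStronglyClosed B (T : Subgroup L))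
    (hBZ : B ⊓ center L = ⊥) (hBS : B.map f = Zs S) : center L = ⊥ := by
  haveI : Fact (Nat.Prime 2) := ⟨Nat.prime_two⟩
  have hZT : center L ≤ (T : Subgroup L) := by
    have h1 : IsPGroup 2 ((T : Subgroup L) ⊔ center L : Subgroup L) := by
      rw [sup_comm]
      exact IsPGroup.to_sup_of_normal_left hZ T.2
    have := T.3 h1 le_sup_left
    rw [← this]
    exact le_sup_right
  have hcen : ∀ c ∈ center L, ∀ x : L, x * c = c * x := fun c hc x => mem_center_iff.1 hc x
  have hkm : ∀ x : L, f x = 1 ↔ x ∈ center L := fun x => by rw [← hker]; exact Iff.rfl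
  have hTm : ∀ x : L, x ∈ (T : Subgroup L) ↔ f x ∈ S := by
    intro x
    constructor
    · intro hx; rw [← hT]; exact ⟨x, hx, rfl⟩
    · intro hx
      rw [← hT] at hx
      obtain ⟨t, ht, he⟩ := hx
      have h1 : f (t⁻¹ * x) = 1 := by rw [map_mul, map_inv, he, inv_mul_cancel]
      have h2 := mul_mem ht (hZT ((hkm _).1 h1))
      rwa [mul_inv_cancel_left] at h2
  -- the group `V`
  set V : Subgroup L := (Zs S).comap f with hV
  have hVT : ∀ v ∈ V, v ∈ (T : Subgroup L) := fun v hv => (hTm v).2 (mem_Zs.1 hv).1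
  have hVdec : ∀ v ∈ V, ∃ c ∈ center L, v * c⁻¹ ∈ B := by
    intro v hv
    have h1 : f v ∈ B.map f := by rw [hBS]; exact hv
    obtain ⟨b, hb, he⟩ := h1
    have h2 : f (b⁻¹ * v) = 1 := by rw [map_mul, map_inv, he, inv_mul_cancel]
    refine ⟨b⁻¹ * v, (hkm _).1 h2, ?_⟩
    have e : v * (b⁻¹ * v)⁻¹ = b := by group
    rwa [e]
  have hBV : ∀ b ∈ B, b ∈ V := fun b hb => by
    show f b ∈ Zs S
    rw [← hBS]; exact ⟨b, hb, rfl⟩
  have hCV : ∀ c ∈ center L, c ∈ V := fun c hc => by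
    show f c ∈ Zs S
    rw [(hkm c).2 hc]; exact one_mem _
  have hHT : ∀ g : L, f g ∈ H → ∀ t ∈ (T : Subgroup L), g * t * g⁻¹ ∈ (T : Subgroup L) := by
    intro g hg t ht
    rw [hTm] at ht ⊢
    rw [map_mul, map_mul, map_inv]
    exact h.data.norm _ hg _ ht
  have hBn : ∀ g : L, f g ∈ H → ∀ b ∈ B, g * b * g⁻¹ ∈ B := fun g hg b hb =>
    hB.2 b hb g (hHT g hg b (hB.1 hb))
  have hTH : ∀ t ∈ (T : Subgroup L), f t ∈ H := fun t ht => h.data.le ((hTm t).1 ht)
  have hBT : ∀ b ∈ B, ∀ t ∈ (T : Subgroup L), t * b = b * t := by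
    intro b hb t ht
    have h1 : t * b * t⁻¹ * b⁻¹ ∈ B := mul_mem (hBn t (hTH t ht) b hb) (inv_mem hb)
    have h2 : t * b * t⁻¹ * b⁻¹ ∈ center L := by
      rw [← hkm, map_mul, map_mul, map_mul, map_inv, map_inv]
      have h3 := (mem_Zs.1 (hBV b hb)).2 (f t) ((hTm t).1 ht)
      rw [h3]; group
    have h3 : t * b * t⁻¹ * b⁻¹ ∈ B ⊓ center L := ⟨h1, h2⟩
    rw [hBZ, mem_bot, mul_inv_eq_one, mul_inv_eq_iff_eq_mul] at h3
    exact h3
  have hVcomm : ∀ v ∈ V, ∀ t ∈ (T : Subgroup L), t * v = v * t := by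
    intro v hv t ht
    obtain ⟨c, hc, hb⟩ := hVdec v hv
    have h1 := hBT _ hb t ht
    have h2 := hcen c hc
    calc t * v = t * (v * c⁻¹) * c := by group
      _ = v * c⁻¹ * t * c := by rw [h1]
      _ = v * c⁻¹ * (t * c) := by group
      _ = v * c⁻¹ * (c * t) := by rw [h2]
      _ = _ := by group
  -- the projection onto the centre
  choose! κ hκC hκB using hVdec
  have hκu : ∀ v ∈ V, ∀ c ∈ center L, v * c⁻¹ ∈ B → κ v = c := by
    intro v hv c hc hb
    have h1 : (v * c⁻¹)⁻¹ * (v * (κ v)⁻¹) ∈ B := mul_mem (inv_mem hb) (hκB v hv)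
    have e : (v * c⁻¹)⁻¹ * (v * (κ v)⁻¹) = c * (κ v)⁻¹ := by group
    rw [e] at h1
    have h2 : c * (κ v)⁻¹ ∈ B ⊓ center L := ⟨h1, (center L).mul_mem hc ((center L).inv_mem (hκC v hv))⟩
    rw [hBZ, mem_bot, mul_inv_eq_one] at h2
    exact h2.symm
  have hκB1 : ∀ b ∈ B, κ b = 1 := fun b hb => hκu b (hBV b hb) 1 (one_mem _) (by simpa using hb)
  have hκmul : ∀ v ∈ V, ∀ v' ∈ V, κ (v * v') = κ v * κ v' := by
    intro v hv v' hv'
    refine hκu _ (mul_mem hv hv') _ (mul_mem (hκC v hv) (hκC v' hv')) ?_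
    have h1 := hcen _ (hκC v hv)
    have e : v * v' * (κ v * κ v')⁻¹ = (v * (κ v)⁻¹) * (v' * (κ v')⁻¹) := by
      rw [_root_.mul_inv_rev]
      calc v * v' * ((κ v')⁻¹ * (κ v)⁻¹) = v * ((v' * (κ v')⁻¹) * (κ v)⁻¹) := by group
        _ = v * ((κ v)⁻¹ * (v' * (κ v')⁻¹)) := by rw [hcen (κ v)⁻¹ ((center L).inv_mem (hκC v hv))]
        _ = _ := by group
    rw [e]
    exact mul_mem (hκB v hv) (hκB v' hv')
  have hκconj : ∀ g : L, f g ∈ H → ∀ v ∈ V, κ (g * v * g⁻¹) = κ v := by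
    intro g hg v hv
    have hgv : g * v * g⁻¹ ∈ V := by
      show f (g * v * g⁻¹) ∈ Zs S
      rw [map_mul, map_mul, map_inv]
      exact h.conj_Zs hg hv
    refine hκu _ hgv _ (hκC v hv) ?_
    have e : g * v * g⁻¹ * (κ v)⁻¹ = g * (v * (κ v)⁻¹) * g⁻¹ := by
      calc g * v * g⁻¹ * (κ v)⁻¹ = g * v * (g⁻¹ * (κ v)⁻¹) := by group
        _ = g * v * ((κ v)⁻¹ * g⁻¹) := by rw [hcen (κ v)⁻¹ ((center L).inv_mem (hκC v hv))]
        _ = _ := by group
    rw [e]
    exact hBn g hg _ (hκB v hv)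
  -- commutators
  have hcV : ∀ s ∈ (T : Subgroup L), ∀ t ∈ (T : Subgroup L), s * t * s⁻¹ * t⁻¹ ∈ V := by
    intro s hs t ht
    show f (s * t * s⁻¹ * t⁻¹) ∈ Zs S
    rw [map_mul, map_mul, map_mul, map_inv, map_inv]
    exact h.comm_mem ((hTm s).1 hs) ((hTm t).1 ht)
  set c : L → L → L := fun s t => κ (s * t * s⁻¹ * t⁻¹) with hc
  have hcl : ∀ s ∈ (T : Subgroup L), ∀ s' ∈ (T : Subgroup L), ∀ t ∈ (T : Subgroup L),
      c (s * s') t = c s t * c s' t := by
    intro s hs s' hs' t ht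
    have e : s * s' * t * (s * s')⁻¹ * t⁻¹ = (s * (s' * t * s'⁻¹ * t⁻¹)) * s⁻¹ * (s * t * s⁻¹ * t⁻¹) := by group
    show κ (s * s' * t * (s * s')⁻¹ * t⁻¹) = _
    rw [e, hVcomm _ (hcV s' hs' t ht) s hs, mul_inv_cancel_right, hκmul _ (hcV s' hs' t ht) _ (hcV s hs t ht)]
    exact hcen _ (hκC _ (hcV s hs t ht)) _
  have hcr : ∀ s ∈ (T : Subgroup L), ∀ t ∈ (T : Subgroup L), ∀ t' ∈ (T : Subgroup L),
      c s (t * t') = c s t * c s t' := by
    intro s hs t ht t' ht'
    have e : s * (t * t') * s⁻¹ * (t * t')⁻¹ = (s * t * s⁻¹ * t⁻¹) * ((t * (s * t' * s⁻¹ * t'⁻¹)) * t⁻¹) := by group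
    show κ (s * (t * t') * s⁻¹ * (t * t')⁻¹) = _
    rw [e, hVcomm _ (hcV s hs t' ht') t ht, mul_inv_cancel_right, hκmul _ (hcV s hs t ht) _ (hcV s hs t' ht')]
  have hcVl : ∀ v ∈ V, ∀ t ∈ (T : Subgroup L), c v t = 1 := by
    intro v hv t ht
    show κ (v * t * v⁻¹ * t⁻¹) = 1
    have e : v * t * v⁻¹ * t⁻¹ = 1 := by rw [← hVcomm v hv t ht]; group
    rw [e]
    exact hκB1 1 (one_mem _)
  have hcVr : ∀ s ∈ (T : Subgroup L), ∀ v ∈ V, c s v = 1 := by
    intro s hs v hv
    show κ (s * v * s⁻¹ * v⁻¹) = 1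
    have e : s * v * s⁻¹ * v⁻¹ = 1 := by rw [hVcomm v hv s hs]; group
    rw [e]
    exact hκB1 1 (one_mem _)
  have hcconj : ∀ g : L, f g ∈ H → ∀ s ∈ (T : Subgroup L), ∀ t ∈ (T : Subgroup L),
      c (g * s * g⁻¹) (g * t * g⁻¹) = c s t := by
    intro g hg s hs t ht
    have e : g * s * g⁻¹ * (g * t * g⁻¹) * (g * s * g⁻¹)⁻¹ * (g * t * g⁻¹)⁻¹ = g * (s * t * s⁻¹ * t⁻¹) * g⁻¹ := by
      group
    show κ (g * s * g⁻¹ * (g * t * g⁻¹) * (g * s * g⁻¹)⁻¹ * (g * t * g⁻¹)⁻¹) = _
    rw [e, hκconj g hg _ (hcV s hs t ht)]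
  have hcC : ∀ s ∈ (T : Subgroup L), ∀ t ∈ (T : Subgroup L), c s t ∈ center L := fun s hs t ht =>
    hκC _ (hcV s hs t ht)
  obtain ⟨d₁, hd₁, d₂, hd₂, hform, hsurj⟩ := h.form
  obtain ⟨e₁, rfl⟩ := hf d₁
  obtain ⟨e₂, rfl⟩ := hf d₂
  have key : ∀ s ∈ (T : Subgroup L), ∀ t ∈ (T : Subgroup L),
      c s (t * (e₁⁻¹ * t * e₁) * (e₂⁻¹ * t * e₂)) = 1 := by
    intro s hs t ht
    have hi₁ : f e₁⁻¹ ∈ H := by rw [map_inv]; exact inv_mem hd₁
    have hi₂ : f e₂⁻¹ ∈ H := by rw [map_inv]; exact inv_mem hd₂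
    have ht₁ : e₁⁻¹ * t * e₁ ∈ (T : Subgroup L) := by
      have := hHT _ hi₁ t ht; rwa [inv_inv] at this
    have ht₂ : e₂⁻¹ * t * e₂ ∈ (T : Subgroup L) := by
      have := hHT _ hi₂ t ht; rwa [inv_inv] at this
    have hs₁ := hHT _ hd₁ s hs
    have hs₂ := hHT _ hd₂ s hs
    have h1 : c (e₂ * s * e₂⁻¹) t = c s (e₂⁻¹ * t * e₂) := by
      have := hcconj e₂ hd₂ s hs _ ht₂
      have e : e₂ * (e₂⁻¹ * t * e₂) * e₂⁻¹ = t := by group
      rwa [e] at this
    have h2 : c (e₁ * s * e₁⁻¹) t = c s (e₁⁻¹ * t * e₁) := by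
      have := hcconj e₁ hd₁ s hs _ ht₁
      have e : e₁ * (e₁⁻¹ * t * e₁) * e₁⁻¹ = t := by group
      rwa [e] at this
    have hv : (s * (e₁ * s * e₁⁻¹))⁻¹ * (e₂ * s * e₂⁻¹) ∈ V := by
      have := hform (f s) ((hTm s).1 hs)
      show f ((s * (e₁ * s * e₁⁻¹))⁻¹ * (e₂ * s * e₂⁻¹)) ∈ Zs S
      simpa only [map_mul, map_inv] using this
    have h3 : c (e₂ * s * e₂⁻¹) t = c s t * c (e₁ * s * e₁⁻¹) t := by
      have e : e₂ * s * e₂⁻¹ = (s * (e₁ * s * e₁⁻¹)) * ((s * (e₁ * s * e₁⁻¹))⁻¹ * (e₂ * s * e₂⁻¹)) := by group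
      rw [e, hcl _ (mul_mem hs hs₁) _ (hVT _ hv) t ht, hcVl _ hv t ht, mul_one, hcl s hs _ hs₁ t ht]
    have h4 : (e₂⁻¹ * t * e₂) * (e₂⁻¹ * t * e₂) ∈ V := by
      show f ((e₂⁻¹ * t * e₂) * (e₂⁻¹ * t * e₂)) ∈ Zs S
      rw [map_mul]
      exact h.sq _ ((hTm _).1 ht₂)
    rw [hcr s hs _ (mul_mem ht ht₁) _ ht₂, hcr s hs t ht _ ht₁, ← h2, ← h3, h1, ← hcr s hs _ ht₂ _ ht₂]
    exact hcVr s hs _ h4
  have hone : ∀ s ∈ (T : Subgroup L), ∀ u ∈ (T : Subgroup L), c s u = 1 := by
    intro s hs u hu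
    obtain ⟨t', ht', hmem⟩ := hsurj (f u) ((hTm u).1 hu)
    obtain ⟨t, rfl⟩ := hf t'
    have ht : t ∈ (T : Subgroup L) := (hTm t).2 ht'
    have hi₁ : f e₁⁻¹ ∈ H := by rw [map_inv]; exact inv_mem hd₁
    have hi₂ : f e₂⁻¹ ∈ H := by rw [map_inv]; exact inv_mem hd₂
    have ht₁ : e₁⁻¹ * t * e₁ ∈ (T : Subgroup L) := by
      have := hHT _ hi₁ t ht; rwa [inv_inv] at this
    have ht₂ : e₂⁻¹ * t * e₂ ∈ (T : Subgroup L) := by
      have := hHT _ hi₂ t ht; rwa [inv_inv] at this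
    have hv : u⁻¹ * (t * (e₁⁻¹ * t * e₁) * (e₂⁻¹ * t * e₂)) ∈ V := by
      show f (u⁻¹ * (t * (e₁⁻¹ * t * e₁) * (e₂⁻¹ * t * e₂))) ∈ Zs S
      simpa only [map_mul, map_inv] using hmem
    have h1 := key s hs t ht
    have e : t * (e₁⁻¹ * t * e₁) * (e₂⁻¹ * t * e₂) = u * (u⁻¹ * (t * (e₁⁻¹ * t * e₁) * (e₂⁻¹ * t * e₂))) := by group
    rw [e, hcr s hs u hu _ (hVT _ hv), hcVr s hs _ hv, mul_one] at h1
    exact h1
  have hle : ⁅(T : Subgroup L), (T : Subgroup L)⁆ ≤ B := by
    rw [commutator_le]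
    intro s hs t ht
    have h1 := hκB _ (hcV s hs t ht)
    have h2 : κ (s * t * s⁻¹ * t⁻¹) = 1 := hone s hs t ht
    rw [h2, inv_one, mul_one] at h1
    exact h1
  rw [eq_bot_iff]
  intro z hz
  have h1 := Cfsg.Agent.TwoFusion.GoldJCentre.mem_commutator_of_center hJ T hz (hZT hz)
  rw [← hBZ]
  exact ⟨hle h1, hz⟩

end Cfsg.Agent.FooteExc

end

-- merged: Cfsg.Agent.FooteExc.Action
section

/-!
# The exceptional groups of S1252: the action of a strongly closed subgroup (helper86)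
-/

set_option autoImplicit false
set_option linter.style.haveILetI false

namespace Cfsg.Agent.FooteExc

open Subgroup Cfsg.Agent.LieRecognition.RankOneAbstract

variable {G Y : Type*} [Group G] [Group Y] {H S₀ : Subgroup Y} {w : Y}

/-- **(E3)** -/
theorem acts_inner_of_pack [Finite G] (h : Pack H S₀ w) {S : Sylow 2 G} {A L : Subgroup G}
    (hA : IsStronglyClosed A (S : Subgroup G)) (hAL : A ≤ normalizer (L : Set G)) (e : L ≃* Y) (T : Sylow 2 L)
    (hTe : (T : Subgroup L).map e.toMonoidHom = S₀) (hT : (T : Subgroup L).map L.subtype = (S : Subgroup G) ⊓ L)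
    (hZ : A ⊓ L = ((center (T : Subgroup L)).map (T : Subgroup L).subtype).map L.subtype) :
    ∀ a ∈ A, ∃ z ∈ A ⊓ L, ∀ x ∈ L, a * x * a⁻¹ = z * x * z⁻¹ := by
  intro a ha
  have : Finite Y := Finite.of_equiv L e.toEquiv
  -- membership in `T` and in `Z(T)`
  have hTm : ∀ x : L, x ∈ (T : Subgroup L) ↔ (x : G) ∈ (S : Subgroup G) := by
    intro x
    constructor
    · intro hx
      have : (x : G) ∈ (T : Subgroup L).map L.subtype := ⟨x, hx, rfl⟩
      rw [hT] at this
      exact this.1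
    · intro hx
      have : (x : G) ∈ (S : Subgroup G) ⊓ L := ⟨hx, x.2⟩
      rw [← hT] at this
      obtain ⟨y, hy, he⟩ := this
      have : y = x := Subtype.ext he
      rwa [← this]
  have hTe' : ∀ x : L, x ∈ (T : Subgroup L) ↔ e x ∈ S₀ := by
    intro x
    constructor
    · intro hx; rw [← hTe]; exact ⟨x, hx, rfl⟩
    · intro hx
      rw [← hTe] at hx
      obtain ⟨y, hy, he⟩ := hx
      have : y = x := e.injective he
      rwa [← this]
  have hZm : ∀ x : L, (x : G) ∈ A ↔ e x ∈ Zs S₀ := by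
    intro x
    rw [mem_Zs]
    constructor
    · intro hx
      have : (x : G) ∈ A ⊓ L := ⟨hx, x.2⟩
      rw [hZ] at this
      obtain ⟨y, ⟨z, hz, rfl⟩, he⟩ := this
      have hy : ((T : Subgroup L).subtype z) = x := Subtype.ext he
      rw [← hy]
      refine ⟨(hTe' _).1 z.2, fun s hs => ?_⟩
      obtain ⟨s, rfl⟩ := e.surjective s
      have h1 := mem_center_iff.1 hz ⟨s, (hTe' s).2 hs⟩
      rw [← map_mul, ← map_mul]
      exact congrArg e (congrArg Subtype.val h1)
    · rintro ⟨hx, hxc⟩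
      have hxT := (hTe' x).2 hx
      have : (x : G) ∈ A ⊓ L := by
        rw [hZ]
        refine ⟨x, ⟨⟨x, hxT⟩, ?_, rfl⟩, rfl⟩
        rw [SetLike.mem_coe, mem_center_iff]
        intro s
        apply Subtype.ext
        apply e.injective
        have h1 := hxc (e s) ((hTe' s).1 s.2)
        rw [← map_mul, ← map_mul] at h1
        exact h1
      exact this.1
  -- the automorphism induced by `a`
  set α₀ : MulAut L := L.normalizerMonoidHom ⟨a, hAL ha⟩ with hα₀
  have hα₀v : ∀ x : L, ((α₀ x : L) : G) = a * x * a⁻¹ := fun x => rfl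
  set α : MulAut Y := (e.symm.trans α₀).trans e with hα
  have hαe : ∀ x : L, α (e x) = e (α₀ x) := fun x => by
    show e (α₀ (e.symm (e x))) = _
    rw [e.symm_apply_apply]
  -- `[A, T] ≤ A ∩ L`
  have hAS : A ≤ (S : Subgroup G) := hA.1
  have hcomm : ∀ s ∈ S₀, s⁻¹ * α s ∈ Zs S₀ := by
    intro s hs
    obtain ⟨x, rfl⟩ := e.surjective s
    have hx : (x : G) ∈ (S : Subgroup G) := (hTm x).1 ((hTe' x).2 hs)
    rw [hαe, ← map_inv, ← map_mul, ← hZm]
    have h1 := hA.2 a ha (x : G)⁻¹ (mul_mem (mul_mem (inv_mem hx) (hAS ha)) (by simpa using hx))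
    have h2 := mul_mem h1 (inv_mem ha)
    have e1 : ((x⁻¹ * α₀ x : L) : G) = (x : G)⁻¹ * a * (x : G)⁻¹⁻¹ * a⁻¹ := by
      rw [Subgroup.coe_mul, hα₀v, Subgroup.coe_inv, inv_inv]
      group
    rw [e1]
    exact h2
  obtain ⟨t, ht, htα⟩ := h.exists_conj α hcomm
  obtain ⟨t, rfl⟩ := e.surjective t
  have hact : ∀ x : L, a * (x : G) * a⁻¹ = (t : G) * x * (t : G)⁻¹ := by
    intro x
    have h1 := htα (e x)
    rw [hαe, ← map_inv, ← map_mul, ← map_mul] at h1
    have h2 := congrArg Subtype.val (e.injective h1)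
    rw [hα₀v] at h2
    rw [h2]
    rfl
  have hact' : ∀ x : L, a⁻¹ * (x : G) * a = (t : G)⁻¹ * x * (t : G) := by
    intro x
    have h1 := hact (t⁻¹ * x * t)
    have e1 : ((t⁻¹ * x * t : L) : G) = (t : G)⁻¹ * x * t := rfl
    rw [e1] at h1
    have e2 : (t : G) * ((t : G)⁻¹ * x * t) * (t : G)⁻¹ = x := by group
    rw [e2] at h1
    have e3 : (t : G)⁻¹ * x * t = a⁻¹ * (a * ((t : G)⁻¹ * x * t) * a⁻¹) * a := by group
    rw [e3, h1]
  have htZ : e t ∈ Zs S₀ := by
    apply h.fuse _ ht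
    intro d hd
    obtain ⟨d, rfl⟩ := e.surjective d
    rw [← map_inv, ← map_inv, ← map_mul, ← map_mul, ← map_mul, ← hZm]
    have hdt : d * t * d⁻¹ ∈ (T : Subgroup L) := by
      rw [hTe', map_mul, map_mul, map_inv]
      exact h.data.norm _ hd _ ht
    have htT : t ∈ (T : Subgroup L) := (hTe' t).2 ht
    have h1 : (t : G)⁻¹ * ((d : G) * t * (d : G)⁻¹) ∈ (S : Subgroup G) :=
      mul_mem (inv_mem ((hTm t).1 htT)) ((hTm _).1 hdt)
    have e1 : (d : G) * a * (d : G)⁻¹ = a * ((t : G)⁻¹ * ((d : G) * t * (d : G)⁻¹)) := by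
      have h2 := hact' d
      calc (d : G) * a * (d : G)⁻¹ = a * (a⁻¹ * (d : G) * a) * (d : G)⁻¹ := by group
        _ = a * ((t : G)⁻¹ * d * t) * (d : G)⁻¹ := by rw [h2]
        _ = _ := by group
    have h2 := hA.2 a ha (d : G) (by rw [e1]; exact mul_mem (hAS ha) h1)
    rw [e1] at h2
    have h3 := mul_mem (inv_mem ha) h2
    rw [inv_mul_cancel_left] at h3
    exact h3
  exact ⟨t, ⟨(hZm t).2 htZ, t.2⟩, fun x hx => hact ⟨x, hx⟩⟩

end Cfsg.Agent.FooteExc

end

-- merged: Cfsg.Agent.FooteExc.Main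
section

/-!
# The exceptional groups of S1252: `E2` and `E3` (helper86)
-/

set_option autoImplicit false
set_option linter.style.haveILetI false

namespace Cfsg.Agent.FooteExc

open Subgroup Cfsg.Agent.LieRecognition.RankOneAbstract Cfsg.Agent.ClosedRed Cfsg.Agent.ClosedTwo

universe u

/-- an element which is not in the field with four elements -/
theorem exists_not_four {F : Type*} [Field F] [Finite F] [CharP F 2] (h4 : 4 < Nat.card F) :
    ∃ x : F, x ≠ 0 ∧ x ≠ 1 ∧ x ^ 2 + x + 1 ≠ 0 := by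
  have hfr : ∀ x : F, iterateFrobenius F 2 2 x = x ^ 4 := fun x => by rw [iterateFrobenius_def]; norm_num
  have h5 : Nat.card {x : F // iterateFrobenius F 2 2 x = x} ≤ 4 :=
    Cfsg.Agent.LieRecognition.HermHeis.card_fixed_le (σ := iterateFrobenius F 2 2) (by norm_num) (fun x => hfr x)
  obtain ⟨x, hx⟩ : ∃ x : F, x ^ 4 ≠ x := by
    by_contra hall
    push Not at hall
    have h6 : Nat.card F ≤ Nat.card {x : F // iterateFrobenius F 2 2 x = x} :=
      Nat.card_le_card_of_injective (fun x => ⟨x, by rw [hfr]; exact hall x⟩)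
        (fun x y hxy => congrArg (fun z : {x : F // iterateFrobenius F 2 2 x = x} => (z : F)) hxy)
    omega
  refine ⟨x, ?_, ?_, ?_⟩
  · rintro rfl; exact hx (by ring)
  · rintro rfl; exact hx (by ring)
  · intro h; apply hx
    linear_combination (x ^ 2 - x) * h

/-- all Sylow subgroups are conjugate: the pack for a given Sylow subgroup -/
theorem exists_equiv {L Y : Type*} [Group L] [Group Y] [Finite L] (e : L ≃* Y) {H S : Subgroup Y} {w : Y}
    (h : Pack H S w) (T : Sylow 2 L) : ∃ e' : L ≃* Y, (T : Subgroup L).map e'.toMonoidHom = S := by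
  have : Fact (Nat.Prime 2) := ⟨Nat.prime_two⟩
  have : Finite Y := Finite.of_equiv L e.toEquiv
  obtain ⟨T', hT'⟩ := exists_sylow_map e T
  obtain ⟨g, hg⟩ := MulAction.exists_smul_eq Y T' (h.two.toSylow h.odd)
  refine ⟨e.trans (MulAut.conj g), ?_⟩
  have h1 : (S : Subgroup Y) = (T' : Subgroup Y).map (MulAut.conj g).toMonoidHom := by
    have h2 := congrArg (fun P : Sylow 2 Y => (P : Subgroup Y)) hg
    exact h2.symm
  rw [h1, hT', Subgroup.map_map]
  rfl

theorem exists_pack {L : Type u} [Group L] [Finite L] (hE : Exc L) (T : Sylow 2 L) :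
    ∃ (Y : Type) (_ : Group Y) (e : L ≃* Y) (H S : Subgroup Y) (w : Y), Pack H S w ∧
      (T : Subgroup L).map e.toMonoidHom = S := by
  rcases hE with ⟨F, iF, iFin, q, hF, hq, hq4, ⟨e⟩⟩ | ⟨F, iF, iFin, m, hm, hF, ⟨e⟩⟩
  · have heven : Even (Fintype.card F) := by
      rw [hF, pow_two]; exact hq.mul_right q
    obtain ⟨n, hp, hn⟩ := FiniteField.card F (ringChar F)
    have h2 : 2 ∣ ringChar F := by
      rw [hn] at heven
      exact Nat.prime_two.dvd_of_dvd_pow (even_iff_two_dvd.mp heven)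
    have h3 : ringChar F = 2 := ((Nat.prime_dvd_prime_iff_eq Nat.prime_two hp).mp h2).symm
    have hchar : CharP F 2 := h3 ▸ ringChar.charP F
    rw [h3] at hn
    have h4 : q ∣ 2 ^ (n : ℕ) := ⟨q, by rw [← hn, hF, pow_two]⟩
    obtain ⟨m, -, rfl⟩ := (Nat.dvd_prime_pow Nat.prime_two).mp h4
    have hm : 2 ≤ m := by
      by_contra h0
      have h1 : m ≤ 1 := by omega
      have h5 : 2 ^ m ≤ 2 ^ 1 := Nat.pow_le_pow_right (by norm_num) h1
      omega
    have hF' : Nat.card F = (2 ^ m) ^ 2 := by rw [Nat.card_eq_fintype_card, hF]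
    let σ : F →+* F := iterateFrobenius F 2 m
    have hs : ∀ x, σ x = x ^ (2 ^ m) := fun x => iterateFrobenius_def 2 m x
    have hσ : Fact (∀ x, σ (σ x) = x) := ⟨by
      intro x
      rw [hs, hs, ← pow_mul, ← pow_two, ← hF]
      exact FiniteField.pow_card x⟩
    obtain ⟨H, S, w, h⟩ := exists_pack_psu (F := F) (σ := σ) hm hs hF'
    obtain ⟨e', he'⟩ := exists_equiv e h T
    exact ⟨_, _, e', H, S, w, h, he'⟩
  · have H := Cfsg.Agent.LieRecognition.SzMatrix.good hF
    have hchar := Cfsg.Agent.LieRecognition.SzMatrix.charP_two hF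
    obtain ⟨x, h0, h1, h2⟩ := exists_not_four (F := F) (by
      rw [Nat.card_eq_fintype_card, hF]
      calc 4 < 2 ^ (2 * 1 + 1) := by norm_num
        _ ≤ 2 ^ (2 * m + 1) := Nat.pow_le_pow_right (by norm_num) (by omega))
    have h := pack_sz H h0 h1 h2
    obtain ⟨e', he'⟩ := exists_equiv e h T
    exact ⟨_, _, e', _, _, _, h, he'⟩

/-- `Z(S)` in the two languages -/
theorem map_center_eq {Y : Type*} [Group Y] (S : Subgroup Y) : (center S).map S.subtype = Zs S := by
  ext z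
  rw [mem_Zs]
  constructor
  · rintro ⟨z, hz, rfl⟩
    refine ⟨z.2, fun s hs => ?_⟩
    exact congrArg Subtype.val (mem_center_iff.1 hz ⟨s, hs⟩)
  · rintro ⟨hz, hc⟩
    refine ⟨⟨z, hz⟩, ?_, rfl⟩
    rw [SetLike.mem_coe, mem_center_iff]
    intro s
    exact Subtype.ext (hc s s.2)

/-- the image of a strongly closed subgroup modulo a central `2`-subgroup -/
theorem closed_quot {L Y : Type*} [Group L] [Group Y] (f : L →* Y) (hf : Function.Surjective f)
    {B T : Subgroup L} (hB : IsStronglyClosed B T) (hT : ∀ x, f x ∈ T.map f → x ∈ T) :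
    IsStronglyClosed (B.map f) (T.map f) := by
  refine ⟨Subgroup.map_mono hB.1, ?_⟩
  rintro _ ⟨b, hb, rfl⟩ g hg
  obtain ⟨g, rfl⟩ := hf g
  rw [← map_inv, ← map_mul, ← map_mul] at hg ⊢
  exact ⟨_, hB.2 b hb g (hT _ hg), rfl⟩

theorem e2 : E2.{u} := by
  intro L _ _ hperf hE hrow hZ T B hB hBZ hB1 hBT
  have : Fact (Nat.Prime 2) := ⟨Nat.prime_two⟩
  set p := QuotientGroup.mk' (center L) with hp
  have hps : Function.Surjective p := QuotientGroup.mk'_surjective _
  have hpk : p.ker = center L := QuotientGroup.ker_mk' _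
  have hZT : center L ≤ (T : Subgroup L) := by
    have h1 : IsPGroup 2 ((T : Subgroup L) ⊔ center L : Subgroup L) := by
      rw [sup_comm]
      exact IsPGroup.to_sup_of_normal_left hZ T.2
    have := T.3 h1 le_sup_left
    rw [← this]
    exact le_sup_right
  have hTm : ∀ x, p x ∈ (T : Subgroup L).map p → x ∈ (T : Subgroup L) := by
    rintro x ⟨t, ht, he⟩
    have h1 : t⁻¹ * x ∈ center L := by
      rw [← hpk, MonoidHom.mem_ker, map_mul, map_inv, he, inv_mul_cancel]
    have h2 := mul_mem ht (hZT h1)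
    rwa [mul_inv_cancel_left] at h2
  obtain ⟨Tb, hTb⟩ : ∃ Tb : Sylow 2 (L ⧸ center L), (Tb : Subgroup (L ⧸ center L)) = (T : Subgroup L).map p :=
    ⟨T.mapSurjective hps, rfl⟩
  have hcl := closed_quot p hps hB hTm
  rw [← hTb] at hcl
  have hBc : B.map p = Zs (Tb : Subgroup (L ⧸ center L)) := by
    rcases hrow Tb _ hcl with h1 | h1 | h1
    · exfalso
      apply hB1
      rw [Subgroup.map_eq_bot_iff, hpk] at h1
      rw [eq_bot_iff, ← hBZ]
      exact le_inf le_rfl h1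
    · exfalso
      apply hBT
      intro x hx
      have h2 : p x ∈ B.map p := by rw [h1, hTb]; exact ⟨x, hx, rfl⟩
      obtain ⟨b, hb, he⟩ := h2
      have h3 : b⁻¹ * x ∈ center L := by
        rw [← hpk, MonoidHom.mem_ker, map_mul, map_inv, he, inv_mul_cancel]
      have h4 := mul_mem ((le_sup_left : B ≤ B ⊔ center L) hb) ((le_sup_right : center L ≤ B ⊔ center L) h3)
      rwa [mul_inv_cancel_left] at h4
    · rw [h1, map_center_eq]
  obtain ⟨Y, iY, e, H, S, w, h, he⟩ := exists_pack hE Tb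
  have hcomm : commutator L = ⊤ := hperf.commutator_eq_top
  refine center_eq_bot_of_pack h hcomm (e.toMonoidHom.comp p) (e.surjective.comp hps) ?_ hZ T ?_ hB hBZ ?_
  · refine Eq.trans ?_ hpk
    ext x
    rw [MonoidHom.mem_ker, MonoidHom.mem_ker]
    exact map_eq_one_iff e.toMonoidHom e.injective
  · rw [← Subgroup.map_map, ← hTb, he]
  · rw [← Subgroup.map_map, hBc, ← he]
    rw [← map_center_eq, ← map_center_eq]
    exact map_center e rfl

theorem e3 : E3.{u} := by
  intro G _ _ S A L hA hAL hE T hT hZ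
  obtain ⟨Y, iY, e, H, S₀, w, h, he⟩ := exists_pack hE T
  exact acts_inner_of_pack h hA hAL e T he hT hZ

end Cfsg.Agent.FooteExc

end

-- merged: Cfsg.Agent.ClosedRed.Final
section

/-!
# Foote's theorem (S1252): the final statement from the classification and the rows (helper86)
-/

set_option autoImplicit false

namespace Cfsg.Agent.ClosedRed.Final

open Cfsg Cfsg.Agent.ClosedRed

universe u

/-- **S1252** from the classification (`h0`), `Comm` and the rows. -/
theorem of_rows (hcc : Cfsg.Agent.ClosedTwo.Comm.{u})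
    (h0 : ∀ (X : Type u) [Group X] [Finite X] [IsSimpleGroup X], IsKnownSimple' X)
    (hR : ∀ (X : Type u) [Group X] [Finite X] [IsSimpleGroup X], ¬ IsMulCommutative X → Rows X)
    {G : Type u} [Group G] [Finite G] (S : Sylow 2 G) (A : Subgroup G) (hA : IsStronglyClosed A (S : Subgroup G))
    (hns : Even (A.relIndex (Subgroup.normalClosure (A : Set G))))
    (hO : ∀ N : Subgroup G, N.Normal → N ≠ ⊥ → Even ((A ⊓ N).relIndex N)) :
    A ≠ ⊥ ∧ ∃ (r : ℕ) (L : Fin r → Subgroup G),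
      (∀ i j, i ≠ j → ∀ a ∈ L i, ∀ b ∈ L j, a * b = b * a) ∧
      (∀ i, L i ⊓ (⨆ j ∈ {j | j ≠ i}, L j) = ⊥) ∧
      (⨆ i, L i) = Subgroup.normalClosure (A : Set G) ∧
      (∀ i, IsSimpleGroup ↥(L i) ∧
        ((∃ (F : Type) (_ : Field F) (_ : Fintype F) (q : ℕ), Fintype.card F = q ^ 2 ∧ Even q ∧ 4 ≤ q ∧
          Nonempty (↥(L i) ≃* Cfsg.PSU 3 F q)) ∨ Cfsg.IsSuzuki ↥(L i))) ∧
      (∀ i, ∃ P : Sylow 2 ↥(L i),
        (A ⊓ L i) = ((Subgroup.center (P : Subgroup ↥(L i))).map (P : Subgroup ↥(L i)).subtype).map (L i).subtype) :=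
  main hcc FooteExc.e2 FooteExc.e3 sz (fun X _ _ _ hna => (hR X hna).row hna (h0 X)) S A hA hns hO

end Cfsg.Agent.ClosedRed.Final

end

-- merged: Cfsg.Agent.ClosedRed.Induct
section

/-!
# Foote's theorem (S1252): the induction over the order (helper86)

The rows of the sporadic groups use the induction hypothesis `Foote.IndCR.{0} |X|`.
-/

set_option autoImplicit false

namespace Cfsg.Agent.ClosedRed.Final

open Cfsg Cfsg.Agent.ClosedRed

universe u

/-- The rows, given the induction hypothesis. -/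
def RowsInd : Prop := ∀ (X : Type u) [Group X] [Finite X] [IsSimpleGroup X], ¬ IsMulCommutative X →
  Cfsg.Agent.Foote.IndCR.{0} (Nat.card X) → Rows X

/-- The induction hypothesis holds for all orders. -/
theorem indCR_all (h0 : ∀ (X : Type) [Group X] [Finite X] [IsSimpleGroup X], IsKnownSimple' X)
    (hR : RowsInd.{0}) : ∀ n : ℕ, Cfsg.Agent.Foote.IndCR.{0} n := by
  intro n
  induction n using Nat.strong_induction_on with
  | _ n ih =>
    refine indCR_of_row fun L _ _ _ hna hL => ?_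
    exact (hR L hna (ih _ hL)).row hna (h0 L)

/-- **S1252** from the classification (`h0`, `h1`), `Comm` and the rows with the induction hypothesis. -/
theorem of_rowsInd (hcc : Cfsg.Agent.ClosedTwo.Comm.{u})
    (h0 : ∀ (X : Type) [Group X] [Finite X] [IsSimpleGroup X], IsKnownSimple' X)
    (h1 : ∀ (X : Type u) [Group X] [Finite X] [IsSimpleGroup X], IsKnownSimple' X)
    (hR0 : RowsInd.{0}) (hR : RowsInd.{u})
    {G : Type u} [Group G] [Finite G] (S : Sylow 2 G) (A : Subgroup G) (hA : IsStronglyClosed A (S : Subgroup G))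
    (hns : Even (A.relIndex (Subgroup.normalClosure (A : Set G))))
    (hO : ∀ N : Subgroup G, N.Normal → N ≠ ⊥ → Even ((A ⊓ N).relIndex N)) :
    A ≠ ⊥ ∧ ∃ (r : ℕ) (L : Fin r → Subgroup G),
      (∀ i j, i ≠ j → ∀ a ∈ L i, ∀ b ∈ L j, a * b = b * a) ∧
      (∀ i, L i ⊓ (⨆ j ∈ {j | j ≠ i}, L j) = ⊥) ∧
      (⨆ i, L i) = Subgroup.normalClosure (A : Set G) ∧
      (∀ i, IsSimpleGroup ↥(L i) ∧
        ((∃ (F : Type) (_ : Field F) (_ : Fintype F) (q : ℕ), Fintype.card F = q ^ 2 ∧ Even q ∧ 4 ≤ q ∧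
          Nonempty (↥(L i) ≃* Cfsg.PSU 3 F q)) ∨ Cfsg.IsSuzuki ↥(L i))) ∧
      (∀ i, ∃ P : Sylow 2 ↥(L i),
        (A ⊓ L i) = ((Subgroup.center (P : Subgroup ↥(L i))).map (P : Subgroup ↥(L i)).subtype).map (L i).subtype) :=
  of_rows hcc h1 (fun X _ _ _ hna => hR X hna (indCR_all h0 hR0 _)) S A hA hns hO

end Cfsg.Agent.ClosedRed.Final

end

-- merged: Cfsg.Agent.ClosedTwo.Psp
section

/-!
# S1252 for `PSp_2m(q)`, `q` odd, `m ≥ 2`: the row (helper5)
-/

set_option autoImplicit false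

namespace Cfsg.Agent.ClosedTwo.Psp

open Matrix Subgroup Cfsg Cfsg.Agent.ClassicalGeometry.SympBasic Cfsg.Agent.HoltZ.Psp Cfsg.Agent.ClosedTwo.XCover
open Cfsg.Agent.ClosedTwo.Elem (exists_involution)

/-- the 2-part of `q^(2 i) - 1` -/
theorem val_pow {q : ℕ} (hq : Odd q) (h1 : 1 < q) (i : ℕ) :
    padicValNat 2 (q ^ (2 * (i + 1)) - 1) = padicValNat 2 (q ^ 2 - 1) + padicValNat 2 (i + 1) := by
  have h2 : Fact (Nat.Prime 2) := ⟨Nat.prime_two⟩
  have hd : 2 ∣ q - 1 := by
    obtain ⟨k, hk⟩ := hq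
    exact ⟨k, by omega⟩
  have hq2 : ¬ 2 ∣ q := fun h => (Nat.not_even_iff_odd.2 hq) (even_iff_two_dvd.2 h)
  have e1 := padicValNat.pow_two_sub_pow h1 hd hq2 (n := 2 * (i + 1)) (by omega) ⟨i + 1, by ring⟩
  have e2 := padicValNat.pow_two_sub_pow h1 hd hq2 (n := 2) (by omega) ⟨1, rfl⟩
  rw [one_pow] at e1 e2
  have e3 : padicValNat 2 (2 * (i + 1)) = 1 + padicValNat 2 (i + 1) := by
    rw [padicValNat.mul two_ne_zero (Nat.succ_ne_zero i), padicValNat.self (by norm_num)]
  have e4 : padicValNat 2 2 = 1 := padicValNat.self (by norm_num)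
  omega

/-- the order of the Sylow 2-subgroup -/
theorem val_sp {F : Type*} [Field F] [Fintype F] (hF : Odd (Fintype.card F)) (m : ℕ) :
    (Nat.card (Matrix.symplecticGroup (Fin m) F)).factorization 2 =
      m * (Nat.card (Matrix.SpecialLinearGroup (Fin 2) F)).factorization 2 +
        (Nat.card (Equiv.Perm (Fin m))).factorization 2 := by
  have h2 : Fact (Nat.Prime 2) := ⟨Nat.prime_two⟩
  have h1 : 1 < Fintype.card F := Fintype.one_lt_card
  set q := Fintype.card F with hq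
  have hq0 : padicValNat 2 q = 0 := by
    refine padicValNat.eq_zero_of_not_dvd fun h => (Nat.not_even_iff_odd.2 hF) (even_iff_two_dvd.2 h)
  have hqm : padicValNat 2 (q ^ m ^ 2) = 0 := by
    refine padicValNat.eq_zero_of_not_dvd fun h => (Nat.not_even_iff_odd.2 (hF.pow (n := m ^ 2))) (even_iff_two_dvd.2 h)
  have hpos : ∀ i : ℕ, q ^ (2 * (i + 1)) - 1 ≠ 0 := by
    intro i h
    have := Nat.one_lt_pow (n := 2 * (i + 1)) (by omega) h1
    omega
  rw [Nat.factorization_def _ Nat.prime_two, Nat.factorization_def _ Nat.prime_two,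
    Nat.factorization_def _ Nat.prime_two, Cfsg.Agent.LieClassical.SympCount.card_symplecticGroup,
    Cfsg.Agent.S0276.card_sl_two rfl, ← hq, Nat.card_perm, Nat.card_eq_fintype_card (α := Fin m), Fintype.card_fin,
    ← Finset.prod_range_add_one_eq_factorial,
    padicValNat.mul (pow_ne_zero _ (by omega)) (Finset.prod_ne_zero_iff.2 fun i _ => hpos i),
    padicValNat.mul (by omega) (by have := hpos 0; simpa using this), hqm, hq0, zero_add, zero_add]
  have hprod : ∀ k : ℕ, padicValNat 2 (∏ i ∈ Finset.range k, (q ^ (2 * (i + 1)) - 1)) =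
      k * padicValNat 2 (q ^ 2 - 1) + padicValNat 2 (∏ i ∈ Finset.range k, (i + 1)) := by
    intro k
    induction k with
    | zero => simp
    | succ k ih =>
      rw [Finset.prod_range_succ, Finset.prod_range_succ,
        padicValNat.mul (Finset.prod_ne_zero_iff.2 fun i _ => hpos i) (hpos k),
        padicValNat.mul (Finset.prod_ne_zero_iff.2 fun i _ => Nat.succ_ne_zero i) (Nat.succ_ne_zero k), ih,
        val_pow hF h1]
      ring
  exact hprod m

/-- **`PSp_2m(q)`, `q` odd, `m ≥ 2`** -/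
theorem closedRow {F : Type*} [Field F] [Fintype F] (hF : Odd (Fintype.card F)) {m : ℕ} (hm : 2 ≤ m) :
    ClosedRow (PSp m F) := by
  classical
  have hp : Fact (Nat.Prime 2) := ⟨Nat.prime_two⟩
  have h2 : (2 : F) ≠ 0 := Cfsg.Agent.ClassicalGeometry.SympInvolutions.two_ne_zero_of_odd (Nat.odd_iff.1 hF)
  intro S A hA
  by_cases h0 : A = ⊥
  · exact Or.inl h0
  right
  let π : Matrix.symplecticGroup (Fin m) F →* PSp m F := QuotientGroup.mk' _
  have hπ : Function.Surjective π := QuotientGroup.mk'_surjective _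
  have hπ1 : ∀ z : Matrix.symplecticGroup (Fin m) F, π z = 1 ↔ z ∈ center (Matrix.symplecticGroup (Fin m) F) :=
    fun z => QuotientGroup.eq_one_iff z
  have hk : ∀ z : Matrix.symplecticGroup (Fin m) F,
      (∀ v : Fin m ⊕ Fin m → F, (z : Matrix (Fin m ⊕ Fin m) (Fin m ⊕ Fin m) F) *ᵥ v = v) ∨
      (∀ v : Fin m ⊕ Fin m → F, (z : Matrix (Fin m ⊕ Fin m) (Fin m ⊕ Fin m) F) *ᵥ v = -v) → π z = 1 := by
    intro z hz
    rw [hπ1, Subgroup.mem_center_iff]
    intro g
    refine ext_mulVec fun v => ?_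
    rw [coe_mul_mulVec, coe_mul_mulVec]
    rcases hz with hz | hz
    · rw [hz, hz]
    · rw [hz, hz, mulVec_neg]
  obtain ⟨x, hx, hx1, hxx⟩ := exists_xc hπ hA h0
  have ht : ∀ i, XC π A (blk (Pi.mulSingle i (-1))) := by
    rw [hπ1, Cfsg.Agent.LieClassical.SympCenter.mem_center_iff] at hxx
    obtain ⟨r, hr⟩ := hxx
    have hrr := Cfsg.Agent.LieClassical.SympCenter.sq_eq_one_of_smul_mem (by omega : 1 ≤ m) (hr ▸ (x * x).2)
    rcases mul_self_eq_one_iff.1 hrr with h | h
    · have hxx1 : x * x = 1 := by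
        apply Subtype.ext
        rw [hr, h, one_smul]
        rfl
      exact fun i => xc_t hA h2 hm hk hx hx1 hxx1 i
    · refine fun i => xc_of_neg hA h2 hx (fun v => ?_) i
      rw [← coe_mul_mulVec, hr, h, smul_mulVec, one_mulVec, neg_one_smul]
  let P : Sylow 2 (Matrix.SpecialLinearGroup (Fin 2) F) := default
  let T : Sylow 2 (Equiv.Perm (Fin m)) := default
  have hW : IsPGroup 2 ↥(Wr (P : Subgroup (Matrix.SpecialLinearGroup (Fin 2) F)) (T : Subgroup (Equiv.Perm (Fin m)))) :=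
    isPGroup_wr P.2 T.2
  refine eq_of_xc_card hπ hA hW ?_ (xc_wr hA hF hm ht P T)
  refine le_trans (le_of_eq ?_) (card_wr_ge _ _)
  rw [val_sp hF, pow_add, mul_comm m, pow_mul, ← Sylow.card_eq_multiplicity P, ← Sylow.card_eq_multiplicity T]

end Cfsg.Agent.ClosedTwo.Psp

end

-- merged: Cfsg.Agent.FooteOdd.Rows
section

/-!
# The rows `PSL` and `PSU` in odd characteristic for S1252 (helper63)
-/

set_option autoImplicit false

namespace Cfsg.Agent.FooteOdd.Rows

open Cfsg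

/-- `PSL_n(q)`, `q` odd, `n ≥ 2` -/
theorem psl {G : Type*} [Group G] {F : Type*} [Field F] [Fintype F] (two : (2 : F) ≠ 0) {n : ℕ} (hn : 2 ≤ n)
    (e : G ≃* Matrix.ProjectiveSpecialLinearGroup (Fin n) F) : ClosedTwo.ClosedRow G := by
  have : Finite (Matrix.ProjectiveSpecialLinearGroup (Fin n) F) :=
    Finite.of_surjective (QuotientGroup.mk' (Subgroup.center (Matrix.SpecialLinearGroup (Fin n) F))) (QuotientGroup.mk'_surjective _)
  exact (closedRow_psl_all hn two).congr e.symm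

/-- `PSU_n(q)`, `q` odd, `n ≥ 3` -/
theorem psu {G : Type*} [Group G] {F : Type*} [Field F] [Fintype F] (two : (2 : F) ≠ 0) {n q : ℕ} (hF : Fintype.card F = q ^ 2)
    (hn : 3 ≤ n) (e : G ≃* PSU n F q) : ClosedTwo.ClosedRow G := by
  have : Finite (SU n F q) := inferInstance
  have : Finite (PSU n F q) :=
    Finite.of_surjective (QuotientGroup.mk' (Subgroup.center (SU n F q))) (QuotientGroup.mk'_surjective _)
  exact (closedRow_psu hn hF two).congr e.symm

end Cfsg.Agent.FooteOdd.Rows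

end

-- merged: Cfsg.Agent.FooteOdd.RowsChar
section

/-!
# The rows `PSL` and `PSU` in odd characteristic for S1252, in the format of `ClosedRed.LieRows` (helper63)
-/

set_option autoImplicit false

namespace Cfsg.Agent.FooteOdd.Rows

open Cfsg

theorem two_ne {F : Type*} [Field F] {r : ℕ} [CharP F r] (hr : r.Prime) (h2 : r ≠ 2) : (2 : F) ≠ 0 := by
  intro h
  have h3 : ((2 : ℕ) : F) = 0 := by exact_mod_cast h
  have h4 := (CharP.cast_eq_zero_iff F r 2).1 h3
  exact h2 ((Nat.prime_dvd_prime_iff_eq hr Nat.prime_two).1 h4)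

theorem pslChar {r : ℕ} (hr : r.Prime) (h2 : r ≠ 2) {G : Type*} [Group G] (h : IsPSLChar r G) : ClosedTwo.ClosedRow G := by
  obtain ⟨F, iF, iT, iC, n, hn, -, ⟨e⟩⟩ := h
  exact psl (two_ne hr h2) hn e

theorem psuChar {r : ℕ} (hr : r.Prime) (h2 : r ≠ 2) {G : Type*} [Group G] (h : IsPSUChar r G) : ClosedTwo.ClosedRow G := by
  obtain ⟨F, iF, iT, iC, n, q, hF, hn, -, ⟨e⟩⟩ := h
  exact psu (two_ne hr h2) hF hn e

end Cfsg.Agent.FooteOdd.Rows

end

-- merged: Cfsg.Agent.FooteOrth.RowsChar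
section

/-!
# The rows `POmega` in odd characteristic for S1252, in the format of `ClosedRed.LieRows` (helper17)
-/

set_option autoImplicit false

namespace Cfsg.Agent.FooteOrth.RowsChar

open Cfsg

theorem two_ne {F : Type*} [Field F] {r : ℕ} [CharP F r] (hr : r.Prime) (h2 : r ≠ 2) : (2 : F) ≠ 0 := by
  intro h
  have h3 : ((2 : ℕ) : F) = 0 := by exact_mod_cast h
  have h4 := (CharP.cast_eq_zero_iff F r 2).1 h3
  exact h2 ((Nat.prime_dvd_prime_iff_eq hr Nat.prime_two).1 h4)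

theorem of_elem {L : Type*} [Group L] (h : ClosedTwo.Elem.ClosedRow L) : ClosedTwo.ClosedRow L := fun S A hA => h S A hA

theorem omegaOdd {r : ℕ} (hr : r.Prime) (h2 : r ≠ 2) {G : Type*} [Group G] (h : IsPOmegaOddChar r G) :
    ClosedTwo.ClosedRow G := by
  obtain ⟨F, iF, iT, iC, m, hm, -, ⟨e⟩⟩ := h
  exact of_elem (ClosedTwo.Elem.ClosedRow.congr e.symm (closedRow_odd (two_ne hr h2) hm))

theorem omegaPlus {r : ℕ} (hr : r.Prime) (h2 : r ≠ 2) {G : Type*} [Group G] (h : IsPOmegaPlusChar r G) :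
    ClosedTwo.ClosedRow G := by
  obtain ⟨F, iF, iT, iC, m, hm, ⟨e⟩⟩ := h
  exact of_elem (ClosedTwo.Elem.ClosedRow.congr e.symm (closedRow_plus (two_ne hr h2) hm))

theorem omegaMinus {r : ℕ} (hr : r.Prime) (h2 : r ≠ 2) {G : Type*} [Group G] (h : IsPOmegaMinusChar r G) :
    ClosedTwo.ClosedRow G := by
  obtain ⟨F, iF, iT, iC, m, a, b, hm, hab, ⟨e⟩⟩ := h
  exact of_elem (ClosedTwo.Elem.ClosedRow.congr e.symm (closedRow_minus (two_ne hr h2) hm a b hab))

end Cfsg.Agent.FooteOrth.RowsChar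

end

-- merged: Cfsg.Agent.ClosedExc.WTwE6
section

/-!
# The frame of long roots of type F4, for the Cartan matrix of the root group datum of 2E6 (helper52, S1252)
-/

set_option autoImplicit false
set_option maxRecDepth 100000

namespace Cfsg.Agent.ClosedExc.WFr

open CoxeterSystem Cfsg.Agent.ChevalleyStructure.CoxeterGeom Cfsg.Agent.Tits.Roots Cfsg.Agent.ClosedExc.Frame
  Cfsg.Agent.Nodes

/-- TwE6: the certificate. -/
def cTwE6 : Cert where
  AL := [[2, -1, 0, 0], [-1, 2, -1, 0], [0, -2, 2, -1], [0, 0, -1, 2]]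
  T := [[0, 1, 0, 0], [0, 1, 2, 0], [0, 1, 2, 2], [2, 3, 4, 2]]
  G := [([([], 2)], [1, 0, 2, 3]),
    ([([0, 1], 2)], [0, 1, 3, 2]),
    ([([1], 0), ([3, 2, 1], 0)], [2, 3, 0, 1])]
  H := [[2], [1], [0]]
  FR := [([0, 1], 0), ([2, 0, 1], 0), ([3, 2, 0, 1], 0), ([0, 1, 2, 3, 1, 2, 1], 0)]
  n := 2
  Cf := [[-1, -1, -1, 1], [2, 0, 0, 0], [-1, 1, 0, 0], [0, -1, 1, 0]]

/-- The pairs of orthogonal long roots which are used. -/
def LstTwE6 : List ((Fin 4 → ℤ) × (Fin 4 → ℤ)) :=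
  [(![0, 1, 0, 0], ![0, 1, 2, 0]),
    (![0, 1, 0, 0], ![0, 1, 2, 2]),
    (![0, 1, 0, 0], ![2, 3, 4, 2]),
    (![0, 1, 2, 0], ![0, 1, 0, 0]),
    (![0, 1, 2, 0], ![0, 1, 2, 2]),
    (![0, 1, 2, 0], ![2, 3, 4, 2]),
    (![0, 1, 2, 2], ![0, 1, 0, 0]),
    (![0, 1, 2, 2], ![0, 1, 2, 0]),
    (![0, 1, 2, 2], ![2, 3, 4, 2]),
    (![2, 3, 4, 2], ![0, 1, 0, 0]),
    (![2, 3, 4, 2], ![0, 1, 2, 0]),
    (![2, 3, 4, 2], ![0, 1, 2, 2]),
    (![1, 1, 0, 0], ![1, 1, 2, 2]),
    (![1, 1, 2, 2], ![1, 1, 0, 0])]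

/-- Their words. -/
def wordsTwE6 : List ((List ℕ × ℕ) × (List ℕ × ℕ)) :=
  [(([0, 1], 0), ([2, 0, 1], 0)),
    (([0, 1], 0), ([3, 2, 0, 1], 0)),
    (([0, 1], 0), ([0, 1, 2, 3, 1, 2, 1], 0)),
    (([2, 0, 1], 0), ([0, 1], 0)),
    (([2, 0, 1], 0), ([3, 2, 0, 1], 0)),
    (([2, 0, 1], 0), ([0, 1, 2, 3, 1, 2, 1], 0)),
    (([3, 2, 0, 1], 0), ([0, 1], 0)),
    (([3, 2, 0, 1], 0), ([2, 0, 1], 0)),
    (([3, 2, 0, 1], 0), ([0, 1, 2, 3, 1, 2, 1], 0)),
    (([0, 1, 2, 3, 1, 2, 1], 0), ([0, 1], 0)),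
    (([0, 1, 2, 3, 1, 2, 1], 0), ([2, 0, 1], 0)),
    (([0, 1, 2, 3, 1, 2, 1], 0), ([3, 2, 0, 1], 0)),
    (([1], 0), ([3, 2, 1], 0)),
    (([3, 2, 1], 0), ([1], 0))]

theorem tabTwE6 : IsTab RGDTwE6.A cTwE6.AL where
  len := by decide +kernel
  len' := by decide +kernel
  eq := by decide +kernel

theorem okTwE6 : Ok 4 4 8 cTwE6 where
  Tl := by decide +kernel
  Tn := by decide +kernel
  kle := by decide +kernel
  gl := by decide +kernel
  gp := by decide +kernel
  ga := by decide +kernel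
  gi := by decide +kernel
  span := by unfold Spans; decide +kernel
  Hlt := by decide +kernel
  Ln := by decide +kernel
  Lc := by decide +kernel
  Lg := by decide +kernel
  Lk := by decide +kernel
  Lf := by decide +kernel
  neg := by decide +kernel
  fr := by decide +kernel

theorem orth1TwE6' : ∀ a b : Fin 4, a ≠ b →
    (toV 4 (cTwE6.T.getD (a : ℕ) []), toV 4 (cTwE6.T.getD (b : ℕ) [])) ∈ LstTwE6 := by
  decide +kernel

theorem orth1TwE6 (a : ℕ) (ha : a < 4) (b : ℕ) (hb : b < 4) (hab : a ≠ b) :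
    (toV 4 (cTwE6.T.getD a []), toV 4 (cTwE6.T.getD b [])) ∈ LstTwE6 :=
  orth1TwE6' ⟨a, ha⟩ ⟨b, hb⟩ fun h => hab (congrArg Fin.val h)

theorem orth2TwE6 : ∀ g ∈ cTwE6.G, g.1.Pairwise fun p q =>
    (toV 4 (rootOf cTwE6.AL 4 p), toV 4 (rootOf cTwE6.AL 4 q)) ∈ LstTwE6 := by
  decide +kernel

theorem words_eq : LstTwE6 = wordsTwE6.map fun p => (toV 4 (rootOf cTwE6.AL 4 p.1), toV 4 (rootOf cTwE6.AL 4 p.2)) := by
  decide +kernel

theorem words_zero : ∀ p ∈ wordsTwE6, p.1.2 = 0 ∧ p.2.2 = 0 := by decide +kernel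

variable {W : Type*} [Group W] (cs : CoxeterSystem CoxeterMatrix.F₄ W)

/-- **The frame of long roots of 2E6.** -/
theorem wTwE6 : WFrame cs RGDTwE6.isCartan (fun x y => (x, y) ∈ LstTwE6) 4 8 :=
  wframe cs RGDTwE6.isCartan tabTwE6 okTwE6 (fun a ha b hb hab => orth1TwE6 a ha b hb hab)
    fun g hg => orth2TwE6 g hg

theorem rootOf_zero {p : List ℕ × ℕ} (hp : p.2 = 0) :
    toV 4 (rootOf cTwE6.AL 4 p) = rep cs RGDTwE6.isCartan (wd cs p.1) (sr 0) := by
  rw [rootOf, hp, ← rep_wd cs RGDTwE6.isCartan tabTwE6 (ei_length 4 0)]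
  exact congrArg _ (toV_ei (l := 4) 0)

/-- The roots in the list are long. -/
theorem long_of_mem {p : (Fin 4 → ℤ) × (Fin 4 → ℤ)} (hp : p ∈ LstTwE6) :
    (∃ w, p.1 = rep cs RGDTwE6.isCartan w (sr 0)) ∧ ∃ w, p.2 = rep cs RGDTwE6.isCartan w (sr 0) := by
  rw [words_eq, List.mem_map] at hp
  obtain ⟨q, hq, rfl⟩ := hp
  obtain ⟨h1, h2⟩ := words_zero q hq
  exact ⟨⟨_, rootOf_zero cs h1⟩, ⟨_, rootOf_zero cs h2⟩⟩

end Cfsg.Agent.ClosedExc.WFr

end

-- merged: Cfsg.Agent.ClosedTw.Row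
section

/-!
# Strongly closed 2-subgroups of `²E₆(q)`, `q` odd (helper75, S1252)

`Frame.closedRow` for the root group datum of type `F₄` of `²E₆(q)`, with the frame `WFr.wTwE6` of four orthogonal
long roots.

* `row_twE6` : the row for `twistedE6 K q`;
* `twE6` : the row in the format of `ClosedRed.LieRows`.
-/

set_option autoImplicit false
set_option linter.unusedSectionVars false

namespace Cfsg.Agent.ClosedTw

open CoxeterSystem Subgroup
open Cfsg.Agent.ChevalleyStructure.CoxeterGeom Cfsg.Agent.Tits.Roots Cfsg.Agent.Tits.Core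
  Cfsg.Agent.Nodes.Reps Cfsg.Agent.Nodes.BNOf Cfsg.Agent.Nodes.Bruhat
open Cfsg.Lie Cfsg.Agent.ChevalleyStructure Cfsg.Agent.ChevalleyStructure.Elts
  Cfsg.Agent.ChevalleyStructure.TwE6Basic Cfsg.Agent.ChevalleyStructure.TwE6BN
open Cfsg.Agent.Nodes Cfsg.Agent.Nodes.RGDChev Cfsg.Agent.Nodes.RGDFold Cfsg.Agent.Nodes.RGDTwGen
open Cfsg.Agent.Nodes.RGDTwE6 (X nn isCartan foldData)
open Cfsg.Agent.GpExc Cfsg.Agent.GpExc.TwNode
open Cfsg.Agent.Nodes.FreeTorus (LL)
open Cfsg.Agent.ClosedTwo.Torus Cfsg.Agent.ClosedTwo.Elem Cfsg.Agent.ClosedExc Cfsg.Agent.ClosedExc.Rk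
  Cfsg.Agent.ClosedExc.Frame Cfsg.Agent.ClosedExc.FoldInst

theorem lst_orth : ∀ p ∈ WFr.LstTwE6, ∀ k < chevE6.nroots, V chevE6 RGDTwE6.J k = p.1 →
    ∀ k' < chevE6.nroots, V chevE6 RGDTwE6.J k' = p.2 → orthB chevE6 k k' = true := by decide +kernel

section

variable {K : Type} [Field K] {q : ℕ} {φ : K →+* K} (hφ : ∀ x, φ x = x ^ q) (hqq : ∀ t : K, (t ^ q) ^ q = t)

theorem lc_lst {x y : Fin 4 → ℤ} (h : (x, y) ∈ WFr.LstTwE6) : LC (X φ q) x y :=
  lc_of_fibres RGDTwE6.hp (lst_orth _ h)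

/-- the fixed field -/
def F0 (φ : K →+* K) : Subfield K := φ.eqLocusField (RingHom.id K)

include hφ in
theorem mem_F0 (t : K) : t ∈ F0 φ ↔ t ^ q = t := by
  rw [← hφ]; exact Iff.rfl

variable [Fintype K]

include hφ in
theorem card_F0 [Fintype ↥(F0 φ)] (hq : 1 < q) (hK : Fintype.card K = q ^ 2) : Fintype.card ↥(F0 φ) = q := by
  rw [← Nat.card_eq_fintype_card, ← FixedCard.card_fixed hq hK]
  exact Nat.card_congr (Equiv.subtypeEquivRight fun t => mem_F0 hφ t)

include hφ hqq in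
/-- **the nodes** -/
theorem nodes (hq : 1 < q) (hK : Fintype.card K = q ^ 2) (ho : Odd q) (h2 : (2 : K) ≠ 0) (i : Fin 4) :
    (∃ (F : Type) (_ : Field F) (Ψ : Matrix.SpecialLinearGroup (Fin 2) F →* ↥(twistedE6 K q)), Node hφ i Ψ) ∧
    IsSL (LL (X φ q) (sr i)) := by
  classical
  have hfin : Fintype ↥(F0 φ) := Fintype.ofFinite _
  have hc := card_F0 hφ hq hK
  have hι : ∀ s : ↥(F0 φ), ((F0 φ).subtype s) ^ q = (F0 φ).subtype s := fun s => (mem_F0 hφ _).1 s.2
  have hs : ∀ t : K, t ^ q = t → ∃ s : ↥(F0 φ), (F0 φ).subtype s = t := fun t ht => ⟨⟨t, (mem_F0 hφ _).2 ht⟩, rfl⟩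
  have hKo : Odd (Fintype.card K) := by rw [hK]; exact ho.pow
  fin_cases i
  · have N := nodeSingle hφ hqq (F0 φ).subtype hι hs single0 (by decide +kernel : (46 : ℕ) < chevE6.nroots)
    exact ⟨⟨_, _, _, N⟩, isSL_of_node hφ (by rw [hc]; exact ho) N
      (single_neg hφ (F0 φ).subtype hι hs single0 _)
      (single_ker (F0 φ).subtype hι single0 _ h2)⟩
  · have N := nodeSingle hφ hqq (F0 φ).subtype hι hs single1 (by decide +kernel : (39 : ℕ) < chevE6.nroots)
    exact ⟨⟨_, _, _, N⟩, isSL_of_node hφ (by rw [hc]; exact ho) N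
      (single_neg hφ (F0 φ).subtype hι hs single1 _)
      (single_ker (F0 φ).subtype hι single1 _ h2)⟩
  · have N := nodePair hφ hqq pair2 (by decide +kernel : (42 : ℕ) < chevE6.nroots)
      (by decide +kernel : (37 : ℕ) < chevE6.nroots) so2
    refine ⟨⟨_, _, _, N⟩, isSL_of_node hφ hKo N (pair_neg hφ pair2 _ _ so2) ?_⟩
    intro u hu
    exact pair_ker h2 (congrArg Subtype.val hu)
  · have N := nodePair hφ hqq pair3 (by decide +kernel : (56 : ℕ) < chevE6.nroots)
      (by decide +kernel : (36 : ℕ) < chevE6.nroots) so3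
    refine ⟨⟨_, _, _, N⟩, isSL_of_node hφ hKo N (pair_neg hφ pair3 _ _ so3) ?_⟩
    intro u hu
    exact pair_ker h2 (congrArg Subtype.val hu)

include hφ hqq in
/-- the long root groups -/
theorem card_X0 (hq : 1 < q) (hK : Fintype.card K = q ^ 2) : Nat.card (X φ q (sr 0)) = q := by
  have h1 : Nat.card (X φ q (sr 0)) =
      Nat.card {x : GL chevE6.Idx K // x ∈ TwE6BN.rs K (TwE6Basic.posE 0) ∧ x ∈ twistedE6 K q} := by
    refine Nat.card_congr ⟨fun g => ⟨(g.1 : GL chevE6.Idx K), ((mem_X_pos 0 g.1).1 g.2).1, g.1.2⟩,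
      fun x => ⟨⟨x.1, x.2.2⟩, (mem_X_pos 0 _).2 ⟨x.2.1, twisted_le_fix φ hφ hqq x.2.2⟩⟩,
      fun g => rfl, fun x => rfl⟩
  rw [h1]
  exact TwE6Card.card_single φ hφ hqq hq hK single0

end

/-- the arrows of the chain -/
def lk (i j : Fin 4) : Prop := (i, j) ∈ [((0 : Fin 4), (1 : Fin 4)), (1, 0), (1, 2), (2, 1), (2, 3), (3, 2)]

instance (i j : Fin 4) : Decidable (lk i j) := by unfold lk; infer_instance

theorem lk_conn (i j : Fin 4) : Relation.ReflTransGen lk i j := by
  have a01 : Relation.ReflTransGen lk 0 1 := Relation.ReflTransGen.single (by decide)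
  have a10 : Relation.ReflTransGen lk 1 0 := Relation.ReflTransGen.single (by decide)
  have a12 : Relation.ReflTransGen lk 1 2 := Relation.ReflTransGen.single (by decide)
  have a21 : Relation.ReflTransGen lk 2 1 := Relation.ReflTransGen.single (by decide)
  have a23 : Relation.ReflTransGen lk 2 3 := Relation.ReflTransGen.single (by decide)
  have a32 : Relation.ReflTransGen lk 3 2 := Relation.ReflTransGen.single (by decide)
  have h1 : ∀ i : Fin 4, Relation.ReflTransGen lk i 1 := by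
    intro i
    fin_cases i
    exacts [a01, Relation.ReflTransGen.refl, a21, a32.trans a21]
  have h2 : ∀ j : Fin 4, Relation.ReflTransGen lk 1 j := by
    intro j
    fin_cases j
    exacts [a10, Relation.ReflTransGen.refl, a12, a12.trans a23]
  exact (h1 i).trans (h2 j)

/-- **The row of `²E₆(q)`, `q` odd.** -/
theorem row_twE6 (K : Type) [Field K] [Fintype K] {q : ℕ} (hq : IsPrimePow q) (hK : Fintype.card K = q ^ 2)
    (ho : Odd q) (hcen : ∀ z : ↥(twistedE6 K q), (∀ y, z * y = y * z) → z = 1) : ClosedTwo.ClosedRow ↥(twistedE6 K q) := by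
  classical
  obtain ⟨φ, hφ, hqq⟩ := TwE6Basic.exists_frob hq hK
  obtain ⟨p, hpc⟩ := CharP.exists K
  have hpp : p.Prime := (CharP.char_is_prime_or_zero K p).resolve_right (CharP.char_ne_zero_of_finite K p)
  have : Fact p.Prime := ⟨hpp⟩
  have hKo : Odd (Fintype.card K) := by rw [hK]; exact ho.pow
  have h2 : (2 : K) ≠ 0 := SL.two_ne hKo
  let cs := CoxeterMatrix.F₄.toCoxeterSystem
  have hW : Finite CoxeterMatrix.F₄.Group := Cfsg.Agent.Nodes.RGDFold.finite_W (hp := RGDTwE6.hp) cs isCartan foldData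
  have R := RGDTwE6.rgd cs hφ hqq p
  have hN := nodes hφ hqq hq.one_lt hK ho h2
  obtain ⟨β, P, Γ, w1, w2, w3, w4, w5, w6, w7⟩ := WFr.wTwE6 cs
  have hlong : ∀ a, Nat.card (X φ q (β a)) = q := by
    intro a
    obtain ⟨b, hb⟩ := exists_ne a
    obtain ⟨w, hw⟩ := (WFr.long_of_mem cs (w2 a b hb.symm)).1
    have hw' : β a = rep cs isCartan w (sr 0) := hw
    obtain ⟨g, hg⟩ := exists_rp cs R.nsys w
    have h1 := R.conj_rp hg (isRoot_sr cs isCartan 0)
    rw [← hw'] at h1
    have h3 : Nat.card (cj g (X φ q (sr 0))) = Nat.card (X φ q (sr 0)) :=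
      Nat.card_congr ((X φ q (sr 0)).equivMapOfInjective _ (MulAut.conj g).injective).toEquiv.symm
    rw [← h1, h3, card_X0 hφ hqq hq.one_lt hK]
  refine Frame.closedRow R (β := β) (P := P) ⟨w1, fun a b hab => lc_lst (w2 a b hab), w3, w4⟩
    (RGDTwE6.G1_eq_top cs hφ hqq) hcen (fun s hs t ht => torus_comm RGDTwE6.hp s hs t ht) (fun i => (hN i).2)
    (link := lk) ?_ lk_conn (IsPGroup.of_card (n := 3) (by rw [w5]; norm_num)) (Γ := Γ) ?_ w6 ?_
  · intro i j hij
    obtain ⟨F, _, Ψ, N⟩ := (hN i).1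
    fin_cases i <;> fin_cases j <;> first | exact absurd hij (by decide) | skip
    · exact link_z hφ hqq h2 par01 N
    · exact link_z hφ hqq h2 par10 N
    · exact link_z hφ hqq h2 par12 N
    · exact link21 hφ hqq cs N
    · exact link_z hφ hqq h2 par23 N
    · exact link_z hφ hqq h2 par32 N
  · intro w hw
    obtain ⟨L, hL, hp, e⟩ := w7 w hw
    exact ⟨L, hL, hp.imp fun h => lc_lst h, e⟩
  · intro m hm
    have hq3 : 3 ≤ q := by
      have h1 := hq.two_le
      rcases ho with ⟨k, hk⟩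
      omega
    have hT : Nat.gcd 3 (q + 1) * Nat.card (RGDTwE6.T K q) = (q - 1) ^ 4 * (q + 1) ^ 2 := by
      rw [← S1102.result hq hK]
      congr 1
      exact Nat.card_congr (Subgroup.subgroupOfEquivOfLe inf_le_right).toEquiv
    have h3 := Orders.ord_TwE6 ho hq3 (Nat.gcd_pos_of_pos_left _ (by norm_num : 0 < 3)).ne'
      (S1066.result hq hK) hT m hm
    rw [w5, Finset.prod_congr rfl fun a _ => by rw [hlong a], Finset.prod_const, Finset.card_univ, Fintype.card_fin]
    exact h3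

/-- **The row of `²E₆(q)`, `q` odd**, in the format of `ClosedRed.LieRows`. -/
theorem twE6 {G : Type*} [Group G] [Finite G] [IsSimpleGroup G] {r : ℕ} (hr : r.Prime) (hr2 : r ≠ 2)
    (K : Type) [Field K] [Fintype K] [CharP K r] (q : ℕ) (hq : IsPrimePow q)
    (hK : Fintype.card K = q ^ 2) (e : Nonempty (G ≃* twistedE6 K q)) : ClosedTwo.ClosedRow G :=
  Rows.transport e fun hcen => row_twE6 K hq hK (Rows.odd_q hr hr2 K hK (by norm_num)) hcen

end Cfsg.Agent.ClosedTw

end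

-- merged: Cfsg.Agent.ClosedRed.LieAll
section

/-!
# Foote's theorem (S1252): the rows of Lie type in odd characteristic (helper86)
-/

set_option autoImplicit false

namespace Cfsg.Agent.ClosedRed.LieAll

open Subgroup Cfsg Cfsg.Agent.ClosedTwo Cfsg.Agent.ClosedRed

universe u

variable {G : Type u} [Group G] [Finite G]

theorem psp {r : ℕ} (hr : r.Prime) (h2 : r ≠ 2) (h : IsPSpChar r G) : ClosedRow G := by
  obtain ⟨F, iF, iT, hF, m, h1, -, e⟩ := h
  exact of_closedRow e (Cfsg.Agent.ClosedTwo.Psp.closedRow (Cfsg.Agent.ClosedExc.Rows.odd_card hr h2 F) h1)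

/-- **The rows of Lie type in odd characteristic.** -/
theorem lieRows [IsSimpleGroup G] {r : ℕ} (hr : r.Prime) (h2 : r ≠ 2) : LieRows r G where
  psl h := Cfsg.Agent.FooteOdd.Rows.pslChar hr h2 h
  psp h := psp hr h2 h
  psu h := Cfsg.Agent.FooteOdd.Rows.psuChar hr h2 h
  omegaOdd h := Cfsg.Agent.FooteOrth.RowsChar.omegaOdd hr h2 h
  omegaPlus h := Cfsg.Agent.FooteOrth.RowsChar.omegaPlus hr h2 h
  omegaMinus h := Cfsg.Agent.FooteOrth.RowsChar.omegaMinus hr h2 h
  g2 F _ _ _ _ e := Cfsg.Agent.ClosedExc.Rows.g2 hr h2 F e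
  f4 F _ _ _ e := Cfsg.Agent.ClosedExc.Rows.f4 hr h2 F e
  e6 F _ _ _ e := Cfsg.Agent.ClosedExc.Rows.e6 hr h2 F e
  e7 F _ _ _ e := Cfsg.Agent.ClosedExc.Rows.e7 hr h2 F e
  e8 F _ _ _ e := Cfsg.Agent.ClosedExc.Rows.e8 hr h2 F e
  twE6 K _ _ _ q hq hK e := Cfsg.Agent.ClosedTw.twE6 hr h2 K q hq hK e
  twD4 K _ _ _ q hq hK e := Cfsg.Agent.ClosedExc.Rows.twD4 hr h2 K q hq hK e

end Cfsg.Agent.ClosedRed.LieAll

end

-- merged: Cfsg.Agent.Foote.Row.MEleven
section

/-!
# Foote's theorem, simple case: the row `M11` (helper29)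

One class of involutions, `|S| = 16` and a self-centralising four-group: the strongly closed subgroup has index at
most 2 in `S`; transfer.
-/

set_option autoImplicit false
set_option linter.style.haveILetI false

namespace Cfsg.Agent.Foote.Row.MEleven

open Subgroup Cfsg Cfsg.Agent.Cit.Eleven Cfsg.Agent.Cit.ElevenFact Cfsg.Agent.TwoFusion.ClosedFam

/-- a subgroup of index at most two, the other elements are in one coset -/
theorem exists_gen {X : Type*} [Group X] [Finite X] {S A : Subgroup X} (hAS : A ≤ S) (hS : Nat.card S = 16)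
    (hA : 4 < Nat.card A) : ∃ s ∈ S, ∀ x ∈ S, ∃ n : ℤ, x * s ^ n ∈ A := by
  by_cases hSA : S ≤ A
  · exact ⟨1, one_mem _, fun x hx => ⟨0, by rw [zpow_zero, mul_one]; exact hSA hx⟩⟩
  obtain ⟨s, hs, hsA⟩ := SetLike.not_le_iff_exists.1 hSA
  have h1 : Nat.card A ∣ 16 := by rw [← hS]; exact card_dvd_of_le hAS
  have h2 : Nat.card A ≠ 16 := by
    intro h2
    exact hSA (eq_of_le_of_card_ge hAS (by rw [hS, h2])).ge
  have h3 : Nat.card A = 8 := by
    have h4 : Nat.card A ∈ Nat.divisors 16 := Nat.mem_divisors.2 ⟨h1, by norm_num⟩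
    have h5 : Nat.divisors 16 = {1, 2, 4, 8, 16} := by decide
    rw [h5] at h4
    simp only [Finset.mem_insert, Finset.mem_singleton] at h4
    omega
  have h4 : (A.subgroupOf S).index = 2 := by
    have h5 := (A.subgroupOf S).card_mul_index
    rw [Nat.card_congr (subgroupOfEquivOfLe hAS).toEquiv, h3, hS] at h5
    omega
  refine ⟨s, hs, fun x hx => ?_⟩
  by_cases hxA : x ∈ A
  · exact ⟨0, by rw [zpow_zero, mul_one]; exact hxA⟩
  · refine ⟨1, ?_⟩
    rw [zpow_one]
    have h5 := (mul_mem_iff_of_index_two h4 (a := ⟨x, hx⟩) (b := ⟨s, hs⟩)).2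
      ⟨fun h => absurd h hxA, fun h => absurd h hsA⟩
    exact h5

theorem cr {X : Type*} [Group X] (h : Spor.IsoM11 X) (hG : commutator X = ⊤) : CR X := by
  have hf := finite h
  haveI : Fact (Nat.Prime 2) := ⟨Nat.prime_two⟩
  obtain ⟨z, b, hzz, hbb, hz1, hb1, hzb, hc, hC⟩ := OddHalf.D8.RowM11.exists_four h
  intro 𝒜 h𝒜
  by_cases ht : Triv 𝒜
  · exact Or.inl ht
  right
  have hinv : ∀ y : X, y * y = 1 → y ∈ 𝒜 := invol_mem (fun x y hx hx1 hy hy1 => conj_of_sq h hx hx1 hy hy1) h𝒜 ht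
  -- the four-group
  have hV2 : IsPGroup 2 (zpowers z ⊔ zpowers b : Subgroup X) := by
    refine IsPGroup.to_sup_of_normal_right' (TwoEl.isPGroup ⟨1, by rw [pow_one, pow_two, hzz]⟩)
      (TwoEl.isPGroup ⟨1, by rw [pow_one, pow_two, hbb]⟩) ?_
    rw [zpowers_le]
    refine (centralizer_le_normalizer (G := X) (s := _)) ?_
    rw [mem_centralizer_iff]
    intro y hy
    obtain ⟨k, rfl⟩ := mem_zpowers_iff.1 hy
    exact (Commute.zpow_left (hc.symm : Commute b z) k)
  obtain ⟨S, hS⟩ := hV2.exists_le_sylow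
  have hzS : z ∈ (S : Subgroup X) := hS (mem_sup_left (mem_zpowers z))
  have hbS : b ∈ (S : Subgroup X) := hS (mem_sup_right (mem_zpowers b))
  have hcS : Nat.card S = 16 := by
    have h1 : Nat.card S = 2 ^ (Nat.card X).factorization 2 := S.card_eq_multiplicity
    rw [h1, (isM11 h).2, show (7920 : ℕ) = 2 ^ 4 * 495 by norm_num,
      Nat.factorization_mul (by norm_num) (by norm_num), Nat.Prime.factorization_pow Nat.prime_two,
      Finsupp.add_apply, Finsupp.single_eq_same, Nat.factorization_eq_zero_of_not_dvd (by norm_num : ¬ 2 ∣ 495)]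
    norm_num
  have hmem : ∀ {x : X}, x ∈ fam 𝒜 (S : Subgroup X) ↔ x ∈ 𝒜 ∧ x ∈ S := h𝒜.mem_fam_iff S.2
  have hzA : z ∈ fam 𝒜 (S : Subgroup X) := mem_fam (hinv z hzz) hzS
  have hbA : b ∈ fam 𝒜 (S : Subgroup X) := mem_fam (hinv b hbb) hbS
  have hzi : z⁻¹ = z := inv_eq_of_mul_eq_one_left hzz
  have hbi : b⁻¹ = b := inv_eq_of_mul_eq_one_left hbb
  have hcA : 4 < Nat.card (fam 𝒜 (S : Subgroup X)) := by
    by_contra hle
    push Not at hle
    -- then `A` is the four-group
    classical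
    have e1 : (1 : X) ≠ z := fun h => hz1 h.symm
    have e2 : (1 : X) ≠ b := fun h => hb1 h.symm
    have e3 : (1 : X) ≠ z * b := fun h => hzb (by
      rw [← hzi]; exact inv_eq_of_mul_eq_one_right h.symm)
    have e4 : z ≠ z * b := fun h => hb1 (left_eq_mul.1 h)
    have e5 : b ≠ z * b := fun h => hz1 (right_eq_mul.1 h)
    have hfour : ({1, z, b, z * b} : Finset X).card = 4 := by
      rw [Finset.card_insert_of_notMem, Finset.card_insert_of_notMem, Finset.card_insert_of_notMem,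
        Finset.card_singleton]
      · simpa using e5
      · simpa using ⟨hzb, hb1⟩
      · simpa using ⟨e1, e2, e3⟩
    have hsub : ((({1, z, b, z * b} : Finset X) : Set X)) ⊆ (fam 𝒜 (S : Subgroup X) : Set X) := by
      intro x hx
      rw [Finset.mem_coe, Finset.mem_insert, Finset.mem_insert, Finset.mem_insert, Finset.mem_singleton] at hx
      rcases hx with rfl | rfl | rfl | rfl
      · exact one_mem _
      · exact hzA
      · exact hbA
      · exact mul_mem hzA hbA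
    have hAeq : ((({1, z, b, z * b} : Finset X) : Set X)) = (fam 𝒜 (S : Subgroup X) : Set X) := by
      apply Set.eq_of_subset_of_ncard_le hsub
      rw [Set.ncard_coe_finset, hfour]
      exact hle
    have hA4 : ∀ a ∈ fam 𝒜 (S : Subgroup X), a = 1 ∨ a = z ∨ a = b ∨ a = z * b := by
      intro a ha
      have h1 : a ∈ ((({1, z, b, z * b} : Finset X) : Set X)) := by rw [hAeq]; exact ha
      rwa [Finset.mem_coe, Finset.mem_insert, Finset.mem_insert, Finset.mem_insert, Finset.mem_singleton] at h1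
    obtain ⟨y, hyA, hy1, hyy, hyS, hyc⟩ := exists_central h𝒜 ht S
    obtain ⟨d, hdF, hdd, hdy, hdC, hdA⟩ : ∃ d ∈ fam 𝒜 (S : Subgroup X), d ≠ 1 ∧ d ≠ y ∧
        (∀ x : X, x * y = y * x → x * d = d * x → x = 1 ∨ x = z ∨ x = b ∨ x = z * b) ∧
        ∀ a ∈ fam 𝒜 (S : Subgroup X), a = 1 ∨ a = y ∨ a = d ∨ a = y * d := by
      rcases hC y (hyc z hzS).symm (hyc b hbS).symm with h1 | rfl | rfl | rfl
      · exact absurd h1 hy1
      · exact ⟨b, hbA, hb1, hzb.symm, hC, hA4⟩
      · refine ⟨z, hzA, hz1, hzb, fun x h1 h2 => hC x h2 h1, fun a ha => ?_⟩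
        rcases hA4 a ha with h1 | h1 | h1 | h1
        · exact Or.inl h1
        · exact Or.inr (Or.inr (Or.inl h1))
        · exact Or.inr (Or.inl h1)
        · exact Or.inr (Or.inr (Or.inr (by rw [h1, hc])))
      · refine ⟨b, hbA, hb1, e5, fun x h1 h2 => hC x ?_ h2, fun a ha => ?_⟩
        · have h3 : x * z * b = z * x * b := by
            calc x * z * b = x * (z * b) := by group
              _ = z * b * x := h1
              _ = z * (b * x) := by group
              _ = z * (x * b) := by rw [h2]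
              _ = z * x * b := by group
          exact mul_right_cancel h3
        · rcases hA4 a ha with h1 | h1 | h1 | h1
          · exact Or.inl h1
          · refine Or.inr (Or.inr (Or.inr ?_))
            rw [h1, mul_assoc, hbb, mul_one]
          · exact Or.inr (Or.inr (Or.inl h1))
          · exact Or.inr (Or.inl h1)
    have hconj : ∀ s ∈ (S : Subgroup X), s * d * s⁻¹ = d ∨ s * d * s⁻¹ = y * d := by
      intro s hs
      have h1 : s * d * s⁻¹ ∈ fam 𝒜 (S : Subgroup X) :=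
        h𝒜.conj_mem_fam (fun w hw => mul_mem (mul_mem hs hw) (inv_mem hs)) hdF
      rcases hdA _ h1 with h2 | h2 | h2 | h2
      · exfalso
        apply hdd
        calc d = s⁻¹ * (s * d * s⁻¹) * s := by group
          _ = 1 := by rw [h2]; group
      · exfalso
        apply hdy
        calc d = s⁻¹ * (s * d * s⁻¹) * s := by group
          _ = s⁻¹ * (y * s) := by rw [h2]; group
          _ = y := by rw [← hyc s hs]; group
      · exact Or.inl h2
      · exact Or.inr h2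
    -- `S` has at most eight elements
    obtain ⟨s₀, hs₀S, hs₀⟩ : ∃ s₀ ∈ (S : Subgroup X), ∀ s ∈ (S : Subgroup X), s * d = d * s ∨ (s₀⁻¹ * s) * d = d * (s₀⁻¹ * s) := by
      by_cases hall : ∀ s ∈ (S : Subgroup X), s * d = d * s
      · exact ⟨1, one_mem _, fun s hs => Or.inl (hall s hs)⟩
      · push Not at hall
        obtain ⟨s₀, hs₀S, hs₀⟩ := hall
        have h1 : s₀ * d * s₀⁻¹ = y * d := (hconj s₀ hs₀S).resolve_left fun h1 => hs₀ (mul_inv_eq_iff_eq_mul.1 h1)
        refine ⟨s₀, hs₀S, fun s hs => ?_⟩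
        rcases hconj s hs with h2 | h2
        · exact Or.inl (mul_inv_eq_iff_eq_mul.1 h2)
        · right
          have h3 : s * d * s⁻¹ = s₀ * d * s₀⁻¹ := by rw [h1, h2]
          calc s₀⁻¹ * s * d = s₀⁻¹ * (s * d * s⁻¹) * s := by group
            _ = s₀⁻¹ * (s₀ * d * s₀⁻¹) * s := by rw [h3]
            _ = d * (s₀⁻¹ * s) := by group
    set F : Finset X := {1, z, b, z * b} with hF
    have hmF : ∀ x : X, x = 1 ∨ x = z ∨ x = b ∨ x = z * b → x ∈ F := by
      intro x hx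
      rwa [hF, Finset.mem_insert, Finset.mem_insert, Finset.mem_insert, Finset.mem_singleton]
    have hsub' : ((S : Subgroup X) : Set X) ⊆ ((F ∪ F.image fun x => s₀ * x : Finset X) : Set X) := by
      intro s hs
      rw [Finset.mem_coe, Finset.mem_union, Finset.mem_image]
      rcases hs₀ s hs with h1 | h1
      · exact Or.inl (hmF s (hdC s (hyc s hs) h1))
      · exact Or.inr ⟨s₀⁻¹ * s, hmF _ (hdC _ (hyc _ (mul_mem (inv_mem hs₀S) hs)) h1), by group⟩
    have h1 : Nat.card S ≤ (F ∪ F.image fun x => s₀ * x : Finset X).card := by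
      have := Set.ncard_le_ncard hsub' (Finset.finite_toSet _)
      rwa [Set.ncard_coe_finset] at this
    have h2 := Finset.card_union_le F (F.image fun x => s₀ * x)
    have h3 : (F.image fun x => s₀ * x).card ≤ F.card := Finset.card_image_le
    rw [hcS] at h1
    omega
  obtain ⟨s, hs, hgen⟩ := exists_gen (fam_le 𝒜 (S : Subgroup X)) hcS hcA
  refine full_of_cyclic hG h𝒜 S s hs fun x hx => ?_
  obtain ⟨n, hn⟩ := hgen x hx
  exact ⟨n, (hmem.1 hn).1⟩

end Cfsg.Agent.Foote.Row.MEleven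

end

-- merged: Cfsg.Agent.Foote.Row.MTwelve
section

/-!
# Foote's theorem, simple case: the row `M12` (helper29)

The Sylow 2-subgroup `T` of the model `G12` of `QTUnique/MTwelve`; `Z(T) = ⟨x 5⟩`, `x 1, x 3, x 4, x 5` and
`x 1 * x 2 * x 3` are conjugate to `x 5`, so the strongly closed subgroup has index at most 2: transfer.
-/

set_option autoImplicit false
set_option linter.style.haveILetI false

namespace Cfsg.Agent.Foote.Row.MTwelve

open Subgroup Cfsg Cfsg.Agent.GH.Pc Cfsg.Agent.GH.Models.Proj Cfsg.Agent.CoThreeStd.M12 Cfsg.Agent.QTUnique.MTwelve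
open Cfsg.Agent.TwoFusion.ClosedFam

/-- the word of a normal form -/
def nw (e : Fin 6 → Bool) : List (Fin 6) := ((List.finRange 6).filter fun i => e i).flatMap xw

def cenc (e : Fin 6 → Bool) : Bool :=
  Nat.beq (wt (nw e)) oneT || Nat.beq (wt (nw e)) (wt (xw 5)) ||
    (List.finRange 6).any fun i => !(Nat.beq (wt (xw i ++ nw e)) (wt (nw e ++ xw i)))

theorem cen_chk : allB 6 cenc = true := by decide +kernel

theorem center_T {g : G12} (hg : g ∈ closure (Set.range x)) (h : ∀ y ∈ closure (Set.range x), y * g = g * y) :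
    g = 1 ∨ g = x 5 := by
  obtain ⟨e, rfl⟩ := exists_nf P_ok sat hg
  have e1 : nf x e = el (nw e) := word_x _
  have h1 := allB_spec cen_chk e
  rw [cenc, Bool.or_eq_true, Bool.or_eq_true] at h1
  rcases h1 with (h1 | h1) | h1
  · left
    rw [e1, ← el_nil]
    exact el_eq (Nat.eq_of_beq_eq_true h1)
  · right
    rw [e1]
    exact el_eq (Nat.eq_of_beq_eq_true h1)
  · exfalso
    obtain ⟨i, -, hi⟩ := List.any_eq_true.1 h1
    have h2 := h (x i) (subset_closure ⟨i, rfl⟩)
    rw [e1] at h2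
    have h3 : el (xw i) * el (nw e) = el (nw e) * el (xw i) := h2
    rw [← el_append, ← el_append, el_eq_iff] at h3
    rw [h3] at hi
    simp at hi

theorem conj_chk : wt ([2, 1, 5, 4, 3] ++ xw 5) = wt (xw 1 ++ [2, 1, 5, 4, 3]) ∧
    wt ([3, 5, 4, 5, 3] ++ xw 5) = wt (xw 3 ++ [3, 5, 4, 5, 3]) ∧
    wt ([5, 2, 0, 5] ++ xw 5) = wt (xw 4 ++ [5, 2, 0, 5]) ∧
    wt ([1, 5, 4, 3, 0, 5] ++ xw 5) = wt (xw 1 ++ xw 2 ++ xw 3 ++ [1, 5, 4, 3, 0, 5]) := by
  decide +kernel

theorem cr_model (hG : commutator G12 = ⊤) : CR G12 := by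
  intro 𝒜 h
  by_cases ht : Triv 𝒜
  · exact Or.inl ht
  right
  obtain ⟨T, hT⟩ := exists_T
  obtain ⟨y, hy, hy1, -, hyT, hyc⟩ := exists_central h ht T
  have hTm : ∀ g, g ∈ T ↔ g ∈ closure (Set.range x) := fun g => by
    rw [← hT]; exact Iff.rfl
  have h5 : x 5 ∈ 𝒜 := by
    rcases center_T ((hTm y).1 hyT) (fun g hg => hyc g ((hTm g).2 hg)) with h1 | h1
    · exact absurd h1 hy1
    · rwa [← h1]
  have key : ∀ w v : List (Fin 6), wt (w ++ xw 5) = wt (v ++ w) → el v ∈ 𝒜 := by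
    intro w v hw
    have h1 : el w * x 5 = el v * el w := by
      show el w * el (xw 5) = _
      rw [← el_append, ← el_append]
      exact el_eq hw
    have h2 := h.conj_mem _ h5 (el w)
    rwa [h1, mul_inv_cancel_right] at h2
  obtain ⟨c1, c3, c4, c6⟩ := conj_chk
  have h1 : x 1 ∈ 𝒜 := key _ _ c1
  have h3 : x 3 ∈ 𝒜 := key _ _ c3
  have h4 : x 4 ∈ 𝒜 := key _ _ c4
  have h6 : x 1 * x 2 * x 3 ∈ 𝒜 := by
    have := key _ _ c6
    rwa [el_append, el_append] at this
  have hmem : ∀ i, x i ∈ (T : Subgroup G12) := fun i => (hTm _).2 (subset_closure ⟨i, rfl⟩)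
  have h2 : x 2 ∈ 𝒜 := by
    have e : x 2 = (x 1)⁻¹ * (x 1 * x 2 * x 3) * (x 3)⁻¹ := by group
    rw [e]
    have m : x 1 * x 2 * x 3 ∈ (T : Subgroup G12) := mul_mem (mul_mem (hmem 1) (hmem 2)) (hmem 3)
    exact h.mul_mem _ T.2 _ (mul_mem (inv_mem (hmem 1)) m) _ (inv_mem (hmem 3))
      (h.mul_mem _ T.2 _ (inv_mem (hmem 1)) _ m (h.inv_mem h1) h6) (h.inv_mem h3)
  refine full_of_gen hG h T hT (hmem 0) ?_
  rintro _ ⟨i, rfl⟩
  have h0 : x 0 * x 0 ^ (-1 : ℤ) ∈ 𝒜 := by
    rw [zpow_neg_one, mul_inv_cancel]; exact h.one_mem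
  fin_cases i
  · exact ⟨-1, h0⟩
  · exact ⟨0, by rw [zpow_zero, mul_one]; exact h1⟩
  · exact ⟨0, by rw [zpow_zero, mul_one]; exact h2⟩
  · exact ⟨0, by rw [zpow_zero, mul_one]; exact h3⟩
  · exact ⟨0, by rw [zpow_zero, mul_one]; exact h4⟩
  · exact ⟨0, by rw [zpow_zero, mul_one]; exact h5⟩

theorem cr {G : Type*} [Group G] [Finite G] (h : Spor.IsoM12 G) (hG : commutator G = ⊤) : CR G := by
  obtain ⟨e⟩ := h
  have e' : G ≃* G12 := e.trans equiv
  exact (cr_model (perfect_map e' hG)).of_equiv e'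

end Cfsg.Agent.Foote.Row.MTwelve

end

-- merged: Cfsg.Agent.Foote.Row.MM
section

/-!
# Foote's theorem, simple case: the rows `M22`, `M23` (helper29)
-/

set_option autoImplicit false

namespace Cfsg.Agent.Foote.Row.MM

open Subgroup Cfsg

theorem cr_of_mm {K : Type*} [Group K] [Finite K] {SK V W : Subgroup K} {z c : K}
    (h : OddHalf.MM.Sheet SK V W z c) : CR K := by
  have hSyl : ∃ S : Sylow 2 K, (S : Subgroup K) = SK :=
    ⟨⟨SK, h.two, fun hP hle => h.max _ hP hle⟩, rfl⟩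
  obtain ⟨S, hS⟩ := hSyl
  refine cr_of_inv ?_ S ?_
  · intro x y hx hx1 hy hy1
    obtain ⟨a, ha⟩ := h.inv x hx hx1
    obtain ⟨b, hb⟩ := h.inv y hy hy1
    exact ⟨b * a⁻¹, by rw [ha, hb]; group⟩
  · intro A hA s hs
    have hs' : s ∈ SK := by rw [← hS]; exact hs
    have hm : ∀ x ∈ SK, x * x = 1 → x ∈ A := fun x hx => hA x (by
      have : x ∈ (S : Subgroup K) := by rw [hS]; exact hx
      exact this)
    obtain ⟨v, hv, w, hw, hsv⟩ := h.gen s hs'
    have h1 : v ∈ A := hm v (h.VS hv) (h.elV v hv)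
    have h2 : w ∈ A := hm w (h.WS hw) (h.elW w hw)
    have h3 : c ∈ A := hm c h.cS h.cc
    rcases hsv with rfl | rfl
    · exact mul_mem h1 h2
    · exact mul_mem (mul_mem h1 h2) h3

theorem cr22 : CR Spor.M22 := by
  obtain ⟨SK, V, W, z, c, h⟩ := KFacts.MM.Main.sheet22
  exact cr_of_mm h

theorem cr23 : CR Spor.M23 := by
  obtain ⟨SK, V, W, z, c, h⟩ := KFacts.MM.Main.sheet23
  exact cr_of_mm h

end Cfsg.Agent.Foote.Row.MM

end

-- merged: Cfsg.Agent.Foote.Row.MTwentyFour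
section

/-!
# Foote's theorem, simple case: the row `M24` (helper29)
-/

set_option autoImplicit false
set_option linter.style.haveILetI false

namespace Cfsg.Agent.Foote.Row.MTwentyFour

open Subgroup Cfsg Cfsg.Agent.SporadicA Cfsg.Agent.SporadicA.OctadFix Cfsg.Agent.SporadicA.OctadStab
open scoped Pointwise

theorem index_stab {O : Finset GolayPt} (hO : O ∈ octads) : (MulAction.stabilizer (↥M24) O).index = 759 := by
  rw [MulAction.index_stabilizer, ← Cfsg.Agent.S0360.result]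
  congr 1
  ext o
  constructor
  · rintro ⟨g, rfl⟩
    exact (GolayPerm.smul_mem_octads g.2).2 hO
  · intro ho
    obtain ⟨g, hg, hgO⟩ := exists_smul_eq_oct0 hO
    obtain ⟨k, hk, hko⟩ := exists_smul_eq_oct0 ho
    refine ⟨⟨k⁻¹ * g, M24.mul_mem (M24.inv_mem hk) hg⟩, ?_⟩
    show (k⁻¹ * g) • O = o
    rw [mul_smul, hgO, ← hko, inv_smul_smul]

theorem exists_not_mem {O : Finset GolayPt} (hO : O ∈ octads) : ∃ p : GolayPt, p ∉ O := by
  by_contra hcon
  push Not at hcon
  have h1 : O = Finset.univ := Finset.eq_univ_iff_forall.2 hcon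
  have h2 := GolayBase.octad_card hO
  rw [h1, Finset.card_univ] at h2
  revert h2
  decide +kernel

/-- the involutions with a fixed point are in every nontrivial family -/
theorem mem_of_fix {𝒜 : Set M24} (h : TwoFusion.ClosedFam.IsClosedFam 𝒜) (ht : ¬ Triv 𝒜) {u : M24} (hu : u * u = 1)
    {p : GolayPt} (hp : u • p = p) : u ∈ 𝒜 := by
  by_cases hu1 : u = 1
  · rw [hu1]; exact h.one_mem
  obtain ⟨S, hzS, hzc, hZ⟩ := KFacts.M24Two.Syl.syl
  obtain ⟨y, hy, hy1, -, hyS, hyc⟩ := exists_central h ht S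
  have hz : KFacts.M24Two.CentZ.z ∈ 𝒜 := by
    rcases hZ y hyS hyc with h1 | h1
    · exact absurd h1 hy1
    · rwa [← h1]
  obtain ⟨a, ha⟩ := KFacts.M24Two.CentZ.conj_z
  obtain ⟨b, hb⟩ := KFacts.M24Two.Count.conj_z_of_fix hu hu1 hp
  have h2 : u = (b⁻¹ * a) * KFacts.M24Two.CentZ.z * (b⁻¹ * a)⁻¹ := by
    calc u = b⁻¹ * (b * u * b⁻¹) * b := by group
      _ = b⁻¹ * (a * KFacts.M24Two.CentZ.z * a⁻¹) * b := by rw [hb, ha]
      _ = _ := by group
  rw [h2]
  exact h.conj_mem _ hz _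

theorem cr : CR M24 := by
  obtain ⟨O, hO⟩ : ∃ O, O ∈ octads := by
    by_contra hcon
    push Not at hcon
    have h1 : octads = ∅ := Set.eq_empty_iff_forall_notMem.2 hcon
    have h2 := Cfsg.Agent.S0360.result
    rw [h1] at h2
    simp at h2
  obtain ⟨p, hp⟩ := exists_not_mem hO
  obtain ⟨h1, h2, ⟨e⟩⟩ := Cfsg.Agent.S1554.result O hO p hp
  intro 𝒜 h
  by_cases ht : Triv 𝒜
  · exact Or.inl ht
  right
  set H : Subgroup M24 := MulAction.stabilizer (↥M24) O with hH
  set K : Subgroup M24 := (fixOct O).subgroupOf M24 with hK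
  set L : Subgroup M24 :=
    (M24 ⊓ MulAction.stabilizer (Equiv.Perm GolayPt) O ⊓ MulAction.stabilizer (Equiv.Perm GolayPt) p).subgroupOf M24
    with hL
  have hLM : M24 ⊓ MulAction.stabilizer (Equiv.Perm GolayPt) O ⊓ MulAction.stabilizer (Equiv.Perm GolayPt) p ≤ M24 :=
    inf_le_left.trans inf_le_left
  have eL : L ≃* alternatingGroup (Fin 8) := (subgroupOfEquivOfLe hLM).trans e
  have hCL : CR L := (cr_of_closedRow (Cfsg.Agent.ClosedTwo.Alt.closedRow (α := Fin 8))).of_equiv eL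
  have hmemH : ∀ g : M24, g ∈ H ↔ (g : Equiv.Perm GolayPt) • O = O := fun g => Iff.rfl
  have hKH : K ≤ H := by
    intro x hx
    rw [hK, mem_subgroupOf, mem_fixOct] at hx
    rw [hmemH]
    apply Finset.eq_of_subset_of_card_le
    · intro y hy
      obtain ⟨w, hw, rfl⟩ := Finset.mem_smul_finset.1 hy
      have : (x : Equiv.Perm GolayPt) • w = w := hx.2 w hw
      rwa [this]
    · rw [Finset.card_smul_finset]
  have hLH : L ≤ H := by
    intro x hx
    rw [hL, mem_subgroupOf, mem_inf, mem_inf] at hx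
    rw [hmemH]
    exact hx.1.2
  have hKA : ∀ x ∈ K, x ∈ 𝒜 := by
    intro x hx
    rw [hK, mem_subgroupOf] at hx
    obtain ⟨q, hq⟩ : O.Nonempty := by
      rw [← Finset.card_pos, GolayBase.octad_card hO]; norm_num
    refine mem_of_fix h ht (Subtype.ext (fixOct_sq hO hx)) (p := q) ?_
    exact (mem_fixOct.1 hx).2 q hq
  have hLA : ∀ x ∈ L, TwoEl x → x ∈ 𝒜 := by
    -- an involution of `L`
    obtain ⟨a, ha, ha1⟩ : ∃ a : alternatingGroup (Fin 8), a * a = 1 ∧ a ≠ 1 := by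
      refine ⟨⟨Equiv.swap 0 1 * Equiv.swap 2 3, ?_⟩, ?_, ?_⟩
      · rw [Equiv.Perm.mem_alternatingGroup]
        decide +kernel
      · apply Subtype.ext
        show Equiv.swap 0 1 * Equiv.swap 2 3 * (Equiv.swap 0 1 * Equiv.swap 2 3) = (1 : Equiv.Perm (Fin 8))
        decide +kernel
      · intro h3
        have h4 : Equiv.swap 0 1 * Equiv.swap 2 3 = (1 : Equiv.Perm (Fin 8)) := congrArg Subtype.val h3
        revert h4
        decide +kernel
    set b : L := eL.symm a with hb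
    have hbb : (b : M24) * b = 1 := by
      have : b * b = 1 := by rw [hb, ← map_mul, ha, map_one]
      exact congrArg Subtype.val this
    have hb1 : b ≠ 1 := by
      intro hb1
      apply ha1
      have := congrArg eL hb1
      rwa [hb, eL.apply_symm_apply, map_one] at this
    have hbp : (b : M24) • p = p := by
      have h3 : ((b : M24) : Equiv.Perm GolayPt) ∈ M24 ⊓ MulAction.stabilizer (Equiv.Perm GolayPt) O ⊓
        MulAction.stabilizer (Equiv.Perm GolayPt) p := mem_subgroupOf.1 b.2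
      exact MulAction.mem_stabilizer_iff.1 h3.2
    have hbA : (b : M24) ∈ 𝒜 := mem_of_fix h ht hbb hbp
    rcases hCL _ (h.restrict L) with h3 | h3
    · exact absurd (h3 b hbA) hb1
    · intro x hx hx2
      exact h3 ⟨x, hx⟩ (twoEl_coe.1 hx2)
  refine full_of_odd h (H := H) (by rw [index_stab hO]; norm_num) ?_
  refine mem_of_split h hKH hLH ?_ ?_ ?_ ?_ hKA hLA
  · intro g hg k hk
    rw [hK, mem_subgroupOf] at hk ⊢
    have h3 := (conj_mem_fixOct (o := O) (k := (g : Equiv.Perm GolayPt)) (g := (k : Equiv.Perm GolayPt)) g.2).2 hk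
    rw [(hmemH g).1 hg] at h3
    exact h3
  · intro x
    refine ⟨1, ?_⟩
    have hx : ((x : M24) : Equiv.Perm GolayPt) ∈ fixOct O := mem_subgroupOf.1 x.2
    apply Subtype.ext
    apply Subtype.ext
    have := fixOct_sq hO hx
    rw [pow_one, pow_two]
    exact this
  · intro x hxK hxL
    have h3 : (x : Equiv.Perm GolayPt) ∈ (⊥ : Subgroup (Equiv.Perm GolayPt)) := by
      rw [← h1]
      exact ⟨mem_subgroupOf.1 hxK, mem_subgroupOf.1 hxL⟩
    exact Subtype.ext (mem_bot.1 h3)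
  · intro x hx
    have h3 : (x : Equiv.Perm GolayPt) ∈ M24 ⊓ MulAction.stabilizer (Equiv.Perm GolayPt) O :=
      ⟨x.2, (hmemH x).1 hx⟩
    rw [← h2] at h3
    have hn : M24 ⊓ MulAction.stabilizer (Equiv.Perm GolayPt) O ⊓ MulAction.stabilizer (Equiv.Perm GolayPt) p ≤
        normalizer (fixOct O : Set (Equiv.Perm GolayPt)) := by
      intro g hg
      rw [mem_inf, mem_inf] at hg
      rw [mem_normalizer_iff]
      intro k
      have h4 := conj_mem_fixOct (o := O) (k := g) (g := k) hg.1.1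
      rw [MulAction.mem_stabilizer_iff.1 hg.1.2] at h4
      exact h4.symm
    rw [← SetLike.mem_coe, coe_mul_of_right_le_normalizer_left _ _ hn] at h3
    obtain ⟨k, hk, l, hl, hkl⟩ := Set.mem_mul.1 h3
    exact ⟨⟨k, (mem_fixOct.1 hk).1⟩, mem_subgroupOf.2 hk, ⟨l, hLM hl⟩, mem_subgroupOf.2 hl, Subtype.ext hkl.symm⟩

end Cfsg.Agent.Foote.Row.MTwentyFour

end

-- merged: Cfsg.Agent.Foote.Row.JOne
section

/-!
# Foote's theorem, simple case: the row `J1` (helper29)
-/

set_option autoImplicit false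
set_option linter.style.haveILetI false

namespace Cfsg.Agent.Foote.Row.JOne

open Subgroup Cfsg Cfsg.Agent.SporadicB.J1.Main

theorem finite_J1 : Finite Cfsg.Spor.J1 := Nat.finite_of_card_ne_zero (by rw [isJ1.2]; norm_num)

theorem cr_model : CR Cfsg.Spor.J1 := by
  have hE : Nat.card data.E = 8 := data.card_E
  have hcard : Nat.card Cfsg.Spor.J1 = 175560 := isJ1.2
  have hfin : Finite Cfsg.Spor.J1 := finite_J1
  haveI : Fact (Nat.Prime 2) := ⟨Nat.prime_two⟩
  have hmul : Nat.card data.E = 2 ^ (Nat.card Cfsg.Spor.J1).factorization 2 := by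
    rw [hE, hcard, show (175560 : ℕ) = 2 ^ 3 * 21945 by norm_num,
      Nat.factorization_mul (by norm_num) (by norm_num), Nat.Prime.factorization_pow Nat.prime_two]
    rw [Finsupp.add_apply, Finsupp.single_eq_same,
      Nat.factorization_eq_zero_of_not_dvd (by norm_num : ¬ 2 ∣ 21945)]
    norm_num
  let P : Sylow 2 Cfsg.Spor.J1 := Sylow.ofCard data.E hmul
  obtain ⟨D⟩ := Cfsg.Agent.UGT.EndJ1.Data.exists_dat
  refine cr_of_inv ?_ P ?_
  · intro x y hx hx1 hy hy1
    obtain ⟨a, ha⟩ := D.conj_t hx hx1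
    obtain ⟨b, hb⟩ := D.conj_t hy hy1
    refine ⟨b * a⁻¹, ?_⟩
    rw [← ha, ← hb]; group
  · intro A hA x hx
    refine hA x hx ?_
    obtain ⟨i, rfl⟩ : x ∈ Set.range data.e := hx
    exact ((rep_e i).mul (rep_e i)).eq Rep.one (ce_sq i)

theorem cr {G : Type*} [Group G] (h : Spor.IsoJ1 G) : CR G := by
  obtain ⟨e⟩ := h
  haveI := finite_J1
  exact cr_model.of_equiv e

end Cfsg.Agent.Foote.Row.JOne

end

-- merged: Cfsg.Agent.Foote.Row.JFour
section

/-!
# Foote's theorem, simple case: the row `J4` (helper29)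
-/

set_option autoImplicit false

namespace Cfsg.Agent.Foote.Row.JFour

open Subgroup Cfsg.Agent.KFacts.J4 Cfsg.Agent.J4Type Cfsg.Agent.KFacts.J4.AutP

universe u

theorem cr {K : Type u} [Group K] (h : Spor.IsoJ4 K) (hG : commutator K = ⊤) (h22 : CR Spor.M22) : CR K := by
  obtain ⟨h1, h2, ⟨F⟩⟩ := Base.exists_full h
  refine cr_of_sheet hG (Cor.of_sheetE (SheetJ4.sheet F)) (idx_of_rel (Or.inr (SheetMJ4.relIndex_MM F.C.toCent)))
    h22 (pi F.C.toCent) (pi_surjective F.C.toCent) ?_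
  intro x hx hx1
  obtain ⟨q, hq, i, hxq⟩ := (pi_eq_one x).1 hx1
  obtain ⟨k, hk⟩ := twoEl_coe.2 hx
  rw [hxq] at hk ⊢
  rw [mem_Q_of_two hq hk, mul_one]
  exact hq

end Cfsg.Agent.Foote.Row.JFour

end

-- merged: Cfsg.Agent.Foote.Row.Suz
section

/-!
# Foote's theorem, simple case: the row `Suz` (helper29)
-/

set_option autoImplicit false

namespace Cfsg.Agent.Foote.Row.Suz

open Subgroup Cfsg.Agent.KFacts Cfsg.Agent.SuzThree.CentA Cfsg.Agent.SuzThree.QZero

theorem cr (hG : commutator Spor.Suz = ⊤) (ih : IndCR.{0} (Nat.card Spor.Suz)) : CR Spor.Suz := by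
  have := SuzSheetE.finite_suz
  have hC : C1 = centralizer ({z0} : Set Spor.Suz) := SuzSheetM.C1_eq
  have hs := Cor.of_sheetE SuzSheetE.sheetE
  refine cr_of_sheet_quasi hG hs (fun x y hx _ hxP _ => absurd (mem_centralizer_singleton_iff.2 hx) hxP) ?_ ?_ ih
    (a := 6) (M₀ := 405) ⟨405, by decide, dvd_rfl, ?_⟩ (by decide)
  · intro N hNP hR hn
    rw [← hC] at hNP hn ⊢
    rcases SuzSheetM.normal_cases hNP hR hn with h1 | h1
    · left
      rw [commutator_le]
      intro x hx y hy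
      have h2 := h1 hx
      rw [commutatorElement_def]
      have h3 : y * x⁻¹ * y⁻¹ ∈ Q0 := SuzLarge.large.conj_mem y (mem_C1.1 hy) _ (Q0.inv_mem h2)
      have h4 := Q0.mul_mem h2 h3
      simpa only [mul_assoc] using h4
    · right; exact h1
  · intro htop
    have h1 := SuzCent.card_C1
    rw [hC, htop, card_top, SporadicRecognition.SuzOrder.card_Suz] at h1
    norm_num at h1
  · rw [← hC, SuzCent.card_C1, SuzR.card_R]
    norm_num

end Cfsg.Agent.Foote.Row.Suz

end

-- merged: Cfsg.Agent.Foote.Row.CoOne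
section

/-!
# Foote's theorem, simple case: the row `Co1` (helper29)
-/

set_option autoImplicit false

namespace Cfsg.Agent.Foote.Row.CoOne

open Subgroup Cfsg.Agent.KFacts.Co1 Cfsg.Agent.KFacts.Co1.InCo1

theorem cr (hG : commutator Spor.Co1 = ⊤) (ih : IndCR.{0} (Nat.card Spor.Co1)) : CR Spor.Co1 := by
  have hc := Cfsg.Agent.CoOneType.Identify.card_co1
  have : Finite Spor.Co1 := Nat.finite_of_card_ne_zero (by rw [hc]; norm_num)
  obtain ⟨o, ho⟩ := Cfsg.Agent.CoOneType.ClosingCo1.exists_octad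
  refine cr_row hG (Cor.of_sheetE (CaseM.sheetE ho)) (e := 0) (Or.inl rfl) (by rw [pow_zero, relIndex_self]) ?_ ih
    (n := 21) (r := 9) (a := 12) (M₀ := 1982582476875) ?_ (by decide) ?_ (by norm_num) (by decide)
  · intro M hM hR hn
    rcases CaseM.normal ho M hM hR hn with h | h
    · left
      rw [h, Subgroup.commutator_le]
      intro r hr y hy
      have h2 := (CaseM.sheetE ho).Rn y hy _ ((RCo1 o).inv_mem hr)
      rw [commutatorElement_def]
      have h3 : r * y * r⁻¹ * y⁻¹ = r * (y * r⁻¹ * y⁻¹) := by group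
      rw [h3]
      exact (RCo1 o).mul_mem hr h2
    · exact Or.inr h
  · rw [hc]; norm_num
  · rw [YBig.card_R ho]; norm_num

end Cfsg.Agent.Foote.Row.CoOne

end

-- merged: Cfsg.Agent.Foote.Row.CoTwo
section

/-!
# Foote's theorem, simple case: the row `Co2` (helper29)
-/

set_option autoImplicit false

namespace Cfsg.Agent.Foote.Row.CoTwo

open Subgroup Cfsg.Agent.KFacts.CoTwo

theorem cr (hG : commutator Spor.Co2 = ⊤) (ih : IndCR.{0} (Nat.card Spor.Co2)) : CR Spor.Co2 := by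
  have := Cfsg.Agent.Schreier.CoTwoStab.finite
  have D := QuotInst.dataT
  have := D.simple
  obtain ⟨π, hπ, hker⟩ := D.quot
  exact cr_of_large_ind hG D.large D.nonab D.irr D.ne D.odd π hπ hker D.out ih
    (n := 18) (r := 9) (a := 9) (M₀ := 161382375) (by rw [Cfsg.Agent.Co2Type.CardCo2.card_co2]; norm_num)
    (by decide) RLarge.card_R (by norm_num) (by decide)

end Cfsg.Agent.Foote.Row.CoTwo

end

-- merged: Cfsg.Agent.Foote.Row.He
section

/-!
# Foote's theorem, simple case: the Held group (helper62)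
-/

set_option autoImplicit false

namespace Cfsg.Agent.Foote.Row.He

open Cfsg Cfsg.Agent.Foote Cfsg.Agent.ClosedTwo

/-- **The row `He`.** -/
theorem cr : CR Spor.He :=
  HeType.cr_of_side KFacts.He.Hyp.hyp KFacts.He.Hyp.iota_xC KFacts.He.Words.cfg.side1

theorem closedRow {G : Type*} [Group G] (h : Spor.IsoHe G) : ClosedRow G := by
  obtain ⟨e⟩ := h
  have := KFacts.He.Hyp.finHe
  have : Finite G := Finite.of_equiv _ e.symm.toEquiv
  exact (cr.of_equiv e).closedRow

end Cfsg.Agent.Foote.Row.He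

end

-- merged: Cfsg.Agent.Foote.Row.FiTF
section

/-!
# Foote's theorem, simple case: the row `Fi24'` (helper29)
-/

set_option autoImplicit false

namespace Cfsg.Agent.Foote.Row.FiTF

open Subgroup Cfsg Cfsg.Spor Cfsg.Agent.KFacts.FiTF Cfsg.Agent.KFacts.FiTF.Defs

theorem dich (N : Subgroup Spor.Fi24) (hN : N ≤ E) (hR : R ≤ N) (hn : ∀ e ∈ E, ∀ n ∈ N, e * n * e⁻¹ ∈ N) :
    (∀ n ∈ N, ∀ e ∈ E, n * e * n⁻¹ * e⁻¹ ∈ R) ∨ N = E := by
  have : Finite Spor.Fi24 := Cfsg.Agent.R08.FiTwentyFour.finite_Fi24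
  rcases (QuasiBInst.hyp FixZ.tran FixZ.ncard_Dz Order.card (Cent.cent FixZ.tran) (PerfE.perf FixZ.tran)
    (fun M h1 h2 h3 => QuasiA.dichW h2 h3 FixZ.tran SubOrb.quasi1 SubOrb.quasi2 h1)).dich_E hN hR hn with h | h
  · exact Or.inl fun n hn e he => SheetMFi.fixes_R FixZ.tran (h n hn) e he
  · exact Or.inr h

theorem cr (hG : _root_.commutator (commutator Spor.Fi24) = ⊤) (ih : IndCR.{0} (Nat.card (commutator Spor.Fi24))) :
    CR (commutator Spor.Fi24) := by
  have : Finite Spor.Fi24 := Cfsg.Agent.R08.FiTwentyFour.finite_Fi24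
  have h := frame
  have hrel := Abs.relIndex_E h Order.card SheetMFi.card_E
  have hmul := Abs.rel_mul h
  have hCK := Abs.card_CK h
  rw [Order.card] at hCK
  have hCK' : Nat.card (centralizer ({Abs.zK h} : Set (commutator Spor.Fi24))) = 160526499840 := by omega
  rw [hCK'] at hmul
  have hq : ∀ N : Subgroup (commutator Spor.Fi24), N ≤ E.subgroupOf (commutator Spor.Fi24) →
      R.subgroupOf (commutator Spor.Fi24) ≤ N →
      (∀ p ∈ E.subgroupOf (commutator Spor.Fi24), ∀ n ∈ N, p * n * p⁻¹ ∈ N) →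
      ⁅N, E.subgroupOf (commutator Spor.Fi24)⁆ ≤ R.subgroupOf (commutator Spor.Fi24) ∨
        N = E.subgroupOf (commutator Spor.Fi24) := by
    intro N hNE hRN hN
    have hmapN : N.map (commutator Spor.Fi24).subtype ≤ E := by
      rintro _ ⟨n, hn, rfl⟩
      exact hNE hn
    have hRN' : R ≤ N.map (commutator Spor.Fi24).subtype := by
      intro r hr
      exact ⟨⟨r, h.EK (h.RE hr)⟩, hRN hr, rfl⟩
    rcases dich (N.map (commutator Spor.Fi24).subtype) hmapN hRN' (by
      rintro e he _ ⟨n, hn, rfl⟩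
      exact ⟨_, hN ⟨e, h.EK he⟩ he n hn, rfl⟩) with h1 | h1
    · left
      rw [commutator_le]
      intro n hn e he
      exact h1 n ⟨n, hn, rfl⟩ e he
    · right
      apply le_antisymm hNE
      intro e he
      have h2 : (e : Spor.Fi24) ∈ N.map (commutator Spor.Fi24).subtype := by rw [h1]; exact he
      obtain ⟨n, hn, h3⟩ := h2
      have h4 : n = e := Subtype.ext h3
      rw [← h4]; exact hn
  rcases hrel with hrel | hrel
  · refine cr_row' hG (Cor.of_sheetE sheetE) (Or.inl hrel) hq ih (a := 8) (M₀ := 76545)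
      ⟨76545, by decide, dvd_rfl, ?_⟩ (by decide)
    rw [Abs.card_RK h, Abs.card_EK h]
    rw [hrel] at hmul
    omega
  · refine cr_row' hG (Cor.of_sheetE sheetE) (Or.inr hrel) hq ih (a := 7) (M₀ := 76545)
      ⟨76545, by decide, dvd_rfl, ?_⟩ (by decide)
    rw [Abs.card_RK h, Abs.card_EK h]
    rw [hrel] at hmul
    omega

end Cfsg.Agent.Foote.Row.FiTF

end

-- merged: Cfsg.Agent.FooteRow.FiTT
section

/-!
# Strongly closed 2-subgroups: the row `Fi22`, from the sheet `KFacts.FiTT.Facts` (helper41)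
-/

set_option autoImplicit false
set_option linter.style.haveILetI false

namespace Cfsg.Agent.FooteRow.FiTT

open Subgroup Cfsg Cfsg.Agent.TwoFusion.ClosedFam Cfsg.Agent.Foote Cfsg.Agent.KFacts.FiTT

variable {K : Type*} [Group K] {d d' : K} {R : Subgroup K}

theorem mem_pair {x : K} : x ∈ centralizer ({d, d'} : Set K) ↔ x * d = d * x ∧ x * d' = d' * x := by
  rw [mem_centralizer_iff]
  constructor
  · intro h
    exact ⟨(h d (Set.mem_insert _ _)).symm, (h d' (Set.mem_insert_of_mem _ rfl)).symm⟩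
  · rintro ⟨h1, h2⟩ y (rfl | rfl)
    · exact h1.symm
    · exact h2.symm

theorem comm_z {x : K} (h1 : x * d = d * x) (h2 : x * d' = d' * x) : x * (d * d') = d * d' * x := by
  rw [← mul_assoc, h1, mul_assoc, h2, mul_assoc]

theorem zmem {F : Facts K d d' R} : d * d' ∈ R := mul_mem F.d_mem F.d'_mem

/-- `R = [P, R]` -/
theorem R_le_comm (F : Facts K d d' R) : R ≤ ⁅centralizer ({d, d'} : Set K), R⁆ := by
  set P : Subgroup K := centralizer ({d, d'} : Set K) with hP
  have hn : ∀ g, g * d = d * g → g * d' = d' * g → ∀ x ∈ R, g * x * g⁻¹ ∈ R := fun g h1 h2 x hx =>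
    F.R_normal g (comm_z h1 h2) x hx
  have hle : ⁅P, R⁆ ≤ R := by
    rw [commutator_le]
    intro x hx r hr
    obtain ⟨h1, h2⟩ := mem_pair.1 hx
    exact mul_mem (hn x h1 h2 r hr) (inv_mem hr)
  have hinv : ∀ g, g * d = d * g → g * d' = d' * g → ∀ x ∈ ⁅P, R⁆, g * x * g⁻¹ ∈ ⁅P, R⁆ := by
    intro g h1 h2 x hx
    have hg : g ∈ P := mem_pair.2 ⟨h1, h2⟩
    have h3 : (⁅P, R⁆).map (MulAut.conj g).toMonoidHom ≤ ⁅P, R⁆ := by
      rw [map_commutator]
      refine commutator_mono ?_ ?_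
      · rintro _ ⟨p, hp, rfl⟩
        exact mul_mem (mul_mem hg hp) (inv_mem hg)
      · rintro _ ⟨r, hr, rfl⟩
        exact hn g h1 h2 r hr
    exact h3 ⟨x, hx, rfl⟩
  rcases F.dich _ hle hinv with h | h
  · exact h.ge
  exfalso
  have hPP : ⁅P, P⁆ = P := by
    have h1 := Subgroup.map_commutator (⊤ : Subgroup P) ⊤ P.subtype
    have h2 : (⊤ : Subgroup P).map P.subtype = P := by
      rw [← MonoidHom.range_eq_map, range_subtype]
    have h3 : ⁅(⊤ : Subgroup P), ⊤⁆ = ⊤ := F.perfect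
    rw [h3, h2] at h1
    exact h1.symm
  have hZ : ∀ x ∈ ⁅P, R⁆, ∀ p ∈ P, p * x = x * p := by
    intro x hx p hp
    obtain ⟨h1, h2⟩ := mem_pair.1 hp
    rcases h x hx with rfl | rfl | rfl | rfl
    · simp
    · exact h1
    · exact h2
    · exact comm_z h1 h2
  have h1 : ⁅⁅P, R⁆, P⁆ = ⊥ := by
    rw [commutator_eq_bot_iff_le_centralizer]
    intro x hx
    rw [mem_centralizer_iff]
    exact fun p hp => hZ x hx p hp
  have h2 : ⁅⁅R, P⁆, P⁆ = ⊥ := by rw [commutator_comm R P]; exact h1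
  have h3 : ⁅⁅P, P⁆, R⁆ = ⊥ := commutator_commutator_eq_bot_of_rotate h1 h2
  rw [hPP, commutator_eq_bot_iff_le_centralizer] at h3
  obtain ⟨x, hx, y, hy, hxy⟩ := F.R_nonab
  have h4 := mem_centralizer_iff.1 (h3 (F.R_le hx)) y hy
  have h5 : x * y * x⁻¹ * y⁻¹ = 1 := by rw [← h4]; group
  rw [h5] at hxy
  apply F.ne
  have h6 : d = d'⁻¹ := eq_inv_of_mul_eq_one_left hxy.symm
  rw [h6]
  exact inv_eq_of_mul_eq_one_left F.dd'

/-- **the row lemma**: `c` is an element of `C(d, d')` outside `R` such that `c` times `d` or `d'` is conjugate to `z` -/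
theorem cr_of_facts [Finite K] (hG : commutator K = ⊤) (F : Facts K d d' R)
    (hU : ∀ (E : Type) (_ : Field E) (_ : Fintype E), Fintype.card E = 4 → CR (PSU 4 E 2))
    (hout : ∃ g : K, g * (d * d') * g⁻¹ ∈ centralizer ({d, d'} : Set K) ∧ g * (d * d') * g⁻¹ ∉ R) : CR K := by
  have hodd : ¬ 2 ∣ (centralizer ({d * d'} : Set K)).index := by
    intro h
    obtain ⟨k, hk⟩ := F.odd
    omega
  obtain ⟨S, hS⟩ := exists_sylow_le hodd
  obtain ⟨E, iE, iF, hE, f, hf, hker⟩ := F.quoR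
  have hRz : ∀ x ∈ centralizer ({d, d'} : Set K), ∀ r ∈ R, x * r * x⁻¹ ∈ R := by
    intro x hx r hr
    obtain ⟨h1, h2⟩ := mem_pair.1 hx
    exact F.R_normal x (comm_z h1 h2) r hr
  have hPP : ⁅centralizer ({d, d'} : Set K), centralizer ({d, d'} : Set K)⁆ = centralizer ({d, d'} : Set K) := by
    have h1 := Subgroup.map_commutator (⊤ : Subgroup (centralizer ({d, d'} : Set K))) ⊤
      (centralizer ({d, d'} : Set K)).subtype
    have h2 : (⊤ : Subgroup (centralizer ({d, d'} : Set K))).map (centralizer ({d, d'} : Set K)).subtype =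
        centralizer ({d, d'} : Set K) := by
      rw [← MonoidHom.range_eq_map, range_subtype]
    have h3 : ⁅(⊤ : Subgroup (centralizer ({d, d'} : Set K))), ⊤⁆ = ⊤ := F.perfect
    rw [h3, h2] at h1
    exact h1.symm
  have hk : f.ker = R.subgroupOf (centralizer ({d, d'} : Set K)) := by
    ext x
    rw [MonoidHom.mem_ker, hker, mem_subgroupOf]
  refine cr_of_local hG F.R_le hRz F.R_two hPP (R_le_comm F) (hU E iE iF hE) f hf hk S ?_ (d * d') ?_ ?_
  · intro x hx y hy hxP hyP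
    have hx' := F.cz x (mem_centralizer_singleton_iff.1 (hS hx))
    have hy' := F.cz y (mem_centralizer_singleton_iff.1 (hS hy))
    have h1 := hx'.resolve_left fun h => hxP (mem_pair.2 h)
    have h2 := hy'.resolve_left fun h => hyP (mem_pair.2 h)
    have e1 : x * d = d' * x := by rw [← h1.1]; group
    have e2 : x * d' = d * x := by rw [← h1.2]; group
    have e3 : y * d = d' * y := by rw [← h2.1]; group
    have e4 : y * d' = d * y := by rw [← h2.2]; group
    refine mem_pair.2 ⟨?_, ?_⟩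
    · rw [mul_assoc, e3, ← mul_assoc, e2, mul_assoc]
    · rw [mul_assoc, e4, ← mul_assoc, e1, mul_assoc]
  · intro y hyS hy _ hy1
    exact (F.center_S S hS y hyS fun x hx => (hy x hx).symm).resolve_left hy1
  · intro 𝒜 h hz
    obtain ⟨g, h1, h2⟩ := hout
    exact ⟨_, h.conj_mem _ hz g, h1, h2⟩

end Cfsg.Agent.FooteRow.FiTT

end

-- merged: Cfsg.Agent.FooteRow.FiTwoTwo
section

/-!
# Strongly closed 2-subgroups: the row `Fi22`, given `U4(2)` (helper41)
-/

set_option autoImplicit false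
set_option linter.style.haveILetI false

namespace Cfsg.Agent.FooteRow.FiTwoTwo

open Subgroup Cfsg Cfsg.Agent.Foote Cfsg.Agent.R01.FiFusion Cfsg.Agent.R01.FiFacts Cfsg.Agent.R08.AutT

theorem cr_of (hU : ∀ (E : Type) (_ : Field E) (_ : Fintype E), Fintype.card E = 4 → CR (PSU 4 E 2)) :
    CR Spor.Fi22 := by
  haveI : Finite Spor.Fi22 := Cfsg.Agent.R08.AutT.finite
  have tf : TFacts T := tFacts
  obtain ⟨a, b, c, -, ht, -⟩ := tf.four
  have hT : ∀ x ∈ T, x ∈ Cfsg.Agent.KFacts.FiTT.TK (MulEquiv.refl Spor.Fi22) := fun x hx => ⟨x, hx, rfl⟩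
  obtain ⟨R, F⟩ := Cfsg.Agent.KFacts.FiTT.facts_of_iso (MulEquiv.refl Spor.Fi22) (hT a ht.mx) (hT b ht.my) ht.xy
    ht.cxy
  obtain ⟨g, g1, g2, -⟩ := tf.tri _ _ _ _ _ _ ht
    (⟨ht.my, ht.mw, ht.mx, ht.yw, ht.xy.symm, ht.xw.symm, ht.cyw, ht.cxy.symm, ht.cxw.symm⟩ : Tri T b c a)
  have hg : g * (a * b) * g⁻¹ = b * c := by
    calc g * (a * b) * g⁻¹ = (g * a * g⁻¹) * (g * b * g⁻¹) := by group
      _ = b * c := by rw [g1, g2]
  have hcP : c * a = a * c ∧ c * b = b * c := ⟨ht.cxw.symm, ht.cyw.symm⟩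
  have hbP : b * a = a * b ∧ b * b = b * b := ⟨ht.cxy.symm, rfl⟩
  have hbcP : b * c ∈ centralizer ({a, b} : Set Spor.Fi22) :=
    mul_mem (FiTT.mem_pair.2 hbP) (FiTT.mem_pair.2 hcP)
  have hcR : c ∉ R := by
    intro hc
    by_cases hcen : ∀ y ∈ R, c * y = y * c
    · rcases F.R_center c hcen with h | h | h | h
      · exact tf.ne c ht.mw h
      · exact ht.xw h.symm
      · exact ht.yw h.symm
      · exact tf.two a ht.mx b ht.my ht.xy ht.cxy (by rw [← h]; exact ht.mw)
    · push Not at hcen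
      obtain ⟨r, hr, hne⟩ := hcen
      rcases F.R_comm r hr c hc with h | h
      · apply hne
        rw [mul_inv_eq_one, mul_inv_eq_iff_eq_mul] at h
        exact h.symm
      · rw [mul_inv_eq_iff_eq_mul] at h
        apply tf.prod a b c ht
        rw [← h]
        exact tf.conj r c ht.mw
  refine FiTT.cr_of_facts perf F hU ⟨g, ?_, ?_⟩
  · rw [hg]; exact hbcP
  · rw [hg]
    intro h
    apply hcR
    have h1 := mul_mem (inv_mem F.d'_mem) h
    have e : b⁻¹ * (b * c) = c := by group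
    rwa [e] at h1

end Cfsg.Agent.FooteRow.FiTwoTwo

end

-- merged: Cfsg.Agent.ClosedTwo.LieTwoInst
section

/-!
Instances of `ClosedTwo/LieTwo.lean` (helper39, S1252).
-/

set_option autoImplicit false

namespace Cfsg.Agent.ClosedTwo.LieTwo

open Cfsg Cfsg.Agent.ClosedTwo Cfsg.Agent.KFacts.RgdFilt Cfsg.Agent.KFacts.RgdLieCharP Cfsg.Agent.ClosedRed

universe u

theorem bend : Bend.{u} := fun _ _ _ _ hna H hH => Cfsg.Agent.StrongEmb.Strong.result hna H hH

/-- **The simple groups of Lie type of characteristic 2**, without hypotheses. -/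
theorem row_lie' {G : Type u} [Group G] [Finite G] [IsSimpleGroup G] (hG : IsLieTypeChar 2 G)
    (hc : ∃ a b : G, a * b ≠ b * a) : Row G := row_lie bend hG hc

theorem row_filt' {G : Type u} [Group G] [Finite G] [IsSimpleGroup G] (hG : HasFilt 2 G)
    (hc : ∃ a b : G, a * b ≠ b * a) : Row G := row_filt bend hG hc

end Cfsg.Agent.ClosedTwo.LieTwo

end

-- merged: Cfsg.Agent.ClosedTwo.Small
section

/-!
`ClosedRow` from `ClosedRed.Row` by the order of the group (helper39, S1252).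

* `exc_card` : the orders of the exceptional groups;
* `closedRow_of_card` : `Row G`, `chk |G| = true` implies `ClosedRow G`;
* `closedRow_lie` : the same for the simple groups of Lie type of characteristic 2.
The check is `by decide +kernel` for `20160`, `25920`, `1451520`, `9999360`, `174182400`.
-/

set_option autoImplicit false

namespace Cfsg.Agent.ClosedTwo.Small

open Cfsg Cfsg.Agent.ClosedTwo Cfsg.Agent.ClosedRed Cfsg.Agent.ClosedTwo.LieTwo

universe u

/-- The orders of `U₃(2^n)` and `Sz(2^n)`. -/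
def bad (N n : ℕ) : Bool :=
  decide (Nat.gcd 3 (2 ^ n + 1) * N = (2 ^ n) ^ 3 * ((2 ^ n) ^ 2 - 1) * ((2 ^ n) ^ 3 + 1)) ||
    decide (N = (2 ^ n) ^ 2 * ((2 ^ n) ^ 2 + 1) * (2 ^ n - 1))

/-- `N` is not the order of an exceptional group and `N < 4 ^ 40`. -/
def chk (N : ℕ) : Bool := decide (N < 4 ^ 40) && (List.range 40).all fun n => decide (n < 2) || !bad N n

theorem exc_card {G : Type*} [Group G] [Finite G] (h : Exc G) :
    ∃ n, 2 ≤ n ∧ bad (Nat.card G) n = true ∧ 4 ^ n ≤ Nat.card G := by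
  have hdvd : ∀ n N : ℕ, 0 < N → (2 ^ n) ^ 2 ∣ N → 4 ^ n ≤ N := by
    intro n N hN hd
    have h1 := Nat.le_of_dvd hN hd
    have h2 : (2 ^ n) ^ 2 = 4 ^ n := by rw [← pow_mul, mul_comm, pow_mul]; norm_num
    rwa [h2] at h1
  rcases h with ⟨F, i1, i2, q, hF, hq, hq4, ⟨e⟩⟩ | ⟨F, i1, i2, m, hm, hF, ⟨e⟩⟩
  · -- `q` is a power of two
    obtain ⟨p, hp⟩ := CharP.exists F
    have hpp : p.Prime := (CharP.char_is_prime_or_zero F p).resolve_right (CharP.char_ne_zero_of_finite F p)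
    obtain ⟨k, _, hk⟩ := FiniteField.card F p
    have h2 : 2 ∣ p ^ (k : ℕ) := by
      rw [← hk, hF]
      exact dvd_pow (even_iff_two_dvd.1 hq) two_ne_zero
    have hp2 : p = 2 := ((Nat.prime_dvd_prime_iff_eq Nat.prime_two hpp).1 (Nat.prime_two.dvd_of_dvd_pow h2)).symm
    subst hp2
    rw [hF] at hk
    obtain ⟨n, hn, rfl⟩ : ∃ n, n ≤ (k : ℕ) ∧ q = 2 ^ n :=
      (Nat.dvd_prime_pow Nat.prime_two).1 (hk ▸ dvd_pow_self q two_ne_zero)
    have hn2 : 2 ≤ n := by
      by_contra h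
      have : n = 0 ∨ n = 1 := by omega
      rcases this with rfl | rfl <;> norm_num at hq4
    have hcard := Cfsg.Agent.S0280.result hF 3 (by norm_num)
    rw [← Nat.card_congr e.toEquiv] at hcard
    have h3 : (∏ i ∈ Finset.range 3, (if Even i then (2 ^ n) ^ (i + 1) + 1 else (2 ^ n) ^ (i + 1) - 1)) =
        (2 ^ n + 1) * (((2 ^ n) ^ 2 - 1) * ((2 ^ n) ^ 3 + 1)) := by
      rw [Finset.prod_range_succ, Finset.prod_range_succ, Finset.prod_range_one]
      have e0 : Even 0 := ⟨0, rfl⟩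
      have e1 : ¬ Even 1 := by decide
      have e2 : Even 2 := ⟨1, rfl⟩
      rw [if_pos e0, if_neg e1, if_pos e2, zero_add, pow_one, mul_assoc]
    rw [h3, show 3 * (3 - 1) / 2 = 3 by norm_num] at hcard
    have h4 : Nat.gcd 3 (2 ^ n + 1) * Nat.card G = (2 ^ n) ^ 3 * ((2 ^ n) ^ 2 - 1) * ((2 ^ n) ^ 3 + 1) := by
      have hpos : 0 < 2 ^ n + 1 := by positivity
      refine Nat.eq_of_mul_eq_mul_left hpos ?_
      calc (2 ^ n + 1) * (Nat.gcd 3 (2 ^ n + 1) * Nat.card G)
          = Nat.gcd 3 (2 ^ n + 1) * ((2 ^ n + 1) * Nat.card G) := by ring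
        _ = (2 ^ n) ^ 3 * ((2 ^ n + 1) * (((2 ^ n) ^ 2 - 1) * ((2 ^ n) ^ 3 + 1))) := hcard
        _ = _ := by ring
    refine ⟨n, hn2, ?_, ?_⟩
    · unfold bad
      rw [decide_eq_true h4, Bool.true_or]
    · refine hdvd n _ Nat.card_pos ?_
      have h5 : (2 ^ n) ^ 2 ∣ Nat.gcd 3 (2 ^ n + 1) * Nat.card G := by
        rw [h4]
        exact ((pow_dvd_pow (2 ^ n) (show 2 ≤ 3 by norm_num)).mul_right _).mul_right _
      have h6 : Nat.Coprime ((2 ^ n) ^ 2) (Nat.gcd 3 (2 ^ n + 1)) := by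
        rw [← pow_mul]
        refine Nat.Coprime.pow_left _ ?_
        refine Nat.Coprime.coprime_dvd_right (Nat.gcd_dvd_left 3 (2 ^ n + 1)) ?_
        norm_num
      exact h6.dvd_of_dvd_mul_left h5
  · have h1 := (Cfsg.Agent.S1163.result hm hF).1
    rw [← Nat.card_congr e.toEquiv] at h1
    refine ⟨2 * m + 1, by omega, ?_, ?_⟩
    · unfold bad
      have h2 : Nat.card G = (2 ^ (2 * m + 1)) ^ 2 * ((2 ^ (2 * m + 1)) ^ 2 + 1) * (2 ^ (2 * m + 1) - 1) := by
        rw [h1]; ring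
      rw [decide_eq_true h2, Bool.or_true]
    · refine hdvd _ _ Nat.card_pos ?_
      rw [h1, mul_assoc]
      exact Dvd.intro _ rfl

/-- `Row` is `ClosedRow` for groups whose order is not that of an exceptional group. -/
theorem closedRow_of_card {G : Type*} [Group G] [Finite G] (h : Row G) {N : ℕ} (hN : Nat.card G = N)
    (hc : chk N = true) : ClosedRow G := by
  rcases h with h | ⟨-, h⟩
  · exact h
  · exfalso
    obtain ⟨n, h2, hb, h4⟩ := exc_card h
    rw [hN] at hb h4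
    unfold chk at hc
    rw [Bool.and_eq_true, List.all_eq_true] at hc
    have h5 : N < 4 ^ 40 := of_decide_eq_true hc.1
    have h6 : n < 40 := by
      by_contra h7
      exact absurd (h4.trans_lt h5) (not_lt.2 (Nat.pow_le_pow_right (by norm_num) (not_lt.1 h7)))
    have h7 := hc.2 n (List.mem_range.2 h6)
    rw [hb] at h7
    have h8 : ¬ n < 2 := by omega
    simp [h8] at h7

/-- The simple groups of Lie type of characteristic 2, by order. -/
theorem closedRow_lie (hB : Bend.{u}) {G : Type u} [Group G] [Finite G] [IsSimpleGroup G] (hG : IsLieTypeChar 2 G)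
    (hna : ∃ a b : G, a * b ≠ b * a) {N : ℕ} (hN : Nat.card G = N) (hc : chk N = true) : ClosedRow G :=
  closedRow_of_card (row_lie hB hG hna) hN hc

theorem chk_l34 : chk 20160 = true := by decide +kernel
theorem chk_u42 : chk 25920 = true := by decide +kernel
theorem chk_sp62 : chk 1451520 = true := by decide +kernel
theorem chk_l52 : chk 9999360 = true := by decide +kernel
theorem chk_o82 : chk 174182400 = true := by decide +kernel

end Cfsg.Agent.ClosedTwo.Small

end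

-- merged: Cfsg.Agent.FooteRow.UFour
section

/-!
# Strongly closed 2-subgroups of `U4(2)` (helper41)
-/

set_option autoImplicit false
set_option linter.style.haveILetI false

namespace Cfsg.Agent.FooteRow.UFour

open Subgroup Cfsg Cfsg.Agent.Foote

/-- a simple group whose order is not a prime is not commutative -/
theorem exists_ne_of_card {G : Type*} [Group G] [Finite G] [IsSimpleGroup G] (h : ¬ (Nat.card G).Prime) :
    ∃ a b : G, a * b ≠ b * a := by
  by_contra hcon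
  push Not at hcon
  letI : CommGroup G := { (inferInstance : Group G) with mul_comm := hcon }
  exact h (IsSimpleGroup.prime_card (α := G))

variable {F : Type} [Field F] [Fintype F]

theorem card_psu (hF : Fintype.card F = 4) : Nat.card (PSU 4 F 2) = 25920 := by
  have h := Cfsg.Agent.S0280.result (F := F) (q := 2) (by rw [hF]; norm_num) 4 (by norm_num)
  have e : (∏ i ∈ Finset.range 4, (if Even i then 2 ^ (i + 1) + 1 else 2 ^ (i + 1) - 1)) = 3 * 3 * 9 * 15 := by
    decide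
  have e2 : Nat.gcd 4 (2 + 1) = 1 := by norm_num
  rw [e, e2] at h
  norm_num at h
  omega

theorem charP_two (hF : Fintype.card F = 4) : CharP F 2 := by
  obtain ⟨p, hp⟩ := CharP.exists F
  have hp' : p.Prime := (CharP.char_is_prime_or_zero F p).resolve_right
    (fun h0 => by subst h0; exact CharP.char_ne_zero_of_finite F 0 rfl)
  obtain ⟨k, hk1, hk2⟩ := FiniteField.card F p
  have h2 : p = 2 := by
    have h1 : p ∣ 2 ^ 2 := by
      rw [show (2 ^ 2 : ℕ) = 4 by norm_num, ← hF, hk2]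
      exact dvd_pow_self p k.pos.ne'
    exact (Nat.prime_dvd_prime_iff_eq hp' Nat.prime_two).mp (hp'.dvd_of_dvd_pow h1)
  rwa [h2] at hp

theorem cr (hF : Fintype.card F = 4) : CR (PSU 4 F 2) := by
  have hF' : Fintype.card F = 2 ^ 2 := by rw [hF]; norm_num
  haveI : IsSimpleGroup (PSU 4 F 2) := Cfsg.Agent.S0283.result (q := 2) hF' 4 (by norm_num) (by norm_num)
  have hc := card_psu hF
  haveI : Finite (PSU 4 F 2) := Nat.finite_of_card_ne_zero (by rw [hc]; norm_num)
  have hna : ∃ a b : PSU 4 F 2, a * b ≠ b * a := exists_ne_of_card (by rw [hc]; norm_num)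
  have hL : IsLieTypeChar 2 (PSU 4 F 2) :=
    Or.inr (Or.inr (Or.inl ⟨F, inferInstance, inferInstance, charP_two hF, 4, 2, hF', by norm_num, by norm_num,
      ⟨MulEquiv.refl _⟩⟩))
  exact cr_of_closedRow (Cfsg.Agent.ClosedTwo.Small.closedRow_lie Cfsg.Agent.ClosedTwo.LieTwo.bend hL hna hc
    Cfsg.Agent.ClosedTwo.Small.chk_u42)

end Cfsg.Agent.FooteRow.UFour

end

-- merged: Cfsg.Agent.FooteRow.FiFinal
section

/-!
# Strongly closed 2-subgroups: the row `Fi22` (helper41)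
-/

set_option autoImplicit false
set_option linter.style.haveILetI false

namespace Cfsg.Agent.FooteRow.FiFinal

open Cfsg Cfsg.Agent.Foote

theorem cr : CR Spor.Fi22 := FiTwoTwo.cr_of fun _ _ _ hE => UFour.cr hE

/-- **the row `Fi22`** -/
theorem closedRow : Cfsg.Agent.ClosedTwo.ClosedRow Spor.Fi22 := by
  haveI : Finite Spor.Fi22 := Cfsg.Agent.R08.AutT.finite
  exact cr.closedRow

end Cfsg.Agent.FooteRow.FiFinal

end

-- merged: Cfsg.Agent.ClosedSpor.McLLy
section

/-!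
# S1252: the rows `McL` and `Ly` (helper39)

One class of involutions, `C(t) = 2.A₈`, `2.A₁₁`.
-/

set_option autoImplicit false
set_option linter.style.haveILetI false

namespace Cfsg.Agent.ClosedSpor

open Subgroup Equiv Cfsg Cfsg.Agent.TwoFusion.ClosedFam Cfsg.Agent.ClosedTwo Cfsg.Agent.Foote
open Cfsg.Agent.TypeM.Two Cfsg.Agent.TypeM.CoverTools Cfsg.Agent.SporRec.TwoAn

variable {G : Type*} [Group G]

/-- with one class of involutions the centralizer of an involution has odd index -/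
theorem not_two_dvd_of_one [Finite G] {t : G} (ht : t * t = 1) (ht1 : t ≠ 1)
    (hone : ∀ s : G, s * s = 1 → s ≠ 1 → ∃ g, g * t * g⁻¹ = s) : ¬ 2 ∣ (centralizer ({t} : Set G)).index := by
  haveI : Fact (Nat.Prime 2) := ⟨Nat.prime_two⟩
  obtain ⟨S⟩ : Nonempty (Sylow 2 G) := inferInstance
  have htwo : TwoEl t := ⟨1, by rw [pow_one, pow_two, ht]⟩
  obtain ⟨g₀, hg₀⟩ := htwo.exists_conj_mem S
  haveI : Nontrivial (S : Subgroup G) := by
    refine ⟨⟨⟨g₀ * t * g₀⁻¹, hg₀⟩, 1, ?_⟩⟩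
    intro h
    have h1 : g₀ * t * g₀⁻¹ = 1 := congrArg Subtype.val h
    apply ht1
    have : t = g₀⁻¹ * (g₀ * t * g₀⁻¹) * g₀ := by group
    rw [this, h1]; group
  have hc : Nontrivial (center (S : Subgroup G)) := S.2.center_nontrivial
  obtain ⟨b, hb⟩ : ∃ b : center (S : Subgroup G), orderOf b = 2 := by
    apply exists_prime_orderOf_dvd_card' 2
    obtain ⟨n, hn⟩ := (S.2.to_subgroup (center (S : Subgroup G))).exists_card_eq
    have h1 : Nat.card (center (S : Subgroup G)) ≠ 1 := fun h => by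
      have := Finite.one_lt_card_iff_nontrivial.2 hc
      omega
    rw [hn] at h1 ⊢
    rcases Nat.eq_zero_or_pos n with h2 | h2
    · rw [h2, pow_zero] at h1
      exact absurd rfl h1
    · exact dvd_pow_self 2 h2.ne'
  have hbb : ((b : (S : Subgroup G)) : G) * ((b : (S : Subgroup G)) : G) = 1 := by
    have h1 : b ^ 2 = 1 := (orderOf_dvd_iff_pow_eq_one).1 (dvd_of_eq hb)
    rw [pow_two] at h1
    exact congrArg (fun x : center (S : Subgroup G) => ((x : (S : Subgroup G)) : G)) h1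
  have hb1 : ((b : (S : Subgroup G)) : G) ≠ 1 := by
    intro h
    have h1 : b = 1 := Subtype.ext (Subtype.ext h)
    rw [h1, orderOf_one] at hb
    omega
  obtain ⟨g, hg⟩ := hone _ hbb hb1
  have hS : (S : Subgroup G).map (MulAut.conj g⁻¹).toMonoidHom ≤ centralizer ({t} : Set G) := by
    rintro _ ⟨x, hx, rfl⟩
    rw [mem_centralizer_singleton_iff]
    have h1 : x * (g * t * g⁻¹) = (g * t * g⁻¹) * x := by
      rw [hg]
      exact congrArg Subtype.val (mem_center_iff.1 b.2 ⟨x, hx⟩)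
    show g⁻¹ * x * g⁻¹⁻¹ * t = t * (g⁻¹ * x * g⁻¹⁻¹)
    have h2 := congrArg (fun y => g⁻¹ * y * g) h1
    simp only [mul_assoc, inv_mul_cancel, mul_one, inv_mul_cancel_left] at h2
    simp only [mul_assoc, inv_inv]
    exact h2
  intro h2
  have h3 := h2.trans (index_dvd_of_le hS)
  have h4 : ((S : Subgroup G).map (MulAut.conj g⁻¹).toMonoidHom).index = (S : Subgroup G).index :=
    index_map_equiv (S : Subgroup G) (MulAut.conj g⁻¹)
  rw [h4] at h3
  exact S.not_dvd_index h3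

variable {n : ℕ}

/-- the projection of `C(t)` onto the alternating group -/
def proj (L : MT n G) : centralizer ({L.t} : Set G) →* alternatingGroup (Fin n) :=
  L.K.π.codRestrict (alternatingGroup (Fin n)) L.K.mem_alternating

theorem proj_surj (L : MT n G) : Function.Surjective (proj L) := by
  intro y
  obtain ⟨g, hg⟩ := L.K.exists_lift y.2
  exact ⟨g, Subtype.ext hg⟩

theorem proj_ker (L : MT n G) (x : centralizer ({L.t} : Set G)) : proj L x = 1 ↔ x = 1 ∨ x = L.K.z := by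
  rw [← L.K.ker x]
  exact ⟨fun h => congrArg Subtype.val h, fun h => Subtype.ext h⟩

/-- another involution of `C(t)` -/
theorem exists_other (hn : 8 ≤ n) (L : MT n G) : ∃ u : centralizer ({L.t} : Set G), u * u = 1 ∧ u ≠ 1 ∧ u ≠ L.K.z := by
  have hf : ∀ i : ℕ, i < 8 → i < n := fun i hi => lt_of_lt_of_le hi hn
  set p : Fin 8 → Fin n := fun i => ⟨i, hf i i.2⟩ with hp
  have hne : ∀ {i j : Fin 8}, i ≠ j → p i ≠ p j := fun {i j} h h1 => h (Fin.ext (Fin.mk.inj_iff.1 h1))
  obtain ⟨g, hg⟩ := L.K.exists_lift (Cover.swap_mul_swap_mem (p 0) (p 1) (p 2) (p 3) (hne (by decide)) (hne (by decide)))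
  obtain ⟨h, hh⟩ := L.K.exists_lift (Cover.swap_mul_swap_mem (p 4) (p 5) (p 6) (p 7) (hne (by decide)) (hne (by decide)))
  have hgg : g * g = L.K.z := L.K.dbl (p 0) (p 1) (p 2) (p 3) (hne (by decide)) (hne (by decide)) (hne (by decide))
    (hne (by decide)) (hne (by decide)) (hne (by decide)) g hg
  have hhh : h * h = L.K.z := L.K.dbl (p 4) (p 5) (p 6) (p 7) (hne (by decide)) (hne (by decide)) (hne (by decide))
    (hne (by decide)) (hne (by decide)) (hne (by decide)) h hh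
  have hdis : (L.K.π g).Disjoint (L.K.π h) := by
    rw [hg, hh]
    have d1 : ∀ i j k l : Fin 8, i ≠ k → i ≠ l → j ≠ k → j ≠ l → (swap (p i) (p j)).Disjoint (swap (p k) (p l)) := by
      intro i j k l h1 h2 h3 h4 x
      by_cases hx : x = p i ∨ x = p j
      · right
        rcases hx with rfl | rfl
        · exact swap_apply_of_ne_of_ne (hne h1) (hne h2)
        · exact swap_apply_of_ne_of_ne (hne h3) (hne h4)
      · left
        exact swap_apply_of_ne_of_ne (fun h => hx (Or.inl h)) (fun h => hx (Or.inr h))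
    exact (Perm.Disjoint.mul_left
      ((d1 0 1 4 5 (by decide) (by decide) (by decide) (by decide)).mul_right
        (d1 0 1 6 7 (by decide) (by decide) (by decide) (by decide)))
      ((d1 2 3 4 5 (by decide) (by decide) (by decide) (by decide)).mul_right
        (d1 2 3 6 7 (by decide) (by decide) (by decide) (by decide))))
  have hc : g * h = h * g := L.K.commute_of_disjoint hdis
  have hπ : L.K.π (g * h) ≠ 1 := by
    intro h1
    rw [map_mul, hg, hh] at h1
    have h2 := congrArg (fun σ : Perm (Fin n) => σ (p 0)) h1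
    simp only [Perm.mul_apply, Perm.one_apply] at h2
    rw [swap_apply_of_ne_of_ne (a := p 6) (b := p 7) (hne (by decide)) (hne (by decide)),
      swap_apply_of_ne_of_ne (a := p 4) (b := p 5) (hne (by decide)) (hne (by decide)),
      swap_apply_of_ne_of_ne (a := p 2) (b := p 3) (hne (by decide)) (hne (by decide)), swap_apply_left] at h2
    exact hne (by decide) h2
  refine ⟨g * h, ?_, ?_, ?_⟩
  · calc g * h * (g * h) = g * (h * g) * h := by group
      _ = g * g * (h * h) := by rw [← hc]; group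
      _ = 1 := by rw [hgg, hhh, L.K.z_mul_z]
  · intro h1
    rw [h1, map_one] at hπ
    exact hπ rfl
  · intro h1
    rw [h1, L.K.π_z] at hπ
    exact hπ rfl

/-- the groups of type `2.A_n`, `n ≥ 8` -/
theorem cr_mt [Finite G] [IsSimpleGroup G] (hna : ¬ ∀ a b : G, a * b = b * a) (hn : 8 ≤ n) (L : MT n G) : CR G := by
  refine cr_of_cover (perfect_of_simple hna) (H := centralizer ({L.t} : Set G))
    (not_two_dvd_of_one L.t_mul_t L.t_ne L.one) (cr_of_closedRow Cfsg.Agent.ClosedTwo.Alt.closedRow) (proj L)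
    (proj_surj L) L.K.z (proj_ker L) ?_
  obtain ⟨u, hu, hu1, huz⟩ := exists_other hn L
  have huu : (u : G) * u = 1 := congrArg Subtype.val hu
  have hu1' : (u : G) ≠ 1 := fun h => hu1 (Subtype.ext h)
  obtain ⟨k, hk⟩ := L.one u huu hu1'
  refine ⟨k, ?_, ?_, ?_⟩
  · rw [L.hz, hk]; exact u.2
  · rw [L.hz, hk]; exact hu1'
  · rw [L.hz, hk]
    intro h
    exact huz (Subtype.ext (by rw [h, L.hz]))

theorem not_comm_of_mt (hn : 8 ≤ n) (L : MT n G) : ¬ ∀ a b : G, a * b = b * a := by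
  intro h
  obtain ⟨u, hu, hu1, huz⟩ := exists_other hn L
  have huu : (u : G) * u = 1 := congrArg Subtype.val hu
  have hu1' : (u : G) ≠ 1 := fun h => hu1 (Subtype.ext h)
  obtain ⟨k, hk⟩ := L.one u huu hu1'
  apply huz
  apply Subtype.ext
  rw [L.hz, ← hk, h k L.t]
  group

/-- **The row `McL`** of S1252. -/
theorem closedRow_mcl {X : Type*} [Group X] (h : Spor.IsoMcL X) : ClosedRow X := by
  obtain ⟨hf, hs, -, ⟨L⟩⟩ := Cfsg.Agent.TypeM.FactsMcL.facts h
  exact (cr_mt (not_comm_of_mt (by norm_num) L) (by norm_num) L).closedRow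

/-- **The row `Ly`** of S1252. -/
theorem closedRow_ly {X : Type*} [Group X] (h : Spor.IsoLy X) : ClosedRow X := by
  obtain ⟨hf, hs, -, ⟨L⟩⟩ := Cfsg.Agent.TypeM.FactsLy.facts h
  exact (cr_mt (not_comm_of_mt (by norm_num) L) (by norm_num) L).closedRow

end Cfsg.Agent.ClosedSpor

end

-- merged: Cfsg.Agent.ClosedSpor.ONan
section

/-!
# S1252: the row `O'N` (helper39)

One class of involutions; the Sylow `2`-subgroup `⟨c, d, g⟩⟨s⟩` is generated by the involutions `c`, `d`, `cdcdg`, `s`.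
-/

set_option autoImplicit false
set_option maxRecDepth 100000

namespace Cfsg.Agent.ClosedSpor.ONan

open Subgroup Cfsg Cfsg.Agent.ClosedTwo Cfsg.Agent.Foote Cfsg.Agent.ClosedSpor
open Cfsg.Spor (ON)
open Cfsg.Agent.ONType Cfsg.Agent.ONType.TupRow Cfsg.Agent.ONType.TupT0 Cfsg.Agent.ONType.TupS
open Cfsg.Agent.KFacts.ON.OneClass
open Cfsg.Agent.SporadicRecognition.CosetCert (ev ev_nil ev_cons ev_append)

theorem conj_all {s t : ON} (hs : s * s = 1) (hs1 : s ≠ 1) (ht : t * t = 1) (ht1 : t ≠ 1) : IsConj s t :=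
  (one_class hs hs1).trans (one_class ht ht1).symm

theorem gJ_mem {i : ℕ} (hi : i < 4) : gJ i ∈ T0 := subset_closure ⟨i, hi, rfl⟩

theorem ff0 : gJ 0 * gJ 0 = 1 := (hinv hs 0 (by show (0 : ℕ) < 4; omega)).2

theorem ff1 : gJ 1 * gJ 1 = 1 := (hinv hs 1 (by show (1 : ℕ) < 4; omega)).2

theorem ff23 : gJ 2 * gJ 3 = 1 := (hinv hs 2 (by show (2 : ℕ) < 4; omega)).2

theorem ev_three : ev gJ [0, 1, 0, 1, 2] = gJ 0 * gJ 1 * gJ 0 * gJ 1 * gJ 2 := by
  simp only [ev_cons, ev_nil, mul_one, mul_assoc]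

theorem sq_of_isConj {x y : ON} (h : IsConj x y) (hy : y * y = 1) : x * x = 1 := by
  obtain ⟨g, hg⟩ := isConj_iff.1 h
  have h1 : x = g⁻¹ * y * g := by rw [← hg]; group
  calc x * x = g⁻¹ * (y * y) * g := by rw [h1]; group
    _ = 1 := by rw [hy]; group

theorem three_sq : (gJ 0 * gJ 1 * gJ 0 * gJ 1 * gJ 2) * (gJ 0 * gJ 1 * gJ 0 * gJ 1 * gJ 2) = 1 := by
  rw [← ev_three]
  exact sq_of_isConj r3 (Cfsg.Agent.ONType.TupleClass.ff hs)

theorem sylow_gen {B : Subgroup ON} (hB : ∀ t ∈ TupS.S hs, t * t = 1 → t ∈ B) : TupS.S hs ≤ B := by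
  have hT : T0 ≤ TupS.S hs := T0_le_S hs
  have h0 : gJ 0 ∈ B := hB _ (hT (gJ_mem (by omega))) ff0
  have h1 : gJ 1 ∈ B := hB _ (hT (gJ_mem (by omega))) ff1
  have h012 : gJ 0 * gJ 1 * gJ 0 * gJ 1 * gJ 2 ∈ B := hB _ (hT (T0.mul_mem (T0.mul_mem (T0.mul_mem (T0.mul_mem
    (gJ_mem (by omega)) (gJ_mem (by omega))) (gJ_mem (by omega))) (gJ_mem (by omega))) (gJ_mem (by omega)))) three_sq
  have h2 : gJ 2 ∈ B := by
    have h3 : gJ 0 * gJ 1 * gJ 0 * gJ 1 ∈ B := B.mul_mem (B.mul_mem (B.mul_mem h0 h1) h0) h1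
    exact (B.mul_mem_cancel_left h3).1 h012
  have h3 : gJ 3 ∈ B := by
    rw [← inv_eq_of_mul_eq_one_right ff23]
    exact B.inv_mem h2
  have hTB : T0 ≤ B := by
    unfold T0
    rw [closure_le]
    rintro _ ⟨i, hi, rfl⟩
    have hi4 : i < 4 := hi
    interval_cases i
    · exact h0
    · exact h1
    · exact h2
    · exact h3
  have hsB : TupS.s ∈ B := hB _ (mem_S.2 (Or.inr (by rw [ss hs]; exact T0.one_mem))) (ss hs)
  intro x hx
  rcases mem_S.1 hx with h4 | h4
  · exact hTB h4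
  · exact (B.mul_mem_cancel_right hsB).1 (hTB h4)

theorem cr : CR ON := by
  have hf : Finite ON := finite_ON
  obtain ⟨P, hP⟩ := exists_sylow
  refine cr_of_invol (fun s t h1 h2 h3 h4 => conj_all h1 h2 h3 h4) P fun B hB => ?_
  rw [hP]
  refine sylow_gen fun t ht htt => hB t ?_ htt
  have h1 : t ∈ (P : Subgroup ON) := by rw [hP]; exact ht
  exact h1

/-- **The row `O'N`** of S1252. -/
theorem closedRow {X : Type*} [Group X] (h : Spor.IsoON X) : ClosedRow X := by
  obtain ⟨e⟩ := h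
  have hf : Finite ON := finite_ON
  have hX : Finite X := Finite.of_equiv _ e.symm.toEquiv
  exact (cr.of_equiv e).closedRow

end Cfsg.Agent.ClosedSpor.ONan

end

-- merged: Cfsg.Agent.ClosedSpor.CoThree
section

/-!
# S1252: the row `Co₃` (helper39)

`C(Z) = 2·Sp₆(2)` has odd index.
-/

set_option autoImplicit false
set_option linter.style.haveILetI false

namespace Cfsg.Agent.ClosedSpor.CoThree

open Subgroup Cfsg Cfsg.Agent.ClosedTwo Cfsg.Agent.Foote Cfsg.Agent.ClosedSpor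
open Cfsg.Agent.SporRec.TwoSp6.Sp (S card_S)
open Cfsg.Agent.SporRec.Co3.Chain (G3 isCo3_G3)
open Cfsg.Agent.SporRec.Co3.Ident (Z)
open Cfsg.Agent.SporRec.Co3.Fusion (tC)

/-- **`Sp₆(2)`** -/
theorem closedRow_psp : ClosedRow (PSp 3 (ZMod 2)) := by
  have hs : IsSimpleGroup (PSp 3 (ZMod 2)) := Cfsg.Agent.S0270.result 3 (by norm_num) (by norm_num)
  have hcard : Nat.card (PSp 3 (ZMod 2)) = 1451520 := by
    rw [← Nat.card_congr Cfsg.Agent.KFacts.Co3.AutM.ePSp.toEquiv]
    exact card_S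
  have hlie : IsLieTypeChar 2 (PSp 3 (ZMod 2)) :=
    Or.inr (Or.inl ⟨ZMod 2, inferInstance, inferInstance, inferInstance, 3, by norm_num, by norm_num, ⟨MulEquiv.refl _⟩⟩)
  have hna : ∃ a b : PSp 3 (ZMod 2), a * b ≠ b * a := by
    by_contra hcon
    push Not at hcon
    letI : CommGroup (PSp 3 (ZMod 2)) := { (inferInstance : Group (PSp 3 (ZMod 2))) with mul_comm := hcon }
    have h1 : IsSimpleGroup (PSp 3 (ZMod 2)) := hs
    have h2 := IsSimpleGroup.prime_card (α := PSp 3 (ZMod 2))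
    rw [hcard] at h2
    exact absurd h2 (by norm_num)
  exact Small.closedRow_of_card (LieTwo.row_lie' hlie hna) hcard Small.chk_sp62

theorem cr_S : CR S := (cr_of_closedRow closedRow_psp).of_equiv Cfsg.Agent.KFacts.Co3.AutM.ePSp

theorem cr : CR G3 := by
  have hs : IsSimpleGroup G3 := isCo3_G3.1
  have hf : Finite G3 := Cfsg.Agent.KFacts.Co3.Syl.finite_G3
  obtain ⟨π, N⟩ := Cfsg.Agent.KFacts.Co3D4.exists_NS_G3
  obtain ⟨hO, hZ⟩ := Cfsg.Agent.KFacts.Co3D4.core_center Cfsg.Agent.KFacts.Co3D4.orderOf_Z N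
  obtain ⟨a, b, hab⟩ := Cfsg.Agent.KFacts.Co3D4.exists_not_comm N
  obtain ⟨g, hg, hg'⟩ := Cfsg.Agent.SporRec.Co3.Fusion.exists_fused Cfsg.Agent.KFacts.Co3D4.orderOf_Z hO hZ
  have hodd : ¬ 2 ∣ (centralizer ({Z} : Set G3)).index := by
    have h := Cfsg.Agent.KFacts.Co3.Syl.odd_index
    exact fun h2 => (Nat.not_even_iff_odd.2 h) (even_iff_two_dvd.2 h2)
  refine cr_of_cover (perfect_of_simple fun h => hab (h a b)) hodd cr_S π N.surj (tC Z) (fun x => ⟨N.ker x, ?_⟩) ?_
  · rintro (rfl | rfl)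
    · exact map_one π
    · exact N.map_z
  · refine ⟨g, ?_, ?_, hg⟩
    · rw [mem_centralizer_singleton_iff]
      exact hg'
    · intro h
      apply Cfsg.Agent.SporRec.Co3.Fusion.t_ne N
      have h1 : Z = g⁻¹ * (g * Z * g⁻¹) * g := by group
      have h2 : g * Z * g⁻¹ = 1 := h
      rw [h1, h2]; group

/-- **The row `Co₃`** of S1252. -/
theorem closedRow {X : Type*} [Group X] (h : Spor.IsoCo3 X) : ClosedRow X := by
  obtain ⟨e⟩ := h
  have e' : X ≃* G3 := e.trans Cfsg.Agent.SporRec.Co3.Model.equivCo3.symm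
  have hf : Finite G3 := Cfsg.Agent.KFacts.Co3.Syl.finite_G3
  have hX : Finite X := Finite.of_equiv _ e'.symm.toEquiv
  exact (cr.of_equiv e').closedRow

end Cfsg.Agent.ClosedSpor.CoThree

end

-- merged: Cfsg.Agent.ClosedSpor.FiTTh
section

/-!
# S1252: the row `Fi₂₃` (helper39)

`C(z₀) = 2·Fi₂₂` has odd index; the row `Fi₂₂` is a hypothesis.
-/

set_option autoImplicit false

namespace Cfsg.Agent.ClosedSpor.FiTTh

open Subgroup Cfsg Cfsg.Agent.ClosedTwo Cfsg.Agent.Foote Cfsg.Agent.ClosedSpor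
open Cfsg.Spor (Fi22 Fi23)
open Cfsg.Agent.R08.FiTwentyThree
open Cfsg.Agent.Fischer.Fi23Hom (gen)
open Cfsg.Agent.Fischer.Fi23Class (K)
open Cfsg.Agent.Fischer.Fi23Z (z0)

theorem index_K : K.index = 31671 := by
  have h : (Cfsg.Agent.SporRec.Fi23Index.H : Subgroup Fi23).index = 31671 := by
    rw [← Cfsg.Agent.Fischer.Fi23Simple.H_eq_index]
    exact Cfsg.Agent.Fischer.Fi23Simple.index_H
  exact h

theorem cr (h22 : CR Fi22) : CR Fi23 := by
  have hf : Finite Fi23 := finite_fi23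
  have hs : IsSimpleGroup Fi23 := Cfsg.Agent.Fischer.Fi23Simple.isFi23.1
  have hodd : ¬ 2 ∣ K.index := by rw [index_K]; norm_num
  have hna : ¬ ∀ a b : Fi23, a * b = b * a := by
    intro h
    exact Cfsg.Agent.Fischer.Fi23Class.z0_ncomm (h _ _)
  have hz1 : z0 ≠ 1 := ne_one_D z0_mem_D
  refine cr_of_cover (perfect_of_simple hna) hodd h22 pi pi_surjective zK pi_ker ?_
  obtain ⟨k, hk⟩ := isConj_iff.1 (show IsConj z0 (gen .a) from gen_mem_D .a)
  have haK : (gen .a : Fi23) ∈ K := Cfsg.Agent.Fischer.Fi23Class.gen_mem_K .a (by decide)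
  refine ⟨k, ?_, ?_, ?_⟩
  · rw [coe_zK, hk]; exact haK
  · rw [coe_zK, hk]; exact ne_one_D (gen_mem_D .a)
  · rw [coe_zK, hk]
    intro h
    apply Cfsg.Agent.Fischer.Fi23Class.z0_ncomm
    rw [← h]
    exact Cfsg.Agent.Fischer.Fi23Class.gen_comm .a .j (by decide)

/-- **The row `Fi₂₃`** of S1252. -/
theorem closedRow (h22 : ClosedRow Fi22) {X : Type*} [Group X] (h : Spor.IsoFi23 X) : ClosedRow X := by
  obtain ⟨e⟩ := h
  have hf : Finite Fi23 := finite_fi23
  have hX : Finite X := Finite.of_equiv _ e.symm.toEquiv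
  have hf22 : Finite Fi22 := Finite.of_surjective pi pi_surjective
  exact ((cr (cr_of_closedRow h22)).of_equiv e).closedRow

end Cfsg.Agent.ClosedSpor.FiTTh

end

-- merged: Cfsg.Agent.ClosedRed.SporAll
section

/-!
# Foote's theorem (S1252): the rows of the sporadic groups, without `B` and `M` (helper86)
-/

set_option autoImplicit false

namespace Cfsg.Agent.ClosedRed.SporAll

open Subgroup Cfsg Cfsg.Agent.ClosedTwo Cfsg.Agent.ClosedRed

universe u

variable {G : Type u} [Group G] [Finite G]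

theorem of_cr' {M : Type} [Group M] (e : Nonempty (G ≃* M)) (h : Cfsg.Agent.Foote.CR M) : ClosedRow G := by
  obtain ⟨f⟩ := e
  have : Finite M := Finite.of_equiv G f.toEquiv
  exact of_closedRow ⟨f⟩ h.closedRow

theorem m22 (h : Spor.IsoM22 G) : ClosedRow G := of_cr' h Cfsg.Agent.Foote.Row.MM.cr22

theorem m23 (h : Spor.IsoM23 G) : ClosedRow G := of_cr' h Cfsg.Agent.Foote.Row.MM.cr23

theorem m24 (h : Spor.IsoM24 G) : ClosedRow G := of_cr' h Cfsg.Agent.Foote.Row.MTwentyFour.cr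

theorem j1 (h : Spor.IsoJ1 G) : ClosedRow G := Cfsg.Agent.Foote.CR.closedRow (Cfsg.Agent.Foote.Row.JOne.cr h)

theorem fi23 (h : Spor.IsoFi23 G) : ClosedRow G :=
  Cfsg.Agent.ClosedSpor.FiTTh.closedRow Cfsg.Agent.FooteRow.FiFinal.closedRow h

variable [IsSimpleGroup G] (hna : ¬ IsMulCommutative G) (ih : Cfsg.Agent.Foote.IndCR.{0} (Nat.card G))

include hna in
theorem perf : commutator G = ⊤ :=
  Cfsg.Agent.Foote.perfect_of_simple fun hc => hna ⟨⟨fun a b => hc a b⟩⟩

include hna in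
theorem m11 (h : Spor.IsoM11 G) : ClosedRow G :=
  Cfsg.Agent.Foote.CR.closedRow (Cfsg.Agent.Foote.Row.MEleven.cr h (perf hna))

include hna in
theorem m12 (h : Spor.IsoM12 G) : ClosedRow G :=
  Cfsg.Agent.Foote.CR.closedRow (Cfsg.Agent.Foote.Row.MTwelve.cr h (perf hna))

include hna in
theorem j4 (h : Spor.IsoJ4 G) : ClosedRow G :=
  Cfsg.Agent.Foote.CR.closedRow (Cfsg.Agent.Foote.Row.JFour.cr h (perf hna) Cfsg.Agent.Foote.Row.MM.cr22)

include hna ih

theorem suz (h : Spor.IsoSuz G) : ClosedRow G :=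
  of_cr hna ih h fun h1 h2 => Cfsg.Agent.Foote.Row.Suz.cr h1 h2

theorem co1 (h : Spor.IsoCo1 G) : ClosedRow G :=
  of_cr hna ih h fun h1 h2 => Cfsg.Agent.Foote.Row.CoOne.cr h1 h2

theorem co2 (h : Spor.IsoCo2 G) : ClosedRow G :=
  of_cr hna ih h fun h1 h2 => Cfsg.Agent.Foote.Row.CoTwo.cr h1 h2

theorem th (h : Spor.IsoTh G) : ClosedRow G :=
  of_cr hna ih h fun h1 _ => Cfsg.Agent.Foote.Row.Th.cr h1

theorem hn (h : Spor.IsoHN G) : ClosedRow G :=
  of_cr hna ih h fun h1 _ => Cfsg.Agent.Foote.Row.HN.cr h1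

theorem fi24 (h : Spor.IsoFi24' G) : ClosedRow G :=
  of_cr hna ih h fun h1 h2 => Cfsg.Agent.Foote.Row.FiTF.cr h1 h2

theorem j3 (h : Spor.IsoJ3 G) : ClosedRow G := by
  obtain ⟨F, iF, iT, w, h1, h2, e⟩ := h
  exact of_cr hna ih e fun h3 h4 => Cfsg.Agent.Foote.Row.JThree.cr ⟨F, iF, iT, w, h1, h2, ⟨MulEquiv.refl _⟩⟩ h3 h4

theorem j2 (h : Spor.IsoJ2 G) : ClosedRow G := by
  have e := h
  obtain ⟨f⟩ := h
  have : Finite Spor.J2 := Finite.of_equiv G f.toEquiv
  exact of_cr hna ih e fun h3 h4 => Cfsg.Agent.Foote.Row.JThree.jtwo ⟨MulEquiv.refl _⟩ h3 h4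

end Cfsg.Agent.ClosedRed.SporAll

end

-- merged: Cfsg.Agent.ClosedRed.Big
section

/-!
# Foote's theorem (S1252): the rows of `B` and `M` (helper86, from helper29's models)
-/

set_option autoImplicit false

namespace Cfsg.Agent.ClosedRed.Big

open Subgroup Cfsg Cfsg.Agent.ClosedTwo Cfsg.Agent.ClosedRed Cfsg.Agent.MonsterX Cfsg.Agent.MonsterX.MainPack
  Cfsg.Agent.MonsterX.Model

universe u

theorem not_prime_of_comm {X : Type*} [Group X] [Finite X] [hs : IsSimpleGroup X] (hc : ∀ a b : X, a * b = b * a) :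
    (Nat.card X).Prime := by
  let _ : CommGroup X := { mul_comm := hc }
  exact @IsSimpleGroup.prime_card X _ hs

variable {G : Type u} [Group G] [Finite G] [IsSimpleGroup G] (hna : ¬ IsMulCommutative G)
  (ih : Cfsg.Agent.Foote.IndCR.{0} (Nat.card G))

include hna ih

theorem b (h : Spor.IsoB G) : ClosedRow G := by
  obtain ⟨e⟩ := Cfsg.Agent.KFacts.Baby.RowB.exists_iso h
  exact of_cr hna ih ⟨e.symm⟩ fun h1 h2 => Cfsg.Agent.Foote.Row.Baby.cr_model h1 h2

theorem m (h : Spor.IsoM G) : ClosedRow G := by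
  have A := MonsterU.Uncond.all
  refine of_cr hna ih h fun h1 h2 => ?_
  obtain ⟨e⟩ := MonsterP.Equiv.equiv
  refine Cfsg.Agent.Foote.Row.Monster.cr_of A.hG A.hR A.hL A.hO A.hT ⟨e.symm⟩ h1 ?_
  have hco := Cfsg.Agent.KFacts.MonsterE.simple_Co1
  have hf := Cfsg.Agent.MonsterX.MainBasic.G_finite A.hO
  obtain ⟨π, D⟩ := Cfsg.Agent.KFacts.MonsterE.data_model A.hG A.hR A.hL A.hO A.hT
  have hle : Nat.card Spor.Co1 ≤ Nat.card Spor.Monster := by
    rw [Nat.card_congr e.toEquiv]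
    exact (Nat.card_le_card_of_surjective π D.surj).trans (Subgroup.card_le_card_group _)
  have hp : commutator Spor.Co1 = ⊤ := by
    refine Cfsg.Agent.Foote.perfect_of_simple fun hc => ?_
    have h3 : Nat.card Spor.Co1 = 4157776806543360000 := Cfsg.Agent.S0399.result.2
    have h4 := not_prime_of_comm hc
    rw [h3] at h4
    norm_num at h4
  exact Cfsg.Agent.Foote.Row.CoOne.cr hp (h2.mono hle)

end Cfsg.Agent.ClosedRed.Big

end

-- merged: Cfsg.Agent.ClosedTwo.OverInst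
section

/-!
The instances of `ClosedTwo/Over.lean` (helper39, S1252).
-/

set_option autoImplicit false

namespace Cfsg.Agent.ClosedTwo

open Subgroup Cfsg
open Cfsg.Agent.SignalizersComponents Cfsg.Agent.SignalizersComponents.Components

universe u

theorem comm : Comm.{u} := fun _ _ _ P A B hAB hA hB =>
  Cfsg.Agent.TwoFusion.ClosedCommutator.commutator_le P A B hAB hA hB

theorem resid : Resid.{u} := fun _ _ _ hO S T hT => Cfsg.Agent.S1173.result hO S T hT

/-- A component of an overgroup of a Sylow 2-subgroup meets it in the strongly closed subgroup. -/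
theorem comp_le' {G : Type u} [Group G] [Finite G] [IsSimpleGroup G] (hna : ¬ IsMulCommutative G) (S : Sylow 2 G)
    {A : Subgroup G} (hA : IsStronglyClosed A (S : Subgroup G)) (hA1 : A ≠ ⊥) {M K : Subgroup G}
    (hSM : (S : Subgroup G) ≤ M) (hKM : K ≤ M) (hK : IsComponent (K.subgroupOf M))
    (hrow : ClosedRow (↥(K.subgroupOf M) ⧸ center ↥(K.subgroupOf M))) : (S : Subgroup G) ⊓ K ≤ A :=
  comp_le comm resid hna S hA hA1 hSM hKM hK hrow

/-- A perfect subgroup of the centralizer of a nontrivial strongly closed 2-subgroup of a simple group is trivial. -/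
theorem not_perfect_le' {G : Type u} [Group G] [Finite G] [IsSimpleGroup G] (hna : ¬ IsMulCommutative G)
    (S : Sylow 2 G) {A : Subgroup G} (hA : IsStronglyClosed A (S : Subgroup G)) (hA1 : A ≠ ⊥) {K : Subgroup G}
    (hK : Group.IsPerfect K) (hKA : K ≤ centralizer (A : Set G)) : K = ⊥ :=
  not_perfect_le resid hna S hA hA1 hK hKA

/-- `A` strongly closed in `S`, `K` a component with `K/Z(K)` a row: `S ∩ K ≤ A` or `[A, K] = 1`. -/
theorem dich' {X : Type u} [Group X] [Finite X] {S : Sylow 2 X} {A K : Subgroup X}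
    (hA : IsStronglyClosed A (S : Subgroup X)) (hK : IsComponent K) (hrow : ClosedRow (K ⧸ center K)) :
    (S : Subgroup X) ⊓ K ≤ A ∨ K ≤ centralizer (A : Set X) := dich comm hA hK hrow

end Cfsg.Agent.ClosedTwo

end

-- merged: Cfsg.Agent.FooteExc.Ree
section

/-!
# S1252: the row `²G₂(q)` (helper86)

One class of involutions, elementary abelian Sylow 2-subgroups.
-/

set_option autoImplicit false

namespace Cfsg.Agent.FooteExc.Ree

open Subgroup Cfsg

/-- one class of involutions and Sylow `2`-subgroups of exponent two -/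
theorem closedRow_of_one_class {G : Type*} [Group G] [Finite G]
    (h1 : ∀ s t : G, s ≠ 1 → t ≠ 1 → s * s = 1 → t * t = 1 → ∃ g : G, g * s * g⁻¹ = t)
    (h2 : ∀ S : Sylow 2 G, ∀ x ∈ S, x * x = 1) : Cfsg.Agent.ClosedTwo.ClosedRow G := by
  intro S A hA
  by_cases hA1 : A = ⊥
  · exact Or.inl hA1
  right
  obtain ⟨t, htA, ht2, ht1⟩ := Cfsg.Agent.ClosedTwo.Elem.exists_involution hA hA1
  refine le_antisymm hA.1 fun x hx => ?_
  by_cases hx1 : x = 1
  · rw [hx1]; exact one_mem _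
  · obtain ⟨g, hg⟩ := h1 t x ht1 hx1 ht2 (h2 S x hx)
    have := hA.2 t htA g (by rw [hg]; exact hx)
    rwa [hg] at this

theorem closedRow_model {K : Type} [Field K] [Fintype K] {m : ℕ} (hm : 1 ≤ m) (hK : Fintype.card K = 3 ^ (2 * m + 1)) :
    Cfsg.Agent.ClosedTwo.ClosedRow ↥(Lie.twistedG2 K (3 ^ m)) := by
  have hchar := S1157.charP_three hK
  obtain ⟨a, haH, ha1, ha2⟩ := S1157.exists_involution hK
  obtain ⟨⟨e⟩, hS⟩ := Cfsg.Agent.S1152.result hK a haH ha1 ha2
  have hc := LieRecognition.ReeCent.centData ha1 ha2 e LieRecognition.ReePSL.klein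
  have key : ∀ t : ↥(Lie.twistedG2 K (3 ^ m)), t ≠ 1 → t * t = 1 → ∃ g, g * a * g⁻¹ = t := fun t ht ht2 =>
    LieRecognition.ReeInv.isConj_involution hc LieRecognition.ReePSL.klein (Cfsg.Agent.S1116.result hK hm) hS ht ht2
  refine closedRow_of_one_class ?_ fun S => (hS S).2
  intro s t hs ht hs2 ht2
  obtain ⟨g, hg⟩ := key s hs hs2
  obtain ⟨k, hk⟩ := key t ht ht2
  refine ⟨k * g⁻¹, ?_⟩
  rw [← hg, ← hk]
  group

/-- **The row `²G₂(q)`.** -/
theorem closedRow {G : Type*} [Group G] (h : Lie.IsoRee G) : Cfsg.Agent.ClosedTwo.ClosedRow G := by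
  obtain ⟨K, iK, iFin, m, hm, hK, ⟨e⟩⟩ := h
  exact (closedRow_model hm hK).congr e.symm

end Cfsg.Agent.FooteExc.Ree

end

-- merged: Cfsg.Agent.ClosedRed.AllRows
section

/-!
# Foote's theorem (S1252): all rows (helper86)
-/

set_option autoImplicit false

namespace Cfsg.Agent.ClosedRed.AllRows

open Subgroup Cfsg Cfsg.Agent.ClosedTwo Cfsg.Agent.ClosedRed

universe u

/-- **All rows** (the Tits group as hypothesis). -/
theorem rows_of {X : Type u} [Group X] [Finite X] [IsSimpleGroup X] (hna : ¬ IsMulCommutative X)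
    (ih : Cfsg.Agent.Foote.IndCR.{0} (Nat.card X)) (htits : Lie.IsoTits X → ClosedRow X) :
    Rows X where
  char h := Cfsg.Agent.ClosedTwo.LieTwo.row_lie' h (by
    by_contra hc
    push Not at hc
    exact hna ⟨⟨hc⟩⟩)
  odd r hr h2 := LieAll.lieRows hr h2
  ree h := Cfsg.Agent.FooteExc.Ree.closedRow h
  tits := htits
  m11 h := SporAll.m11 hna h
  m12 h := SporAll.m12 hna h
  m22 h := SporAll.m22 h
  m23 h := SporAll.m23 h
  m24 h := SporAll.m24 h
  j1 h := SporAll.j1 h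
  j2 h := SporAll.j2 hna ih h
  j3 h := SporAll.j3 hna ih h
  j4 h := SporAll.j4 hna h
  co1 h := SporAll.co1 hna ih h
  co2 h := SporAll.co2 hna ih h
  co3 h := Cfsg.Agent.ClosedSpor.CoThree.closedRow h
  mcl h := Cfsg.Agent.ClosedSpor.closedRow_mcl h
  hs h := Cfsg.Agent.Foote.Row.HS.closedRow h
  suz h := SporAll.suz hna ih h
  he h := Cfsg.Agent.Foote.Row.He.closedRow h
  ru h := of_closedRow h Cfsg.Agent.FooteRow.Ru.closedRow
  on h := Cfsg.Agent.ClosedSpor.ONan.closedRow h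
  ly h := Cfsg.Agent.ClosedSpor.closedRow_ly h
  fi22 h := of_closedRow h Cfsg.Agent.FooteRow.FiFinal.closedRow
  fi23 h := SporAll.fi23 h
  fi24 h := SporAll.fi24 hna ih h
  hn h := SporAll.hn hna ih h
  th h := SporAll.th hna ih h
  b h := Big.b hna ih h
  m h := Big.m hna ih h

end Cfsg.Agent.ClosedRed.AllRows

end

-- merged: Cfsg.Agent.Foote.TitsAbs
section

/-!
# Foote's theorem, simple case: the Tits group, abstract part (helper29)

`cr_of_data`: the conjugates of `z` and `d` in `S` generate a subgroup `A₀` with `S = A₀⟨s⟩`.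
-/

set_option autoImplicit false
set_option linter.style.haveILetI false

namespace Cfsg.Agent.Foote.TitsAbs

open Subgroup Cfsg.Agent.TwoFusion.ClosedFam

variable {G : Type*} [Group G] [Finite G] {T S : Subgroup G}

theorem exists_sylow (hS2 : IsPGroup 2 S) (hodd : ¬ 2 ∣ S.relIndex T) :
    ∃ P : Sylow 2 T, (P : Subgroup T) = S.subgroupOf T := by
  have h1 : IsPGroup 2 (S.subgroupOf T) := hS2.comap_of_injective _ T.subtype_injective
  obtain ⟨P, hP⟩ := h1.exists_le_sylow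
  obtain ⟨Q, hQ⟩ := exists_sylow_le (G := T) (H := S.subgroupOf T) hodd
  refine ⟨P, ?_⟩
  have h2 : Nat.card P = Nat.card Q := P.card_eq_multiplicity.trans Q.card_eq_multiplicity.symm
  have h3 : Nat.card Q ≤ Nat.card (S.subgroupOf T) := Nat.card_le_card_of_injective _ (inclusion_injective hQ)
  symm
  apply eq_of_le_of_card_ge hP
  rw [h2]
  exact h3

theorem cr_of_data (hST : S ≤ T) (hS2 : IsPGroup 2 S) (hodd : ¬ 2 ∣ S.relIndex T) (hp : commutator T = ⊤)
    {z d : G} (hcen : ∀ u ∈ S, (∀ c ∈ S, u * c = c * u) → u = 1 ∨ u = z) {LA LB : Set G}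
    (hA : ∀ a ∈ LA, a ∈ S ∧ ∃ t ∈ T, t * a * t⁻¹ = z) (hB : ∀ a ∈ LB, a ∈ S ∧ ∃ t ∈ T, t * a * t⁻¹ = d)
    {a b : G} (ha : a ∈ LA) (hb : b ∈ LA) (hab : a * b = d) {X : Set G} (hX : S ≤ closure X) {s : G} (hs : s ∈ S)
    (hXs : ∀ x ∈ X, x ∈ S ∧ ∃ n : ℤ, x * s ^ n ∈ closure (LA ∪ LB)) : CR T := by
  intro 𝒜 h
  by_cases ht : Triv 𝒜
  · exact Or.inl ht
  right
  obtain ⟨P, hP⟩ := exists_sylow hS2 hodd
  have hmP : ∀ x : T, x ∈ P ↔ (x : G) ∈ S := fun x => by
    rw [← mem_subgroupOf, ← hP]; exact Iff.rfl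
  obtain ⟨y, hy, hy1, -, hyP, hyc⟩ := exists_central h ht P
  -- the set of the elements of `S` in the family
  set A : Subgroup G := (fam 𝒜 (P : Subgroup T)).map T.subtype with hAdef
  have hmA : ∀ x : G, x ∈ A ↔ ∃ hx : x ∈ T, (⟨x, hx⟩ : T) ∈ 𝒜 ∧ x ∈ S := by
    intro x
    constructor
    · rintro ⟨w, hw, rfl⟩
      obtain ⟨h1, h2⟩ := (h.mem_fam_iff P.2).1 hw
      exact ⟨w.2, h1, (hmP w).1 h2⟩
    · rintro ⟨hx, h1, h2⟩
      exact ⟨⟨x, hx⟩, mem_fam h1 ((hmP _).2 h2), rfl⟩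
  have hz : ∃ hz : z ∈ T, (⟨z, hz⟩ : T) ∈ 𝒜 := by
    have h1 : (y : G) = 1 ∨ (y : G) = z := hcen y ((hmP y).1 hyP) fun c hc =>
      (congrArg (fun t : T => (t : G)) (hyc ⟨c, hST hc⟩ ((hmP _).2 hc))).symm
    rcases h1 with h1 | h1
    · exact absurd (Subtype.ext h1) hy1
    · refine ⟨by rw [← h1]; exact y.2, ?_⟩
      have e : (⟨z, by rw [← h1]; exact y.2⟩ : T) = y := Subtype.ext h1.symm
      rw [e]; exact hy
  have key : ∀ {w : G}, (∃ hw : w ∈ T, (⟨w, hw⟩ : T) ∈ 𝒜) → ∀ {x : G}, x ∈ S → (∃ t ∈ T, t * x * t⁻¹ = w) → x ∈ A := by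
    rintro w ⟨hw, hwA⟩ x hx ⟨t, ht, htx⟩
    rw [hmA]
    refine ⟨hST hx, ?_, hx⟩
    have h1 := h.conj_mem _ hwA (⟨t, ht⟩⁻¹ : T)
    have e : (⟨t, ht⟩⁻¹ : T) * ⟨w, hw⟩ * (⟨t, ht⟩⁻¹ : T)⁻¹ = ⟨x, hST hx⟩ := by
      apply Subtype.ext
      show t⁻¹ * w * t⁻¹⁻¹ = x
      rw [← htx]; group
    rwa [e] at h1
  have hAA : ∀ x ∈ LA, x ∈ A := fun x hx => key hz (hA x hx).1 (hA x hx).2
  have hd : d ∈ A := by rw [← hab]; exact mul_mem (hAA a ha) (hAA b hb)
  have hd' : ∃ hd : d ∈ T, (⟨d, hd⟩ : T) ∈ 𝒜 := by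
    obtain ⟨h1, h2, -⟩ := (hmA d).1 hd
    exact ⟨h1, h2⟩
  have hBA : ∀ x ∈ LB, x ∈ A := fun x hx => key hd' (hB x hx).1 (hB x hx).2
  have hle : closure (LA ∪ LB) ≤ A := by
    rw [closure_le]
    rintro x (hx | hx)
    · exact hAA x hx
    · exact hBA x hx
  have hXT : X ⊆ T := fun x hx => hST (hXs x hx).1
  refine full_of_gen hp h P (X := {x : T | (x : G) ∈ X}) (s := ⟨s, hST hs⟩) ?_ ((hmP _).2 hs) ?_
  · apply map_injective T.subtype_injective
    rw [MonoidHom.map_closure, hP, subgroupOf_map_subtype, inf_eq_left.2 hST]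
    have e : (T.subtype '' {x : T | (x : G) ∈ X}) = X := by
      ext x
      constructor
      · rintro ⟨w, hw, rfl⟩
        exact hw
      · intro hx
        exact ⟨⟨x, hXT hx⟩, hx, rfl⟩
    rw [e]
    refine le_antisymm hX ?_
    rw [closure_le]
    exact fun x hx => (hXs x hx).1
  · intro x hx
    obtain ⟨-, n, hn⟩ := hXs x hx
    obtain ⟨h1, h2, -⟩ := (hmA _).1 (hle hn)
    refine ⟨n, ?_⟩
    have e : x * (⟨s, hST hs⟩ : T) ^ n = ⟨(x : G) * s ^ n, h1⟩ := Subtype.ext (by simp)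
    rw [e]; exact h2

end Cfsg.Agent.Foote.TitsAbs

end

-- merged: Cfsg.Agent.Foote.Row.Tits
section

/-!
# Foote's theorem, simple case: the Tits group (helper29)

In the codes of `TitsK`: the conjugates of `z` and `d` in `S = UT ⊓ TT` generate a subgroup of index 2 of `S`.
-/

set_option autoImplicit false
set_option Elab.async false

namespace Cfsg.Agent.Foote.Row.Tits

open Subgroup Cfsg Cfsg.Lie Cfsg.Agent.TitsK Cfsg.Agent.ChevalleyStructure.TwF4.Tables
open Cfsg.Agent.FourTwo.Base hiding bar bar_lt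
open Cfsg.Agent.FourTwo.BN Cfsg.Agent.FourTwo.Comm Cfsg.Agent.FourTwo.Classes
open Cfsg.Agent.FourTwo.UCode (mulU invU conjU)

/-- sifting: `e` is a product of the generators -/
def sft (e : ℕ) : List (ℕ × ℕ) → ℕ → Bool
  | [], c => Nat.beq c e
  | q :: l, c => cond (Nat.beq (c % q.1) (e % q.1)) (sft e l c) (sft e l (mulU c q.2))

theorem sft_spec {H : Subgroup LL} {e : ℕ} {l : List (ℕ × ℕ)} (hl : ∀ q ∈ l, ec q.2 ∈ H) {c : ℕ}
    (h : sft e l c = true) (hc : ec c ∈ H) : ec e ∈ H := by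
  induction l generalizing c with
  | nil =>
    rw [sft] at h
    rwa [Nat.eq_of_beq_eq_true h] at hc
  | cons q l ih =>
    have ih' := @ih fun q' hq' => hl q' (List.mem_cons_of_mem _ hq')
    rw [sft] at h
    cases hb : Nat.beq (c % q.1) (e % q.1) with
    | true =>
      rw [hb] at h
      exact ih' h hc
    | false =>
      rw [hb] at h
      refine ih' h ?_
      rw [ec_mulU]
      exact mul_mem hc (hl q List.mem_cons_self)

def sfL : List (ℕ × ℕ) := [(2, 513), (4, 74), (8, 263172), (32, 80), (64, 1179680), (256, 4196480), (512, 8448),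
  (8192, 266240), (32768, 540672), (65536, 2129920), (131072, 4259840), (2097152, 9437184)]

theorem sfL_ok : ∀ q ∈ sfL, ∃ g ∈ gens12, g.1 = q.2 := by decide +kernel

def okU (e : ℕ) : Bool := sft e sfL 0

theorem mem_UT_of {e : ℕ} (h : okU e = true) : ec e ∈ UT := by
  refine sft_spec ?_ h (by rw [ec_zero]; exact one_mem _)
  intro q hq
  obtain ⟨g, hg, h1⟩ := sfL_ok q hq
  rw [← h1]
  exact gens_mem g hg

theorem chk_true : allU (fun _ => true) = true := by decide +kernel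

theorem mem_TT_iff {c : ℕ} (hc : c < 2 ^ 24) (h : ec c ∈ UT) : ec c ∈ TT ↔ parB c = false := by
  obtain ⟨e, he, h1, h2, -⟩ := UT_all chk_true h
  have h3 : c = e := ec_inj hc he h1
  rw [h3] at h2 ⊢
  exact h2

def inS (e : ℕ) : Bool := okU e && (Nat.blt e 16777216 && !parB e)

theorem mem_ST {e : ℕ} (h : inS e = true) : ec e ∈ UT ⊓ TT := by
  rw [inS, Bool.and_eq_true, Bool.and_eq_true, Bool.not_eq_true', Nat.blt_eq] at h
  exact ⟨mem_UT_of h.1, (mem_TT_iff h.2.1 (mem_UT_of h.1)).2 h.2.2⟩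

theorem inS_LA : ∀ e ∈ LA, inS e = true := by decide +kernel
theorem inS_LB : ∀ e ∈ LB, inS e = true := by decide +kernel

/-- the element `s` outside the subgroup generated by the involutions -/
def sc : ℕ := 7212062

/-- generators of `ST` -/
def XL : List ℕ := [0, 80, 513, 8448, 12165, 263662, 266240, 540672, 1179706, 1179754, 2129920, 4196554, 4204954,
  4259840, 6389760, 7196672, 7212062, 9437184, 12107776]

theorem inS_XL : ∀ e ∈ XL, inS e = true := by decide +kernel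

/-- products of codes -/
def prU (l : List ℕ) : ℕ := l.foldl mulU 0

theorem ec_foldl (l : List ℕ) (c : ℕ) : ec (l.foldl mulU c) = ec c * (l.map ec).prod := by
  induction l generalizing c with
  | nil => simp
  | cons a l ih => rw [List.foldl_cons, ih, ec_mulU, List.map_cons, List.prod_cons, mul_assoc]

theorem ec_prU (l : List ℕ) : ec (prU l) = (l.map ec).prod := by rw [prU, ec_foldl, ec_zero, one_mul]

def certL : List (ℕ × ℤ × List ℕ) := [(0, 0, []), (80, 0, [80]), (513, 0, [513]), (8448, 0, [8448]),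
  (12165, 0, [12165]), (263662, 1, [7196672]), (266240, 0, [266240]), (540672, 0, [540672]),
  (1179706, -1, [16509857, 12119941]), (1179754, 1, [16509857, 141093]), (2129920, 0, [2129920]),
  (4196554, 1, [12374529, 10118949]), (4204954, -1, [1997729, 6530853]), (4259840, 0, [4259840]),
  (6389760, 0, [6389760]), (7196672, 0, [7196672]), (7212062, 1, [14678512]), (9437184, 0, [9437184]),
  (12107776, 0, [12107776])]

def certB (q : ℕ × ℤ × List ℕ) : Bool :=
  (q.2.2.all fun e => LA.contains e || LB.contains e) &&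
  ((q.2.1 == 0 && Nat.beq q.1 (prU q.2.2)) || (q.2.1 == 1 && Nat.beq (mulU q.1 sc) (prU q.2.2)) ||
    (q.2.1 == -1 && Nat.beq q.1 (mulU (prU q.2.2) sc)))

theorem cert_ok : ∀ x ∈ XL, ∃ q ∈ certL, q.1 = x ∧ certB q = true := by decide +kernel

def SA : Set LL := {x | ∃ e ∈ LA, x = ec e}
def SB : Set LL := {x | ∃ e ∈ LB, x = ec e}
def SX : Set LL := {x | ∃ e ∈ XL, x = ec e}

theorem cert_spec {x : ℕ} (hx : x ∈ XL) : ∃ n : ℤ, ec x * ec sc ^ n ∈ Subgroup.closure (SA ∪ SB) := by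
  obtain ⟨⟨x', n, l⟩, hq, rfl, h⟩ := cert_ok x hx
  refine ⟨n, ?_⟩
  rw [certB, Bool.and_eq_true, List.all_eq_true] at h
  obtain ⟨h1, h2⟩ := h
  have hl : ec (prU l) ∈ Subgroup.closure (SA ∪ SB) := by
    rw [ec_prU]
    refine Subgroup.list_prod_mem (Subgroup.closure (SA ∪ SB)) fun y hy => ?_
    obtain ⟨e, he, hey⟩ := List.mem_map.1 hy
    rw [← hey]
    have h3 := h1 e he
    rw [Bool.or_eq_true, List.contains_iff_mem, List.contains_iff_mem] at h3
    rcases h3 with h3 | h3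
    · exact Subgroup.subset_closure (Or.inl ⟨e, h3, rfl⟩)
    · exact Subgroup.subset_closure (Or.inr ⟨e, h3, rfl⟩)
  rw [Bool.or_eq_true, Bool.or_eq_true, Bool.and_eq_true, Bool.and_eq_true, Bool.and_eq_true, beq_iff_eq,
    beq_iff_eq, beq_iff_eq] at h2
  simp only at h2 ⊢
  rcases h2 with (⟨rfl, h2⟩ | ⟨rfl, h2⟩) | ⟨rfl, h2⟩
  · rw [zpow_zero, mul_one, Nat.eq_of_beq_eq_true h2]; exact hl
  · rw [zpow_one, ← ec_mulU, Nat.eq_of_beq_eq_true h2]; exact hl
  · rw [Nat.eq_of_beq_eq_true h2, ec_mulU, zpow_neg_one, mul_inv_cancel_right]; exact hl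

theorem gens_XL : ∀ g ∈ gens12, (g.2 = false → g.1 ∈ XL ∧ conjU 74 g.1 ∈ XL) ∧
    (g.2 = true → mulU 74 g.1 ∈ XL ∧ ∃ e ∈ XL, mulU e 74 = g.1) := by decide +kernel

theorem ST_le : UT ⊓ TT ≤ Subgroup.closure SX := by
  have hm : ∀ e ∈ XL, ec e ∈ Subgroup.closure SX := fun e he => Subgroup.subset_closure ⟨e, he, rfl⟩
  have hle : Subgroup.closure SX ≤ TT := by
    rw [Subgroup.closure_le]
    rintro _ ⟨e, he, rfl⟩
    exact (mem_ST (inS_XL e he)).2
  rintro u ⟨hu, huT⟩
  have h1 : u ∈ Subgroup.closure SX ∨ u * (ec 74)⁻¹ ∈ Subgroup.closure SX := by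
    refine UT_induct (P := fun u => u ∈ Subgroup.closure SX ∨ u * (ec 74)⁻¹ ∈ Subgroup.closure SX) (Or.inl (one_mem _)) ?_ hu
    rintro a ⟨g, b⟩ hg ha
    obtain ⟨hgf, hgt⟩ := gens_XL _ hg
    simp only at hgf hgt ⊢
    cases b with
    | false =>
      obtain ⟨h2, h3⟩ := hgf rfl
      have h4 := hm _ h3
      rw [ec_conjU] at h4
      rcases ha with ha | ha
      · exact Or.inl (mul_mem ha (hm _ h2))
      · right
        have e : a * ec g * (ec 74)⁻¹ = a * (ec 74)⁻¹ * (ec 74 * ec g * (ec 74)⁻¹) := by group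
        rw [e]
        exact mul_mem ha h4
    | true =>
      obtain ⟨h2, e', he', h3⟩ := hgt rfl
      have h4 := hm _ h2
      rw [ec_mulU] at h4
      rcases ha with ha | ha
      · right
        rw [← h3, ec_mulU]
        have e : a * (ec e' * ec 74) * (ec 74)⁻¹ = a * ec e' := by group
        rw [e]
        exact mul_mem ha (hm _ he')
      · left
        have e : a * ec g = a * (ec 74)⁻¹ * (ec 74 * ec g) := by group
        rw [e]
        exact mul_mem ha h4
  rcases h1 with h1 | h1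
  · exact h1
  · exfalso
    have h2 := TT.mul_mem (TT.inv_mem (hle h1)) huT
    have e : (u * (ec 74)⁻¹)⁻¹ * u = ec 74 := by group
    rw [e] at h2
    exact t74 h2

theorem cr_model (hp : commutator TT = ⊤) : CR TT := by
  refine TitsAbs.cr_of_data (S := UT ⊓ TT) (z := z) (d := d) (LA := SA) (LB := SB) (a := ec 7196672)
    (b := ec 5066752) (X := SX) (s := ec sc) inf_le_right (isPGroup_UT.to_le inf_le_left) odd_ST hp ?_ ?_ ?_ ?_ ?_ ?_
    ST_le ?_ ?_
  · exact fun u hu h => tdata.cent_S u hu.1 h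
  · rintro _ ⟨e, he, rfl⟩
    exact ⟨mem_ST (inS_LA e he), LA_spec e he⟩
  · rintro _ ⟨e, he, rfl⟩
    exact ⟨mem_ST (inS_LB e he), LB_spec e he⟩
  · exact ⟨_, by decide +kernel, rfl⟩
  · exact ⟨_, by decide +kernel, rfl⟩
  · rw [← ec_mulU]
    have h : mulU 7196672 5066752 = 2129920 := by decide +kernel
    rw [h]; rfl
  · exact mem_ST (inS_XL _ (by decide +kernel))
  · rintro _ ⟨e, he, rfl⟩
    exact ⟨mem_ST (inS_XL e he), cert_spec he⟩

theorem cr {X : Type*} [Group X] (h : Lie.IsoTits X) (hp : commutator X = ⊤) : CR X := by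
  obtain ⟨e⟩ := h
  obtain ⟨e'⟩ := exists_equiv
  exact (cr_model (perfect_map (e.trans e') hp)).of_equiv (e.trans e')

end Cfsg.Agent.Foote.Row.Tits

end

-- merged: Cfsg.Agent.ClosedRed.Inst
section

/-!
# Foote's theorem (S1252): the final statement, modulo the classification (helper86)
-/

set_option autoImplicit false

namespace Cfsg.Agent.ClosedRed.Inst

open Subgroup Cfsg Cfsg.Agent.ClosedTwo Cfsg.Agent.ClosedRed

universe u

theorem tits {X : Type u} [Group X] [Finite X] [IsSimpleGroup X] (hna : ¬ IsMulCommutative X)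
    (h : Lie.IsoTits X) : ClosedRow X :=
  Cfsg.Agent.Foote.CR.closedRow (Cfsg.Agent.Foote.Row.Tits.cr h (SporAll.perf hna))

/-- **All rows**, given the induction hypothesis. -/
theorem rowsInd : Final.RowsInd.{u} := fun _ _ _ _ hna ih => AllRows.rows_of hna ih (tits hna)

/-- **S1252** from the classification. -/
theorem of_classification
    (h0 : ∀ (X : Type) [Group X] [Finite X] [IsSimpleGroup X], IsKnownSimple' X)
    (h1 : ∀ (X : Type u) [Group X] [Finite X] [IsSimpleGroup X], IsKnownSimple' X)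
    {G : Type u} [Group G] [Finite G] (S : Sylow 2 G) (A : Subgroup G) (hA : IsStronglyClosed A (S : Subgroup G))
    (hns : Even (A.relIndex (Subgroup.normalClosure (A : Set G))))
    (hO : ∀ N : Subgroup G, N.Normal → N ≠ ⊥ → Even ((A ⊓ N).relIndex N)) :
    A ≠ ⊥ ∧ ∃ (r : ℕ) (L : Fin r → Subgroup G),
      (∀ i j, i ≠ j → ∀ a ∈ L i, ∀ b ∈ L j, a * b = b * a) ∧
      (∀ i, L i ⊓ (⨆ j ∈ {j | j ≠ i}, L j) = ⊥) ∧
      (⨆ i, L i) = Subgroup.normalClosure (A : Set G) ∧
      (∀ i, IsSimpleGroup ↥(L i) ∧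
        ((∃ (F : Type) (_ : Field F) (_ : Fintype F) (q : ℕ), Fintype.card F = q ^ 2 ∧ Even q ∧ 4 ≤ q ∧
          Nonempty (↥(L i) ≃* Cfsg.PSU 3 F q)) ∨ Cfsg.IsSuzuki ↥(L i))) ∧
      (∀ i, ∃ P : Sylow 2 ↥(L i),
        (A ⊓ L i) = ((Subgroup.center (P : Subgroup ↥(L i))).map (P : Subgroup ↥(L i)).subtype).map (L i).subtype) :=
  Final.of_rowsInd Cfsg.Agent.ClosedTwo.comm h0 h1 rowsInd rowsInd S A hA hns hO

end Cfsg.Agent.ClosedRed.Inst

end
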